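import Cfsg.Agent.Lib.Components.GenFitting
import Mathlib.GroupTheory.Transfer
/-!
# `p`-components and the `p`-layer
-/

set_option autoImplicit false

namespace Cfsg.Agent.Lib.Components

open Subgroup
open scoped commutatorElement

variable {G : Type*} [Group G]

/-! ## Cores of subnormal subgroups and of quotients -/

theorem map_pPrimeCore_subtype_le [Finite G] (p : ℕ) {K : Subgroup G} (hK : K.IsSubnormal) :
    (pPrimeCore p ↥K).map K.subtype ≤ pPrimeCore p G := by
  induction hK with
  | top =>
    refine le_pPrimeCore ?_ ?_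
    · have : (⊤ : Subgroup G).Normal := inferInstance
      infer_instance
    · rw [Subgroup.card_map_of_injective (Subgroup.subtype_injective _)]
      exact pPrimeCore_coprime p
  | step K M hKM _ hKn ih =>
    let A := K.subgroupOf M
    have hAn : A.Normal := hKn
    have h1 : (pPrimeCore p ↥A).map A.subtype ≤ pPrimeCore p ↥M := by
      refine le_pPrimeCore inferInstance ?_
      rw [Subgroup.card_map_of_injective A.subtype_injective]
      exact pPrimeCore_coprime p
    refine le_trans ?_ ((map_mono h1).trans ih)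
    rintro _ ⟨x, hx, rfl⟩
    let e : ↥K ≃* ↥A := (Subgroup.subgroupOfEquivOfLe hKM).symm
    exact ⟨(e x : ↥M), ⟨e x, map_pPrimeCore_le p e ⟨x, hx, rfl⟩, rfl⟩, rfl⟩

theorem map_pCore_subtype_le [Finite G] (p : ℕ) {K : Subgroup G} (hK : K.IsSubnormal) :
    (pCore p ↥K).map K.subtype ≤ pCore p G := by
  induction hK with
  | top =>
    refine le_pCore ?_ ((pCore_isPGroup p).map _)
    have : (⊤ : Subgroup G).Normal := inferInstance
    infer_instance
  | step K M hKM _ hKn ih =>
    let A := K.subgroupOf M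
    have hAn : A.Normal := hKn
    have h1 : (pCore p ↥A).map A.subtype ≤ pCore p ↥M :=
      le_pCore inferInstance ((pCore_isPGroup p).map _)
    refine le_trans ?_ ((map_mono h1).trans ih)
    rintro _ ⟨x, hx, rfl⟩
    let e : ↥K ≃* ↥A := (Subgroup.subgroupOfEquivOfLe hKM).symm
    exact ⟨(e x : ↥M), ⟨e x, map_pCore_le p e ⟨x, hx, rfl⟩, rfl⟩, rfl⟩

/-- A subnormal subgroup of order prime to `p` lies in the `p'`-core. -/
theorem le_pPrimeCore_of_subnormal [Finite G] {p : ℕ} {H : Subgroup G} (hH : H.IsSubnormal)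
    (h : (Nat.card ↥H).Coprime p) : H ≤ pPrimeCore p G := by
  refine le_trans ?_ (map_pPrimeCore_subtype_le p hH)
  intro x hx
  exact ⟨⟨x, hx⟩, le_pPrimeCore (N := (⊤ : Subgroup ↥H)) inferInstance
    (by rwa [Subgroup.card_top]) (mem_top _), rfl⟩

/-- A subnormal `p`-subgroup lies in the `p`-core. -/
theorem le_pCore_of_subnormal [Finite G] {p : ℕ} {H : Subgroup G} (hH : H.IsSubnormal)
    (h : IsPGroup p ↥H) : H ≤ pCore p G := by
  refine le_trans ?_ (map_pCore_subtype_le p hH)
  intro x hx
  exact ⟨⟨x, hx⟩, le_pCore (N := (⊤ : Subgroup ↥H)) inferInstance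
    (h.to_subgroup _) (mem_top _), rfl⟩

/-- `O_{p'}(H) = H ∩ O_{p'}(G)` for subnormal `H`. -/
theorem map_pPrimeCore_subtype [Finite G] (p : ℕ) {H : Subgroup G} (hH : H.IsSubnormal) :
    (pPrimeCore p ↥H).map H.subtype = H ⊓ pPrimeCore p G := by
  refine le_antisymm (le_inf (map_subtype_le _) (map_pPrimeCore_subtype_le p hH)) ?_
  intro x hx
  refine ⟨⟨x, hx.1⟩, ?_, rfl⟩
  refine le_pPrimeCore (N := (H ⊓ pPrimeCore p G).subgroupOf H) ?_ ?_ hx
  · rw [inf_subgroupOf_left]; infer_instance
  · rw [Nat.card_congr (Subgroup.subgroupOfEquivOfLe inf_le_left).toEquiv]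
    exact Nat.Coprime.coprime_dvd_left (Subgroup.card_dvd_of_le inf_le_right) (pPrimeCore_coprime p)

theorem card_eq_card_map_mul {G' : Type*} [Group G'] (f : G →* G') (H : Subgroup G) :
    Nat.card ↥H = Nat.card ↥(H.map f) * Nat.card ↥(f.ker.subgroupOf H) := by
  have h1 := (f.comp H.subtype).ker.card_mul_index
  rw [Subgroup.index_ker, MonoidHom.range_comp, range_subtype, ← MonoidHom.comap_ker] at h1
  rw [mul_comm]
  exact h1.symm

theorem pPrimeCore_quotient_eq_bot [Finite G] (p : ℕ) :
    pPrimeCore p (G ⧸ pPrimeCore p G) = ⊥ := by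
  set q := QuotientGroup.mk' (pPrimeCore p G)
  have hq : Function.Surjective q := QuotientGroup.mk'_surjective _
  set T := (pPrimeCore p (G ⧸ pPrimeCore p G)).comap q with hT
  have hc : (Nat.card ↥T).Coprime p := by
    rw [card_eq_card_map_mul q T, Subgroup.map_comap_eq_self_of_surjective hq]
    refine (pPrimeCore_coprime p).mul_left (Nat.Coprime.coprime_dvd_left ?_
      (pPrimeCore_coprime (G := G) p))
    rw [QuotientGroup.ker_mk']
    have hle : pPrimeCore p G ≤ T := fun x hx => by
      rw [hT, Subgroup.mem_comap]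
      convert Subgroup.one_mem _
      exact (QuotientGroup.eq_one_iff x).mpr hx
    rw [Nat.card_congr (Subgroup.subgroupOfEquivOfLe hle).toEquiv]
  rw [← Subgroup.map_comap_eq_self_of_surjective hq (pPrimeCore p (G ⧸ pPrimeCore p G)),
    Subgroup.map_eq_bot_iff, QuotientGroup.ker_mk']
  exact le_pPrimeCore inferInstance hc

theorem fittingSubgroup_eq_pCore [Finite G] (p : ℕ) [hp : Fact p.Prime]
    (h : pPrimeCore p G = ⊥) : fittingSubgroup G = pCore p G := by
  refine le_antisymm (fittingSubgroup_le_iSup_pCore.trans (iSup_le fun q => ?_))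
    (pCore_le_fittingSubgroup p)
  rcases eq_or_ne (q : ℕ) p with hq | hq
  · rw [hq]
  · refine le_trans ?_ bot_le
    rw [← h]
    refine le_pPrimeCore inferInstance ?_
    have : Fact (q : ℕ).Prime := ⟨q.2⟩
    obtain ⟨n, hn⟩ := IsPGroup.iff_card.mp (pCore_isPGroup (G := G) (q : ℕ))
    rw [hn]
    exact ((Nat.coprime_primes q.2 hp.out).mpr hq).pow_left n

/-! ## The subgroup generated by the `p`-elements of a subgroup -/

/-- The subgroup generated by the elements of `p`-power order of `H`. -/
def genPElements (p : ℕ) (H : Subgroup G) : Subgroup G :=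
  Subgroup.closure {x | x ∈ H ∧ ∃ k : ℕ, x ^ p ^ k = 1}

theorem genPElements_le (p : ℕ) (H : Subgroup G) : genPElements p H ≤ H :=
  (Subgroup.closure_le _).mpr fun _ hx => hx.1

theorem map_genPElements_mulEquiv {G' : Type*} [Group G'] (p : ℕ) (e : G ≃* G') (H : Subgroup G) :
    (genPElements p H).map e.toMonoidHom = genPElements p (H.map e.toMonoidHom) := by
  rw [genPElements, MonoidHom.map_closure, genPElements]
  congr 1
  ext y
  constructor
  · rintro ⟨x, ⟨hx, k, hk⟩, rfl⟩
    exact ⟨⟨x, hx, rfl⟩, k, by rw [← map_pow, hk, map_one]⟩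
  · rintro ⟨⟨x, hx, rfl⟩, k, hk⟩
    refine ⟨x, ⟨hx, k, e.injective ?_⟩, rfl⟩
    rw [map_pow, map_one]
    exact hk

theorem normalizer_le_normalizer_genPElements (p : ℕ) (H : Subgroup G) :
    normalizer (H : Set G) ≤ normalizer (genPElements p H : Set G) := by
  intro g hg
  rw [mem_normalizer_iff_map_conj] at hg ⊢
  rw [map_genPElements_mulEquiv, hg]

theorem isSubnormal_genPElements (p : ℕ) {H : Subgroup G} (hH : H.IsSubnormal) :
    (genPElements p H).IsSubnormal :=
  Subgroup.IsSubnormal.step _ H (genPElements_le p H) hH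
    (normal_subgroupOf_of_le_normalizer
      (le_normalizer.trans (normalizer_le_normalizer_genPElements p H)))

/-- A `p`-element in the image of a subgroup is the image of a `p`-element of the subgroup. -/
theorem exists_pElement_lift [Finite G] {G' : Type*} [Group G'] (p : ℕ) [hp : Fact p.Prime]
    (f : G →* G') {H : Subgroup G} {y : G'} (hy : y ∈ H.map f) (hyp : ∃ k : ℕ, y ^ p ^ k = 1) :
    ∃ x ∈ H, (∃ k : ℕ, x ^ p ^ k = 1) ∧ f x = y := by
  obtain ⟨x, hxH, rfl⟩ := hy
  obtain ⟨k, hk⟩ := hyp
  obtain ⟨a, m, hm, hord⟩ :=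
    Nat.exists_eq_pow_mul_and_not_dvd (orderOf_pos x).ne' p hp.out.ne_one
  have hcop : m.Coprime (orderOf (f x)) :=
    Nat.Coprime.coprime_dvd_right (orderOf_dvd_of_pow_eq_one hk)
      ((hp.out.coprime_iff_not_dvd.mpr hm).symm.pow_right k)
  obtain ⟨c, hc⟩ := exists_pow_eq_self_of_coprime hcop
  refine ⟨(x ^ m) ^ c, pow_mem (pow_mem hxH m) c, ⟨a, ?_⟩, by rw [map_pow, map_pow, hc]⟩
  rw [← pow_mul, ← pow_mul, show m * (c * p ^ a) = orderOf x * c by rw [hord]; ring, pow_mul,
    pow_orderOf_eq_one, one_pow]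

/-- The image of the subgroup generated by the `p`-elements. -/
theorem map_genPElements [Finite G] {G' : Type*} [Group G'] (p : ℕ) [Fact p.Prime] (f : G →* G')
    (H : Subgroup G) : (genPElements p H).map f = genPElements p (H.map f) := by
  rw [genPElements, MonoidHom.map_closure, genPElements]
  congr 1
  ext y
  constructor
  · rintro ⟨x, ⟨hx, k, hk⟩, rfl⟩
    exact ⟨⟨x, hx, rfl⟩, k, by rw [← map_pow, hk, map_one]⟩
  · rintro ⟨hy, hyp⟩
    obtain ⟨x, hx, hxp, hfx⟩ := exists_pElement_lift p f hy hyp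
    exact ⟨x, ⟨hx, hxp⟩, hfx⟩

/-- A subnormal subgroup of index prime to `p` contains all `p`-elements. -/
theorem mem_of_subnormal_index_coprime {p : ℕ} {H : Subgroup G} (hH : H.IsSubnormal)
    (h : H.index.Coprime p) {x : G} (hx : ∃ k : ℕ, x ^ p ^ k = 1) : x ∈ H := by
  induction hH with
  | top => exact mem_top x
  | step H K hle _ hn ih =>
    obtain ⟨k, hk⟩ := hx
    rw [← Subgroup.relIndex_mul_index hle] at h
    have hxK := ih h.coprime_mul_left
    have : (H.subgroupOf K).Normal := hn
    have h1 : (QuotientGroup.mk' (H.subgroupOf K) ⟨x, hxK⟩) ^ p ^ k = 1 := by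
      rw [← map_pow, show (⟨x, hxK⟩ : ↥K) ^ p ^ k = 1 from Subtype.ext hk, map_one]
    have h2 : (QuotientGroup.mk' (H.subgroupOf K) ⟨x, hxK⟩) ^ (H.subgroupOf K).index = 1 := by
      rw [Subgroup.index]; exact pow_card_eq_one'
    have h3 := pow_gcd_eq_one.mpr ⟨h1, h2⟩
    rw [show (p ^ k).gcd (H.subgroupOf K).index = 1 from h.coprime_mul_right.symm.pow_left k,
      pow_one] at h3
    exact (QuotientGroup.eq_one_iff (N := H.subgroupOf K) (⟨x, hxK⟩ : ↥K)).mp h3

theorem genPElements_le_of_subnormal {p : ℕ} {H K : Subgroup G} (hH : H.IsSubnormal)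
    (h : (H.relIndex K).Coprime p) : genPElements p K ≤ H := by
  refine (Subgroup.closure_le _).mpr fun x hx => ?_
  have := mem_of_subnormal_index_coprime (hH.subgroupOf (K := K)) h (x := (⟨x, hx.1⟩ : ↥K))
    (by obtain ⟨k, hk⟩ := hx.2; exact ⟨k, Subtype.ext hk⟩)
  exact this

/-- A quasisimple group of order divisible by `p` is generated by its `p`-elements. -/
theorem IsQuasisimple.closure_pElements_eq_top [Finite G] (h : IsQuasisimple G) (p : ℕ)
    [hp : Fact p.Prime] (hdvd : p ∣ Nat.card G) : genPElements p (⊤ : Subgroup G) = ⊤ := by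
  have := h.1
  have hn : (genPElements p (⊤ : Subgroup G)).Normal := by
    rw [← normalizer_eq_top_iff, eq_top_iff]
    exact le_normalizer.trans (normalizer_le_normalizer_genPElements p ⊤)
  rcases IsQuasisimple.normal_eq_top_or_le_center h (genPElements p ⊤) with ht | hc
  · exact ht
  exfalso
  obtain ⟨P⟩ : Nonempty (Sylow p G) := inferInstance
  have hPc : (P : Subgroup G) ≤ center G := by
    refine le_trans (fun x hx => ?_) hc
    refine Subgroup.subset_closure ⟨mem_top x, ?_⟩
    obtain ⟨k, hk⟩ := P.isPGroup' ⟨x, hx⟩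
    exact ⟨k, by simpa using congrArg Subtype.val hk⟩
  have hN : normalizer ((P : Subgroup G) : Set G) ≤ centralizer ((P : Subgroup G) : Set G) := by
    intro g _
    rw [mem_centralizer_iff]
    exact fun x hx => (mem_center_iff.mp (hPc hx) g).symm
  have hker : (MonoidHom.transferSylow P hN).ker = ⊤ := by
    rw [eq_top_iff, ← Group.IsPerfect.commutator_eq_top (G := G), _root_.commutator_def,
      Subgroup.commutator_le]
    intro a _ b _
    rw [MonoidHom.mem_ker, map_commutatorElement, commutatorElement_eq_one_iff_mul_comm]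
    exact Subtype.ext (mem_center_iff.mp (hPc (MonoidHom.transferSylow P hN b).2) _)
  have hcompl := MonoidHom.ker_transferSylow_isComplement' P hN
  rw [hker] at hcompl
  have hP : (P : Subgroup G) = ⊥ := by
    rwa [Subgroup.isComplement'_top_left] at hcompl
  have := P.card_eq_multiplicity
  rw [hP, Subgroup.card_bot] at this
  have h0 : 0 < (Nat.card G).factorization p :=
    hp.out.factorization_pos_of_dvd Nat.card_pos.ne' hdvd
  exact absurd this (Nat.one_lt_pow h0.ne' hp.out.one_lt).ne

/-- A component of a group with trivial `p'`-core has order divisible by `p`. -/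
theorem IsComponent.dvd_card [Finite G] {K : Subgroup G} (hK : IsComponent K) (p : ℕ)
    [hp : Fact p.Prime] (h : pPrimeCore p G = ⊥) : p ∣ Nat.card ↥K := by
  by_contra hnd
  apply IsComponent.ne_bot hK
  rw [eq_bot_iff, ← h]
  exact le_pPrimeCore_of_subnormal hK.1 (hp.out.coprime_iff_not_dvd.mpr hnd).symm

theorem IsComponent.genPElements_eq [Finite G] {K : Subgroup G} (hK : IsComponent K) (p : ℕ)
    [Fact p.Prime] (h : p ∣ Nat.card ↥K) : genPElements p K = K := by
  have h1 := IsQuasisimple.closure_pElements_eq_top hK.2 p h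
  have h2 := map_genPElements p K.subtype (⊤ : Subgroup ↥K)
  rw [h1, ← MonoidHom.range_eq_map, range_subtype] at h2
  exact h2.symm

/-! ## `p`-components -/

theorem mk'_comap_eq (p : ℕ) (Kbar : Subgroup (G ⧸ pPrimeCore p G)) :
    (Kbar.comap (QuotientGroup.mk' (pPrimeCore p G))).map (QuotientGroup.mk' (pPrimeCore p G)) =
      Kbar :=
  Subgroup.map_comap_eq_self_of_surjective (QuotientGroup.mk'_surjective _) Kbar

/-- Minimality of the canonical subgroup over a subgroup of the quotient by the `p'`-core. -/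
theorem genPElements_le_of_map_eq [Finite G] {p : ℕ} {H : Subgroup G} (hH : H.IsSubnormal)
    {Kbar : Subgroup (G ⧸ pPrimeCore p G)}
    (h : H.map (QuotientGroup.mk' (pPrimeCore p G)) = Kbar) :
    genPElements p (Kbar.comap (QuotientGroup.mk' (pPrimeCore p G))) ≤ H := by
  set q := QuotientGroup.mk' (pPrimeCore p G)
  set Khat := Kbar.comap q with hKhat
  apply genPElements_le_of_subnormal hH
  have hle : H ≤ Khat := map_le_iff_le_comap.mp h.le
  have e1 := card_eq_card_map_mul q Khat
  rw [hKhat, mk'_comap_eq, ← hKhat] at e1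
  have e2 := card_eq_card_map_mul q H
  rw [h] at e2
  have e3 : Nat.card ↥Khat = Nat.card ↥H * H.relIndex Khat := by
    rw [← Subgroup.card_mul_index (H.subgroupOf Khat),
      Nat.card_congr (Subgroup.subgroupOfEquivOfLe hle).toEquiv]
    rfl
  rw [e1, e2, mul_assoc] at e3
  have e4 := Nat.eq_of_mul_eq_mul_left Nat.card_pos e3
  refine Nat.Coprime.coprime_dvd_left (Dvd.intro_left _ e4.symm)
    (Nat.Coprime.coprime_dvd_left ?_ (pPrimeCore_coprime (G := G) p))
  rw [QuotientGroup.ker_mk']
  exact card_comap_dvd_of_injective _ _ Khat.subtype_injective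

/-- The canonical `p`-component over a component of the quotient by the `p'`-core. -/
theorem isPComponent_genPElements [Finite G] (p : ℕ) [Fact p.Prime]
    {Kbar : Subgroup (G ⧸ pPrimeCore p G)} (hK : IsComponent Kbar) :
    IsPComponent p (genPElements p (Kbar.comap (QuotientGroup.mk' (pPrimeCore p G)))) ∧
      (genPElements p (Kbar.comap (QuotientGroup.mk' (pPrimeCore p G)))).map
        (QuotientGroup.mk' (pPrimeCore p G)) = Kbar := by
  have hmap : (genPElements p (Kbar.comap (QuotientGroup.mk' (pPrimeCore p G)))).map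
      (QuotientGroup.mk' (pPrimeCore p G)) = Kbar := by
    rw [map_genPElements p, mk'_comap_eq]
    exact IsComponent.genPElements_eq hK p
      (IsComponent.dvd_card hK p (pPrimeCore_quotient_eq_bot p))
  refine ⟨⟨isSubnormal_genPElements p (hK.1.comap _), by rw [hmap]; exact hK, fun H hH hle hHeq => ?_⟩, hmap⟩
  exact le_antisymm hle (genPElements_le_of_map_eq hH (hHeq.trans hmap))

theorem IsPComponent.eq_genPElements [Finite G] {p : ℕ} [Fact p.Prime] {K : Subgroup G}
    (hK : IsPComponent p K) :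
    K = genPElements p ((K.map (QuotientGroup.mk' (pPrimeCore p G))).comap
      (QuotientGroup.mk' (pPrimeCore p G))) := by
  obtain ⟨h1, h2⟩ := isPComponent_genPElements p hK.2.1
  exact (hK.2.2 _ h1.1 (genPElements_le_of_map_eq hK.1 rfl) h2).symm

theorem IsPComponent.eq_of_map_eq [Finite G] {p : ℕ} [Fact p.Prime] {K L : Subgroup G}
    (hK : IsPComponent p K) (hL : IsPComponent p L)
    (h : K.map (QuotientGroup.mk' (pPrimeCore p G)) = L.map (QuotientGroup.mk' (pPrimeCore p G))) :
    K = L := by
  rw [IsPComponent.eq_genPElements hK, IsPComponent.eq_genPElements hL, h]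

theorem existsUnique_pComponent [Finite G] (p : ℕ) [Fact p.Prime]
    {Kbar : Subgroup (G ⧸ pPrimeCore p G)} (hK : IsComponent Kbar) :
    ∃! K : Subgroup G, IsPComponent p K ∧ K.map (QuotientGroup.mk' (pPrimeCore p G)) = Kbar :=
  ⟨_, isPComponent_genPElements p hK, fun _ hL =>
    IsPComponent.eq_of_map_eq hL.1 (isPComponent_genPElements p hK).1
      (hL.2.trans (isPComponent_genPElements p hK).2.symm)⟩

theorem IsPComponent.le_pLayer {p : ℕ} {K : Subgroup G} (hK : IsPComponent p K) :
    K ≤ pLayer p G := le_sSup hK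

theorem pLayer_le_iff {p : ℕ} {H : Subgroup G} :
    pLayer p G ≤ H ↔ ∀ K, IsPComponent p K → K ≤ H := sSup_le_iff

theorem map_pLayer [Finite G] (p : ℕ) [Fact p.Prime] :
    (pLayer p G).map (QuotientGroup.mk' (pPrimeCore p G)) = layer (G ⧸ pPrimeCore p G) := by
  refine le_antisymm ?_ (layer_le_iff.mpr fun Kbar hK => ?_)
  · rw [map_le_iff_le_comap, pLayer_le_iff]
    exact fun K hK => map_le_iff_le_comap.mp (IsComponent.le_layer hK.2.1)
  · obtain ⟨h1, h2⟩ := isPComponent_genPElements p hK
    rw [← h2]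
    exact map_mono (IsPComponent.le_pLayer h1)

theorem IsPComponent.ne_bot {p : ℕ} {K : Subgroup G} (hK : IsPComponent p K) : K ≠ ⊥ := fun h => by
  refine IsComponent.ne_bot hK.2.1 ?_
  rw [h, Subgroup.map_bot]

theorem IsPComponent.commutator_self {p : ℕ} {K : Subgroup G} (hK : IsPComponent p K) :
    ⁅K, K⁆ = K := by
  have hle : ⁅K, K⁆ ≤ K := (commutator_le_sup K K).trans (sup_le le_rfl le_rfl)
  refine hK.2.2 _ ?_ hle ?_
  · exact Subgroup.IsSubnormal.step _ K hle hK.1
      (normal_subgroupOf_of_le_normalizer (normalizer_commutator_ge_left K K))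
  · rw [map_commutator]
    exact IsComponent.commutator_self hK.2.1

theorem IsPComponent.dvd_card [Finite G] {p : ℕ} [Fact p.Prime] {K : Subgroup G}
    (hK : IsPComponent p K) : p ∣ Nat.card ↥K :=
  (IsComponent.dvd_card hK.2.1 p (pPrimeCore_quotient_eq_bot p)).trans (Subgroup.card_map_dvd _ _)

theorem IsPComponent.not_le_pPrimeCore [Finite G] {p : ℕ} [Fact p.Prime] {K : Subgroup G}
    (hK : IsPComponent p K) : ¬ K ≤ pPrimeCore p G := fun h => by
  apply IsComponent.ne_bot hK.2.1
  rw [Subgroup.map_eq_bot_iff, QuotientGroup.ker_mk']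
  exact h

/-- A `p`-component has no proper normal subgroup of index prime to `p`. -/
theorem IsPComponent.eq_top_of_index_coprime [Finite G] {p : ℕ} [Fact p.Prime] {K : Subgroup G}
    (hK : IsPComponent p K) {N : Subgroup ↥K} (hN : N.IsSubnormal) (h : N.index.Coprime p) :
    N = ⊤ := by
  have hle : N.map K.subtype ≤ K := map_subtype_le _
  have hs : (N.map K.subtype).IsSubnormal := hN.trans' hK.1
  have h1 : genPElements p K ≤ N.map K.subtype := by
    apply genPElements_le_of_subnormal hs
    rw [Subgroup.relIndex, subgroupOf, comap_map_eq_self_of_injective K.subtype_injective]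
    exact h
  have h2 : genPElements p K = K := by
    conv_rhs => rw [IsPComponent.eq_genPElements hK]
    refine le_antisymm ?_ ?_
    · conv_rhs => rw [← IsPComponent.eq_genPElements hK]
      exact genPElements_le p K
    · refine (Subgroup.closure_le _).mpr fun x hx => Subgroup.subset_closure ⟨?_, hx.2⟩
      rw [IsPComponent.eq_genPElements hK]
      exact Subgroup.subset_closure hx
  apply map_injective K.subtype_injective
  rw [← MonoidHom.range_eq_map, range_subtype]
  exact le_antisymm hle (h2.ge.trans h1)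

theorem IsPComponent.normalizer_map_le [Finite G] {p : ℕ} [Fact p.Prime] {K : Subgroup G}
    (hK : IsPComponent p K) {g : G}
    (hg : QuotientGroup.mk' (pPrimeCore p G) g ∈
      normalizer ((K.map (QuotientGroup.mk' (pPrimeCore p G))) : Set (G ⧸ pPrimeCore p G))) :
    g ∈ normalizer (K : Set G) := by
  rw [IsPComponent.eq_genPElements hK]
  exact normalizer_le_normalizer_genPElements p _
    (le_normalizer_comap (QuotientGroup.mk' (pPrimeCore p G)) (Subgroup.mem_comap.mpr hg))

theorem IsPComponent.commutator_le_pPrimeCore [Finite G] {p : ℕ} [Fact p.Prime] {K L : Subgroup G}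
    (hK : IsPComponent p K) (hL : IsPComponent p L) (hne : K ≠ L) :
    ⁅K, L⁆ ≤ pPrimeCore p G := by
  have h : ⁅K, L⁆.map (QuotientGroup.mk' (pPrimeCore p G)) = ⊥ := by
    rw [map_commutator]
    exact IsComponent.commutator_eq_bot_of_ne hK.2.1 hL.2.1
      fun h => hne (IsPComponent.eq_of_map_eq hK hL h)
  rwa [Subgroup.map_eq_bot_iff, QuotientGroup.ker_mk'] at h

theorem IsPComponent.pLayer_le_normalizer [Finite G] {p : ℕ} [Fact p.Prime] {K : Subgroup G}
    (hK : IsPComponent p K) : pLayer p G ≤ normalizer (K : Set G) := by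
  intro g hg
  refine IsPComponent.normalizer_map_le hK (IsComponent.layer_le_normalizer hK.2.1 ?_)
  rw [← map_pLayer p]
  exact Subgroup.mem_map_of_mem _ hg

theorem IsPComponent.normal_in_pLayer [Finite G] {p : ℕ} [Fact p.Prime] {K : Subgroup G}
    (hK : IsPComponent p K) : (K.subgroupOf (pLayer p G)).Normal :=
  normal_subgroupOf_of_le_normalizer (IsPComponent.pLayer_le_normalizer hK)

theorem IsPComponent.map_conj [Finite G] {p : ℕ} [Fact p.Prime] {K : Subgroup G}
    (hK : IsPComponent p K) (g : G) : IsPComponent p (K.map (MulAut.conj g).toMonoidHom) := by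
  set q := QuotientGroup.mk' (pPrimeCore p G) with hq
  have hcomp : q.comp (MulAut.conj g).toMonoidHom = (MulAut.conj (q g)).toMonoidHom.comp q := by
    ext x
    simp [hq]
  have hmap : ∀ H : Subgroup G, (H.map (MulAut.conj g).toMonoidHom).map q =
      (H.map q).map (MulAut.conj (q g)).toMonoidHom := fun H => by
    rw [Subgroup.map_map, Subgroup.map_map, hcomp]
  refine ⟨hK.1.map (MulAut.conj g).surjective, ?_, fun H hH hle hHeq => ?_⟩
  · rw [← hq, hmap]
    exact IsComponent.map_conj hK.2.1 (q g)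
  · have h1 : H.map (MulAut.conj g⁻¹).toMonoidHom = K := by
      refine hK.2.2 _ (hH.map (MulAut.conj g⁻¹).surjective) ?_ ?_
      · rintro _ ⟨x, hx, rfl⟩
        obtain ⟨y, hy, rfl⟩ := hle hx
        simpa [mul_assoc] using hy
      · rw [← hq, Subgroup.map_map]
        have hcomp' : q.comp (MulAut.conj g⁻¹).toMonoidHom =
            (MulAut.conj (q g)⁻¹).toMonoidHom.comp q := by
          ext x; simp [hq]
        rw [hcomp', ← Subgroup.map_map, hHeq, hmap, Subgroup.map_map]
        convert Subgroup.map_id (K.map q)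
        ext x
        simp [mul_assoc]
    rw [← h1, Subgroup.map_map]
    convert (Subgroup.map_id H).symm
    ext x
    simp [mul_assoc]

instance pLayer_normal [Finite G] (p : ℕ) [Fact p.Prime] : (pLayer p G).Normal :=
  sSup_normal_of_conj fun g _ hK => IsPComponent.map_conj hK g

theorem pLayer_commutator_self (p : ℕ) : ⁅pLayer p G, pLayer p G⁆ = pLayer p G :=
  commutator_sSup_self fun _ hK => IsPComponent.commutator_self hK

theorem pLayer_eq_bot_iff [Finite G] (p : ℕ) [Fact p.Prime] :
    pLayer p G = ⊥ ↔ layer (G ⧸ pPrimeCore p G) = ⊥ := by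
  constructor
  · intro h
    rw [← map_pLayer p, h, Subgroup.map_bot]
  · intro h
    rw [eq_bot_iff, pLayer_le_iff]
    exact fun K hK => absurd hK.2.1 (layer_eq_bot_iff.mp h _)

/-- `K ∩ O_{p'}(G) = O_{p'}(K)` and `K / O_{p'}(K)` is quasisimple. -/
theorem IsPComponent.isQuasisimple_quotient [Finite G] {p : ℕ} [Fact p.Prime] {K : Subgroup G}
    (hK : IsPComponent p K) : IsQuasisimple (↥K ⧸ pPrimeCore p ↥K) := by
  let f := (QuotientGroup.mk' (pPrimeCore p G)).subgroupMap K
  have hf : Function.Surjective f := MonoidHom.subgroupMap_surjective _ K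
  have hker : f.ker = pPrimeCore p ↥K := by
    apply map_injective K.subtype_injective
    rw [map_pPrimeCore_subtype p hK.1]
    ext x
    constructor
    · rintro ⟨y, hy, rfl⟩
      exact ⟨y.2, (QuotientGroup.eq_one_iff _).mp (congrArg Subtype.val hy)⟩
    · intro hx
      exact ⟨⟨x, hx.1⟩, Subtype.ext ((QuotientGroup.eq_one_iff x).mpr hx.2), rfl⟩
  exact IsQuasisimple.of_mulEquiv
    ((QuotientGroup.quotientKerEquivOfSurjective f hf).symm.trans
      (QuotientGroup.quotientMulEquivOfEq hker)) hK.2.1.2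

theorem commutator_map_subtype_eq_bot_iff {K : Subgroup G} {Z : Subgroup ↥K} :
    ⁅K, Z.map K.subtype⁆ = ⊥ ↔ Z ≤ center ↥K := by
  conv_lhs => lhs; arg 1; rw [← range_subtype K, MonoidHom.range_eq_map]
  rw [← map_commutator, map_eq_bot_iff_of_injective _ K.subtype_injective,
    commutator_top_left_eq_bot_iff_le_center]

theorem IsPComponent.quasisimple_iff [Finite G] {p : ℕ} [hp : Fact p.Prime] {K : Subgroup G}
    (hK : IsPComponent p K) :
    IsQuasisimple ↥K ↔ ⁅K, (pPrimeCore p ↥K).map K.subtype⁆ = ⊥ := by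
  rw [commutator_map_subtype_eq_bot_iff]
  constructor
  · intro h
    rcases IsQuasisimple.normal_eq_top_or_le_center h (pPrimeCore p ↥K) with ht | hc
    · exfalso
      have h1 := pPrimeCore_coprime (G := ↥K) p
      rw [ht, Subgroup.card_top] at h1
      exact (hp.out.coprime_iff_not_dvd.mp h1.symm) (IsPComponent.dvd_card hK)
    · exact hc
  · intro h
    have : Group.IsPerfect ↥K := Subgroup.isPerfect_iff.mpr (IsPComponent.commutator_self hK)
    exact isQuasisimple_of_quotient h (IsPComponent.isQuasisimple_quotient hK)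

/-- A component of order divisible by `p` is a `p`-component. -/
theorem IsComponent.isPComponent [Finite G] {p : ℕ} [hp : Fact p.Prime] {K : Subgroup G}
    (hK : IsComponent K) (hdvd : p ∣ Nat.card ↥K) : IsPComponent p K := by
  have hcen : pPrimeCore p ↥K ≤ center ↥K := by
    rcases IsQuasisimple.normal_eq_top_or_le_center hK.2 (pPrimeCore p ↥K) with ht | hc
    · exfalso
      have h1 := pPrimeCore_coprime (G := ↥K) p
      rw [ht, Subgroup.card_top] at h1
      exact (hp.out.coprime_iff_not_dvd.mp h1.symm) hdvd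
    · exact hc
  have hne : K.map (QuotientGroup.mk' (pPrimeCore p G)) ≠ ⊥ := by
    intro h
    rw [Subgroup.map_eq_bot_iff, QuotientGroup.ker_mk'] at h
    exact (hp.out.coprime_iff_not_dvd.mp
      ((Nat.Coprime.coprime_dvd_left (Subgroup.card_dvd_of_le h) (pPrimeCore_coprime p)).symm)) hdvd
  refine ⟨hK.1, ⟨hK.1.quotient, (IsQuasisimple.map hK.2 _).resolve_left hne⟩,
    fun H hH hle hHeq => ?_⟩
  have : Group.IsPerfect ↥K := hK.2.1
  have htop : H.subgroupOf K = ⊤ := by
    apply eq_top_of_sup_center_eq_top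
    rw [eq_top_iff]
    rintro ⟨x, hx⟩ -
    have hx' : QuotientGroup.mk' (pPrimeCore p G) x ∈ H.map (QuotientGroup.mk' (pPrimeCore p G)) :=
      hHeq ▸ Subgroup.mem_map_of_mem _ hx
    obtain ⟨y, hy, hxy⟩ := hx'
    have hw : (⟨y⁻¹ * x, K.mul_mem (K.inv_mem (hle hy)) hx⟩ : ↥K) ∈ pPrimeCore p ↥K := by
      have hmem : y⁻¹ * x ∈ (pPrimeCore p ↥K).map K.subtype := by
        rw [map_pPrimeCore_subtype p hK.1]
        refine ⟨K.mul_mem (K.inv_mem (hle hy)) hx, (QuotientGroup.eq_one_iff _).mp ?_⟩
        rw [QuotientGroup.mk'_apply, QuotientGroup.mk'_apply] at hxy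
        rw [QuotientGroup.mk_mul, QuotientGroup.mk_inv, hxy, inv_mul_cancel]
      obtain ⟨z, hz, hzz⟩ := hmem
      exact (Subtype.ext hzz : z = ⟨y⁻¹ * x, _⟩) ▸ hz
    have e : (⟨x, hx⟩ : ↥K) = ⟨y, hle hy⟩ * ⟨y⁻¹ * x, K.mul_mem (K.inv_mem (hle hy)) hx⟩ :=
      Subtype.ext (by simp)
    rw [e]
    exact mul_mem_sup hy (hcen hw)
  exact le_antisymm hle (subgroupOf_eq_top.mp htop)

theorem IsPComponent.isComponent_of_le_layer [Finite G] {p : ℕ} [hp : Fact p.Prime] {K : Subgroup G}
    (hK : IsPComponent p K)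
    (h : K.map (QuotientGroup.mk' (pPrimeCore p G)) ≤
      (layer G).map (QuotientGroup.mk' (pPrimeCore p G))) : IsComponent K := by
  set q := QuotientGroup.mk' (pPrimeCore p G) with hq
  obtain ⟨L, hL, hLq⟩ : ∃ L, IsComponent L ∧ L.map q = K.map q := by
    by_contra hno
    simp only [not_exists, not_and] at hno
    apply IsComponent.ne_bot hK.2.1
    rw [← IsComponent.commutator_self hK.2.1, eq_bot_iff]
    refine (commutator_mono le_rfl h).trans (le_of_eq ?_)
    rw [layer, sSup_eq_iSup', Subgroup.map_iSup, commutator_eq_bot_iff_le_centralizer]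
    rw [le_centralizer_iff]
    refine iSup_le fun L => ?_
    rw [← le_centralizer_iff, ← commutator_eq_bot_iff_le_centralizer, commutator_comm]
    rcases eq_or_ne ((L : Subgroup G).map q) ⊥ with hb | hb
    · rw [hb, commutator_bot_left]
    · exact IsComponent.commutator_eq_bot_of_ne
        ⟨L.2.1.quotient, (IsQuasisimple.map L.2.2 _).resolve_left hb⟩ hK.2.1 (hno L L.2)
  have hd : p ∣ Nat.card ↥L := by
    refine dvd_trans ?_ (Subgroup.card_map_dvd L q)
    rw [hLq]
    exact IsComponent.dvd_card hK.2.1 p (pPrimeCore_quotient_eq_bot p)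
  rwa [IsPComponent.eq_of_map_eq hK (IsComponent.isPComponent hL hd) hLq.symm]

/-- The layer covers the layer of the quotient iff every `p`-component is a component. -/
theorem map_layer_eq_iff [Finite G] (p : ℕ) [Fact p.Prime] :
    (layer G).map (QuotientGroup.mk' (pPrimeCore p G)) = layer (G ⧸ pPrimeCore p G) ↔
      pLayer p G ≤ layer G := by
  constructor
  · intro h
    rw [pLayer_le_iff]
    exact fun K hK => IsComponent.le_layer
      (IsPComponent.isComponent_of_le_layer hK (h ▸ IsComponent.le_layer hK.2.1))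
  · intro h
    refine le_antisymm ?_ ((map_pLayer (G := G) p).ge.trans (map_mono h))
    rw [map_le_iff_le_comap, layer_le_iff]
    intro K hK
    rw [← map_le_iff_le_comap]
    rcases eq_or_ne (K.map (QuotientGroup.mk' (pPrimeCore p G))) ⊥ with hb | hb
    · rw [hb]; exact bot_le
    · exact IsComponent.le_layer ⟨hK.1.quotient, (IsQuasisimple.map hK.2 _).resolve_left hb⟩

end Cfsg.Agent.Lib.Components
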