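import Cfsg.Prelude.Def_Local
import Mathlib.GroupTheory.Nilpotent
/-!
# Minimal facts on the cores and the Fitting subgroup used for components
-/

set_option autoImplicit false

namespace Cfsg.Agent.Lib.Components

open Subgroup

variable {G : Type*} [Group G]

/-- A property of normal subgroups closed under joins passes to the join of all of them. -/
theorem normal_sSup_induction [Finite G] {P : Subgroup G → Prop} (hbot : P ⊥)
    (hsup : ∀ A B : Subgroup G, A.Normal → B.Normal → P A → P B → P (A ⊔ B)) :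
    P (sSup {N : Subgroup G | N.Normal ∧ P N}) := by
  classical
  have := Fintype.ofFinite (Subgroup G)
  let s := Finset.univ.filter fun N : Subgroup G => N.Normal ∧ P N
  have h : (s.sup id).Normal ∧ P (s.sup id) :=
    Finset.sup_induction (p := fun N => N.Normal ∧ P N) ⟨normal_bot, hbot⟩
      (fun A hA B hB => ⟨@Subgroup.sup_normal G _ A B hA.1 hB.1, hsup A B hA.1 hB.1 hA.2 hB.2⟩)
      (fun N hN => (Finset.mem_filter.mp hN).2)
  have e : s.sup id = sSup {N : Subgroup G | N.Normal ∧ P N} := by
    rw [Finset.sup_id_eq_sSup]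
    congr 1
    ext N
    simp [s]
  exact e ▸ h.2

theorem card_sup_dvd (A B : Subgroup G) [B.Normal] :
    Nat.card ↥(A ⊔ B) ∣ Nat.card ↥A * Nat.card ↥B := by
  rw [← Subgroup.card_mul_index (B.subgroupOf (A ⊔ B)),
    Nat.card_congr (Subgroup.subgroupOfEquivOfLe (le_sup_right : B ≤ A ⊔ B)).toEquiv, mul_comm]
  refine mul_dvd_mul_right ?_ _
  rw [show (B.subgroupOf (A ⊔ B)).index = B.relIndex (A ⊔ B) from rfl,
    Subgroup.relIndex_sup_right]
  exact (B.subgroupOf A).index_dvd_card

theorem le_pCore {p : ℕ} {N : Subgroup G} (hN : N.Normal) (h : IsPGroup p ↥N) :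
    N ≤ pCore p G := le_sSup ⟨hN, h⟩

theorem le_pPrimeCore {p : ℕ} {N : Subgroup G} (hN : N.Normal) (h : (Nat.card ↥N).Coprime p) :
    N ≤ pPrimeCore p G := le_sSup ⟨hN, h⟩

theorem le_fittingSubgroup {N : Subgroup G} (hN : N.Normal) (h : Group.IsNilpotent ↥N) :
    N ≤ fittingSubgroup G := le_sSup ⟨hN, h⟩

theorem pCore_isPGroup [Finite G] (p : ℕ) : IsPGroup p ↥(pCore p G) := by
  refine normal_sSup_induction (P := fun N : Subgroup G => IsPGroup p ↥N) IsPGroup.of_bot
    fun A B hA _ h1 h2 => ?_
  exact IsPGroup.to_sup_of_normal_left h1 h2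

theorem pPrimeCore_coprime [Finite G] (p : ℕ) : (Nat.card ↥(pPrimeCore p G)).Coprime p := by
  refine normal_sSup_induction (P := fun N : Subgroup G => (Nat.card ↥N).Coprime p) (by simp)
    fun A B _ hB h1 h2 => ?_
  exact Nat.Coprime.coprime_dvd_left (card_sup_dvd A B) (h1.mul_left h2)

theorem map_fittingSubgroup_le {G' : Type*} [Group G'] (e : G ≃* G') :
    (fittingSubgroup G).map e.toMonoidHom ≤ fittingSubgroup G' := by
  rw [map_le_iff_le_comap]
  refine sSup_le fun N hN => map_le_iff_le_comap.mp ?_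
  have := hN.2
  exact le_fittingSubgroup (hN.1.map _ e.surjective)
    (Group.nilpotent_of_mulEquiv (N.equivMapOfInjective e.toMonoidHom e.injective))

theorem map_pCore_le {G' : Type*} [Group G'] (p : ℕ) (e : G ≃* G') :
    (pCore p G).map e.toMonoidHom ≤ pCore p G' := by
  rw [map_le_iff_le_comap]
  exact sSup_le fun N hN => map_le_iff_le_comap.mp
    (le_pCore (hN.1.map _ e.surjective) (hN.2.map _))

theorem map_pPrimeCore_le {G' : Type*} [Group G'] (p : ℕ) (e : G ≃* G') :
    (pPrimeCore p G).map e.toMonoidHom ≤ pPrimeCore p G' := by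
  rw [map_le_iff_le_comap]
  refine sSup_le fun N hN => map_le_iff_le_comap.mp (le_pPrimeCore (hN.1.map _ e.surjective) ?_)
  rw [Nat.card_congr (N.equivMapOfInjective e.toMonoidHom e.injective).symm.toEquiv]
  exact hN.2

instance fittingSubgroup_characteristic : (fittingSubgroup G).Characteristic :=
  characteristic_iff_map_le.mpr fun ϕ => map_fittingSubgroup_le ϕ

instance pCore_characteristic' (p : ℕ) : (pCore p G).Characteristic :=
  characteristic_iff_map_le.mpr fun ϕ => map_pCore_le p ϕ

instance pPrimeCore_characteristic' (p : ℕ) : (pPrimeCore p G).Characteristic :=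
  characteristic_iff_map_le.mpr fun ϕ => map_pPrimeCore_le p ϕ

/-- The Fitting subgroup is contained in the join of the `p`-cores. -/
theorem fittingSubgroup_le_iSup_pCore [Finite G] :
    fittingSubgroup G ≤ ⨆ q : {q : ℕ // q.Prime}, pCore (q : ℕ) G := by
  refine sSup_le fun N hN => ?_
  obtain ⟨hNn, hNnil⟩ := hN
  set W := ⨆ q : {q : ℕ // q.Prime}, pCore (q : ℕ) G
  rw [← subgroupOf_eq_top]
  refine Subgroup.eq_top_of_card_eq _ (Nat.dvd_antisymm (Subgroup.card_subgroup_dvd_card _) ?_)
  rw [← Nat.factorization_prime_le_iff_dvd Nat.card_pos.ne' Nat.card_pos.ne']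
  intro q hq
  have : Fact q.Prime := ⟨hq⟩
  obtain ⟨S⟩ : Nonempty (Sylow q ↥N) := inferInstance
  have hSn : ((S : Subgroup ↥N)).Normal := inferInstance
  have hch : (S : Subgroup ↥N).Characteristic := S.characteristic_of_normal hSn
  have hmap : ((S : Subgroup ↥N).map N.subtype).Normal := inferInstance
  have hle : (S : Subgroup ↥N) ≤ W.subgroupOf N := by
    intro x hx
    exact (le_iSup (fun q : {q : ℕ // q.Prime} => pCore (q : ℕ) G) ⟨q, hq⟩)
      (le_pCore hmap (S.isPGroup'.map _) ⟨x, hx, rfl⟩)
  have hd := Subgroup.card_dvd_of_le hle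
  rw [S.card_eq_multiplicity] at hd
  exact (hq.pow_dvd_iff_le_factorization Nat.card_pos.ne').mp hd

/-- Fitting's theorem: the Fitting subgroup of a finite group is nilpotent. -/
theorem fittingSubgroup_isNilpotent [Finite G] : Group.IsNilpotent ↥(fittingSubgroup G) := by
  refine ((Group.isNilpotent_of_finite_tfae (G := ↥(fittingSubgroup G))).out 0 3).mpr ?_
  intro p hp
  set F := fittingSubgroup G with hF
  intro S
  have hPn : (pCore p G).Normal := inferInstance
  have hPF : pCore p G ≤ F := le_fittingSubgroup hPn (pCore_isPGroup p).isNilpotent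
  have hFle : F ≤ pCore p G ⊔ pPrimeCore p G := by
    refine fittingSubgroup_le_iSup_pCore.trans (iSup_le fun q => ?_)
    rcases eq_or_ne (q : ℕ) p with h | h
    · exact h ▸ le_sup_left
    · refine le_sup_of_le_right (le_pPrimeCore inferInstance ?_)
      have : Fact (q : ℕ).Prime := ⟨q.2⟩
      obtain ⟨n, hn⟩ := IsPGroup.iff_card.mp (pCore_isPGroup (G := G) (q : ℕ))
      rw [hn]
      exact ((Nat.coprime_primes q.2 hp.out).mpr h).pow_left n
  have h3 : Nat.card ↥F ∣ Nat.card ↥(pCore p G) * Nat.card ↥(pPrimeCore p G) :=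
    (Subgroup.card_dvd_of_le hFle).trans (card_sup_dvd _ _)
  have hPle : (pCore p G).subgroupOf F ≤ (S : Subgroup ↥F) := by
    have hn : ((pCore p G).subgroupOf F).Normal := hPn.comap _
    have hPp : IsPGroup p ↥((pCore p G).subgroupOf F) :=
      (pCore_isPGroup (G := G) p).of_equiv (Subgroup.subgroupOfEquivOfLe hPF).symm
    exact sup_eq_left.mp (S.3 (IsPGroup.to_sup_of_normal_right S.isPGroup' hPp) le_sup_left)
  suffices h : (pCore p G).subgroupOf F = (S : Subgroup ↥F) by
    have hn : ((pCore p G).subgroupOf F).Normal := hPn.comap _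
    rwa [h] at hn
  refine Subgroup.eq_of_le_of_card_ge hPle ?_
  rw [S.card_eq_multiplicity, Nat.card_congr (Subgroup.subgroupOfEquivOfLe hPF).toEquiv]
  refine Nat.le_of_dvd Nat.card_pos ?_
  refine Nat.Coprime.dvd_of_dvd_mul_right ((pPrimeCore_coprime (G := G) p).symm.pow_left _) ?_
  exact (Nat.ordProj_dvd _ _).trans h3

theorem fittingSubgroup_isSolvable [Finite G] : Group.IsSolvable ↥(fittingSubgroup G) :=
  have := fittingSubgroup_isNilpotent (G := G)
  IsNilpotent.to_isSolvable

theorem pCore_le_fittingSubgroup [Finite G] (p : ℕ) [Fact p.Prime] :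
    pCore p G ≤ fittingSubgroup G :=
  le_fittingSubgroup inferInstance (pCore_isPGroup p).isNilpotent

/-- A nilpotent subnormal subgroup lies in the Fitting subgroup. -/
theorem le_fittingSubgroup_of_subnormal [Finite G] {H : Subgroup G} (hH : H.IsSubnormal)
    (h : Group.IsNilpotent ↥H) : H ≤ fittingSubgroup G := by
  suffices key : ∀ K : Subgroup G, K.IsSubnormal → ∀ L : Subgroup G, L ≤ K → (L.subgroupOf K).Normal →
      Group.IsNilpotent ↥L → L ≤ fittingSubgroup G by
    exact key H hH H le_rfl (by rw [subgroupOf_self]; infer_instance) h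
  intro K hK
  induction hK with
  | top =>
    intro L _ hLn hL
    refine le_fittingSubgroup ?_ hL
    rw [← normalizer_eq_top_iff, eq_top_iff]
    exact le_normalizer_of_normal_subgroupOf le_top
  | step K M hKM _ hKn ih =>
    intro L hLK hLn hL
    -- `L` lies in the Fitting subgroup of `K`, which is normal in `M`
    let A := K.subgroupOf M
    have hAn : A.Normal := hKn
    have hLA : ((L.subgroupOf M).subgroupOf A).Normal := by
      rw [normal_subgroupOf_iff (show L.subgroupOf M ≤ A from Subgroup.comap_mono hLK)]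
      intro x k hx hk
      rw [normal_subgroupOf_iff hLK] at hLn
      exact hLn (x : G) (k : G) hx hk
    have hLnil : Group.IsNilpotent ↥((L.subgroupOf M).subgroupOf A) := by
      have := hL
      exact Group.nilpotent_of_mulEquiv
        (((Subgroup.subgroupOfEquivOfLe (Subgroup.comap_mono hLK : L.subgroupOf M ≤ A)).trans
          (Subgroup.subgroupOfEquivOfLe (hLK.trans hKM))).symm)
    have h1 := le_fittingSubgroup hLA hLnil
    have hFn : ((fittingSubgroup ↥A).map A.subtype).Normal := inferInstance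
    have hFnil : Group.IsNilpotent ↥((fittingSubgroup ↥A).map A.subtype) :=
      have := fittingSubgroup_isNilpotent (G := ↥A)
      Group.nilpotent_of_mulEquiv ((fittingSubgroup ↥A).equivMapOfInjective _ A.subtype_injective)
    have h2 := ih (((fittingSubgroup ↥A).map A.subtype).map M.subtype) (map_subtype_le _)
      (by rw [subgroupOf, comap_map_eq_self_of_injective M.subtype_injective]; exact hFn)
      (Group.nilpotent_of_mulEquiv (((fittingSubgroup ↥A).map A.subtype).equivMapOfInjective _
        M.subtype_injective))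
    intro x hx
    refine h2 ⟨⟨x, hKM (hLK hx)⟩, ⟨⟨⟨x, hKM (hLK hx)⟩, hLK hx⟩, ?_, rfl⟩, rfl⟩
    exact h1 (show (⟨⟨x, hKM (hLK hx)⟩, hLK hx⟩ : ↥A) ∈ (L.subgroupOf M).subgroupOf A from hx)

end Cfsg.Agent.Lib.Components
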