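import Cfsg.Prelude.Def_CaseTheorems
import Mathlib.GroupTheory.IsPerfect
import Mathlib.GroupTheory.IsSubnormal
import Mathlib.GroupTheory.Transfer
/-!
# Quasisimple groups
-/

set_option autoImplicit false

namespace Cfsg.Agent.Lib.Components

open Subgroup
open scoped commutatorElement

variable {G X : Type*} [Group G] [Group X]

/-! ## Perfect groups and subgroups -/

/-- Three subgroup lemma: a perfect subgroup centralizes `H` as soon as `⁅⁅L, H⁆, L⁆ = 1`. -/
theorem commutator_eq_bot_of_perfect {L H : Subgroup G} (hL : ⁅L, L⁆ = L)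
    (h : ⁅⁅L, H⁆, L⁆ = ⊥) : ⁅L, H⁆ = ⊥ := by
  have h' : ⁅⁅H, L⁆, L⁆ = ⊥ := by rwa [commutator_comm H L]
  have := commutator_commutator_eq_bot_of_rotate h h'
  rwa [hL] at this

/-- If `N` is normal in a perfect group and `N Z(X) = X`, then `N = X`. -/
theorem eq_top_of_sup_center_eq_top [Group.IsPerfect X] {N : Subgroup X}
    (h : N ⊔ center X = ⊤) : N = ⊤ := by
  rw [eq_top_iff, ← Group.IsPerfect.commutator_eq_top (G := X), commutator_def,
    Subgroup.commutator_le]
  intro a _ b _
  have hn : N.Normal := by
    rw [← normalizer_eq_top_iff, eq_top_iff, ← h]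
    exact sup_le le_normalizer (Subgroup.center_le_normalizer (N : Set X))
  have ha : a ∈ N ⊔ center X := h ▸ mem_top a
  have hb : b ∈ N ⊔ center X := h ▸ mem_top b
  rw [mem_sup_of_normal_left] at ha hb
  obtain ⟨n, hnN, z, hz, rfl⟩ := ha
  obtain ⟨m, hmN, w, hw, rfl⟩ := hb
  rw [mem_center_iff] at hz hw
  have e : ⁅n * z, m * w⁆ = ⁅n, m⁆ := by
    simp only [commutatorElement_def, mul_inv_rev]
    calc n * z * (m * w) * (z⁻¹ * n⁻¹) * (w⁻¹ * m⁻¹)
        = n * (z * (m * w)) * z⁻¹ * n⁻¹ * (w⁻¹ * m⁻¹) := by group
      _ = n * ((m * w) * z) * z⁻¹ * n⁻¹ * (w⁻¹ * m⁻¹) := by rw [hz]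
      _ = n * m * (w * n⁻¹) * w⁻¹ * m⁻¹ := by group
      _ = n * m * (n⁻¹ * w) * w⁻¹ * m⁻¹ := by rw [hw]
      _ = n * m * n⁻¹ * m⁻¹ := by group
  rw [e, commutatorElement_def]
  exact N.mul_mem (N.mul_mem (N.mul_mem hnN hmN) (N.inv_mem hnN)) (N.inv_mem hmN)

/-- A perfect solvable group is trivial. -/
theorem subsingleton_of_perfect_solvable [Group.IsPerfect X] (h : Group.IsSolvable X) :
    Subsingleton X := by
  by_contra hs
  rw [not_subsingleton_iff_nontrivial] at hs
  exact Group.IsPerfect.not_isSolvable X h

theorem eq_bot_of_perfect_solvable {K : Subgroup G} (hK : ⁅K, K⁆ = K)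
    (h : Group.IsSolvable ↥K) : K = ⊥ := by
  have : Group.IsPerfect ↥K := Subgroup.isPerfect_iff.mpr hK
  have := subsingleton_of_perfect_solvable h
  exact eq_bot_of_subsingleton K

/-! ## Quasisimple groups -/

theorem isQuasisimple_iff :
    IsQuasisimple X ↔ Group.IsPerfect X ∧ IsSimpleGroup (X ⧸ center X) := Iff.rfl

theorem IsQuasisimple.nontrivial (h : IsQuasisimple X) : Nontrivial X := by
  have := h.2
  exact (QuotientGroup.mk'_surjective (center X)).nontrivial

theorem IsQuasisimple.center_ne_top (h : IsQuasisimple X) : center X ≠ ⊤ := by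
  intro hc
  have := h.2
  have hs : Subsingleton (X ⧸ center X) := QuotientGroup.subsingleton_iff.mpr hc
  exact not_subsingleton (X ⧸ center X) hs

theorem IsQuasisimple.not_isMulCommutative (h : IsQuasisimple X) : ¬ IsMulCommutative X := by
  have := h.1
  have := IsQuasisimple.nontrivial h
  exact Group.IsPerfect.not_isMulCommutative X

theorem IsQuasisimple.not_isSolvable (h : IsQuasisimple X) : ¬ Group.IsSolvable X := by
  have := h.1
  have := IsQuasisimple.nontrivial h
  exact Group.IsPerfect.not_isSolvable X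

theorem IsQuasisimple.quotient_not_isMulCommutative (h : IsQuasisimple X) :
    ¬ IsMulCommutative (X ⧸ center X) := by
  intro hc
  have := h.1
  have := h.2
  have hs : Subsingleton (X ⧸ center X) := Group.IsPerfect.subsingleton_of_isMulCommutative
  exact not_subsingleton (X ⧸ center X) hs

/-- Normal subgroups of a quasisimple group. -/
theorem IsQuasisimple.normal_eq_top_or_le_center (h : IsQuasisimple X) (N : Subgroup X)
    [hN : N.Normal] : N = ⊤ ∨ N ≤ center X := by
  have := h.1
  have := h.2
  have hn : (N.map (QuotientGroup.mk' (center X))).Normal :=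
    hN.map _ (QuotientGroup.mk'_surjective _)
  rcases hn.eq_bot_or_eq_top with hb | ht
  · right
    rw [Subgroup.map_eq_bot_iff, QuotientGroup.ker_mk'] at hb
    exact hb
  · left
    apply eq_top_of_sup_center_eq_top
    have := congrArg (Subgroup.comap (QuotientGroup.mk' (center X))) ht
    rwa [Subgroup.comap_map_eq, QuotientGroup.ker_mk', Subgroup.comap_top] at this

/-- Subnormal subgroups of a quasisimple group. -/
theorem IsQuasisimple.subnormal_eq_top_or_le_center (h : IsQuasisimple X) (N : Subgroup X)
    (hN : N.IsSubnormal) : N = ⊤ ∨ N ≤ center X := by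
  rcases hN.lt_normal with ht | ⟨K, hK, hNK, hlt⟩
  · exact Or.inl ht
  · rcases IsQuasisimple.normal_eq_top_or_le_center h K with hK' | hK'
    · exact absurd hK' hlt.ne
    · exact Or.inr (hNK.trans hK')

/-- A criterion: a perfect nontrivial group all of whose proper normal subgroups are central. -/
theorem isQuasisimple_of_normal_le_center [Group.IsPerfect X] [Nontrivial X]
    (h : ∀ N : Subgroup X, N.Normal → N ≠ ⊤ → N ≤ center X) : IsQuasisimple X := by
  refine ⟨inferInstance, ?_⟩
  have hc : center X ≠ ⊤ := by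
    intro hc
    have : IsMulCommutative X := ⟨⟨fun a b => by
      have hb : b ∈ center X := hc ▸ mem_top b
      exact mem_center_iff.mp hb a⟩⟩
    exact Group.IsPerfect.not_isMulCommutative X this
  have hnt : Nontrivial (X ⧸ center X) := by
    rw [← not_subsingleton_iff_nontrivial]
    exact fun hs => hc (QuotientGroup.subsingleton_iff.mp hs)
  refine { eq_bot_or_eq_top_of_normal := fun H hH => ?_ }
  by_cases hcm : H.comap (QuotientGroup.mk' (center X)) = ⊤
  · right
    rw [← Subgroup.map_comap_eq_self_of_surjective (QuotientGroup.mk'_surjective _) H, hcm]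
    exact Subgroup.map_top_of_surjective _ (QuotientGroup.mk'_surjective _)
  · left
    have hle := h _ (hH.comap _) hcm
    rw [← Subgroup.map_comap_eq_self_of_surjective (QuotientGroup.mk'_surjective _) H,
      Subgroup.map_eq_bot_iff, QuotientGroup.ker_mk']
    exact hle

/-- For a surjection from a quasisimple group onto a nontrivial group, the preimage of the centre
is the centre. -/
theorem IsQuasisimple.comap_center {Y : Type*} [Group Y] [Nontrivial Y] (h : IsQuasisimple X)
    {f : X →* Y} (hf : Function.Surjective f) : (center Y).comap f = center X := by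
  have := h.1
  have : Group.IsPerfect Y := Group.IsPerfect.ofSurjective hf
  refine le_antisymm ?_ ?_
  · rcases IsQuasisimple.normal_eq_top_or_le_center h ((center Y).comap f) with ht | hle
    · exfalso
      apply Group.IsPerfect.not_isMulCommutative Y
      have hc : center Y = ⊤ := by
        rw [← Subgroup.map_comap_eq_self_of_surjective hf (center Y), ht]
        exact Subgroup.map_top_of_surjective f hf
      exact ⟨⟨fun a b => mem_center_iff.mp (hc ▸ mem_top b) a⟩⟩
    · exact hle
  · intro x hx
    rw [Subgroup.mem_comap, mem_center_iff]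
    intro y
    obtain ⟨x', rfl⟩ := hf y
    rw [← map_mul, ← map_mul, mem_center_iff.mp hx x']

/-- A nontrivial quotient of a quasisimple group is quasisimple. -/
theorem IsQuasisimple.of_surjective {Y : Type*} [Group Y] [Nontrivial Y] (h : IsQuasisimple X)
    {f : X →* Y} (hf : Function.Surjective f) : IsQuasisimple Y := by
  have := h.1
  have : Group.IsPerfect Y := Group.IsPerfect.ofSurjective hf
  refine isQuasisimple_of_normal_le_center fun N hN hne => ?_
  rcases IsQuasisimple.normal_eq_top_or_le_center h (N.comap f) with ht | hle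
  · exfalso
    apply hne
    rw [← Subgroup.map_comap_eq_self_of_surjective hf N, ht]
    exact Subgroup.map_top_of_surjective f hf
  · rw [← IsQuasisimple.comap_center h hf] at hle
    exact (Subgroup.comap_le_comap_of_surjective hf).mp hle

theorem IsQuasisimple.of_mulEquiv {Y : Type*} [Group Y] (e : X ≃* Y) (h : IsQuasisimple X) :
    IsQuasisimple Y := by
  have := IsQuasisimple.nontrivial h
  have : Nontrivial Y := e.toEquiv.symm.nontrivial
  exact IsQuasisimple.of_surjective h (f := e.toMonoidHom) e.surjective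

theorem isQuasisimple_congr {Y : Type*} [Group Y] (e : X ≃* Y) :
    IsQuasisimple X ↔ IsQuasisimple Y :=
  ⟨IsQuasisimple.of_mulEquiv e, IsQuasisimple.of_mulEquiv e.symm⟩

/-- The image of a quasisimple subgroup under a homomorphism is trivial or quasisimple. -/
theorem IsQuasisimple.map {Y : Type*} [Group Y] {K : Subgroup X} (h : IsQuasisimple ↥K)
    (f : X →* Y) : K.map f = ⊥ ∨ IsQuasisimple ↥(K.map f) := by
  rcases eq_or_ne (K.map f) ⊥ with hb | hb
  · exact Or.inl hb
  · right
    have : Nontrivial ↥(K.map f) := (Subgroup.nontrivial_iff_ne_bot _).mpr hb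
    exact IsQuasisimple.of_surjective h (f := f.subgroupMap K)
      (f.subgroupMap_surjective K)

/-- A non-abelian simple group is quasisimple, with trivial centre. -/
theorem center_eq_bot_of_simple [IsSimpleGroup X] (h : ¬ IsMulCommutative X) : center X = ⊥ := by
  rcases (inferInstance : (center X).Normal).eq_bot_or_eq_top with hb | ht
  · exact hb
  · exact absurd ⟨⟨fun a b => mem_center_iff.mp (ht ▸ mem_top b) a⟩⟩ h

theorem isPerfect_of_simple [IsSimpleGroup X] (h : ¬ IsMulCommutative X) : Group.IsPerfect X := by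
  rw [Group.isPerfect_def]
  rcases (inferInstance : (commutator X).Normal).eq_bot_or_eq_top with hb | ht
  · exfalso
    apply h
    refine ⟨⟨fun a b => ?_⟩⟩
    have : ⁅a, b⁆ ∈ commutator X := by
      rw [commutator_def]; exact commutator_mem_commutator (mem_top a) (mem_top b)
    rw [hb, mem_bot] at this
    exact commutatorElement_eq_one_iff_mul_comm.mp this
  · exact ht

theorem isQuasisimple_of_simple [IsSimpleGroup X] (h : ¬ IsMulCommutative X) : IsQuasisimple X := by
  have := isPerfect_of_simple h
  refine isQuasisimple_of_normal_le_center fun N hN hne => ?_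
  rcases hN.eq_bot_or_eq_top with hb | ht
  · exact hb ▸ bot_le
  · exact absurd ht hne

/-- A perfect central extension of a quasisimple group is quasisimple. -/
theorem isQuasisimple_of_quotient [Group.IsPerfect X] {N : Subgroup X} [N.Normal]
    (hN : N ≤ center X) (h : IsQuasisimple (X ⧸ N)) : IsQuasisimple X := by
  have := IsQuasisimple.nontrivial h
  have : Nontrivial X := (QuotientGroup.mk'_surjective N).nontrivial
  refine isQuasisimple_of_normal_le_center fun M hM hne => ?_
  have hMn : (M.map (QuotientGroup.mk' N)).Normal := hM.map _ (QuotientGroup.mk'_surjective _)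
  rcases IsQuasisimple.normal_eq_top_or_le_center h (M.map (QuotientGroup.mk' N)) with ht | hle
  · exfalso
    apply hne
    apply eq_top_of_sup_center_eq_top
    have h2 := congrArg (Subgroup.comap (QuotientGroup.mk' N)) ht
    rw [Subgroup.comap_map_eq, QuotientGroup.ker_mk', Subgroup.comap_top] at h2
    exact top_le_iff.mp (h2 ▸ sup_le_sup_left hN M)
  · rw [← commutator_top_right_eq_bot_iff_le_center] at hle ⊢
    rw [← Subgroup.map_top_of_surjective _ (QuotientGroup.mk'_surjective N),
      ← Subgroup.map_commutator, Subgroup.map_eq_bot_iff, QuotientGroup.ker_mk'] at hle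
    rw [commutator_comm]
    refine commutator_eq_bot_of_perfect (by rw [← _root_.commutator_def]; exact Group.IsPerfect.commutator_eq_top) ?_
    rw [commutator_comm ⊤ M, eq_bot_iff]
    exact (commutator_mono (hle.trans hN) le_rfl).trans (commutator_center_left ⊤).le

/-- The residual statement for S1258: central quotient non-abelian simple. -/
theorem commutator_sup_center_eq_top (hs : IsSimpleGroup (X ⧸ center X))
    (hna : ¬ IsMulCommutative (X ⧸ center X)) : commutator X ⊔ center X = ⊤ := by
  have := isPerfect_of_simple hna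
  have hq : (commutator X).map (QuotientGroup.mk' (center X)) = ⊤ := by
    rw [_root_.commutator_def, Subgroup.map_commutator,
      Subgroup.map_top_of_surjective _ (QuotientGroup.mk'_surjective _), ← _root_.commutator_def]
    exact Group.IsPerfect.commutator_eq_top
  have := congrArg (Subgroup.comap (QuotientGroup.mk' (center X))) hq
  rwa [Subgroup.comap_map_eq, QuotientGroup.ker_mk', Subgroup.comap_top] at this

/-- If `X/Z(X)` is non-abelian simple then `X'` is quasisimple. -/
theorem isQuasisimple_commutator (hs : IsSimpleGroup (X ⧸ center X))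
    (hna : ¬ IsMulCommutative (X ⧸ center X)) : IsQuasisimple ↥(commutator X) := by
  have hsup := commutator_sup_center_eq_top hs hna
  -- `X'` is perfect
  have hperf : ⁅commutator X, commutator X⁆ = commutator X := by
    refine le_antisymm (Subgroup.commutator_le_left _ _) ?_
    conv_lhs => rw [commutator_def, ← hsup]
    rw [Subgroup.commutator_le]
    intro a ha b hb
    rw [mem_sup_of_normal_left] at ha hb
    obtain ⟨n, hn, z, hz, rfl⟩ := ha
    obtain ⟨m, hm, w, hw, rfl⟩ := hb
    rw [mem_center_iff] at hz hw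
    have e : ⁅n * z, m * w⁆ = ⁅n, m⁆ := by
      simp only [commutatorElement_def, mul_inv_rev]
      calc n * z * (m * w) * (z⁻¹ * n⁻¹) * (w⁻¹ * m⁻¹)
          = n * (z * (m * w)) * z⁻¹ * n⁻¹ * (w⁻¹ * m⁻¹) := by group
        _ = n * ((m * w) * z) * z⁻¹ * n⁻¹ * (w⁻¹ * m⁻¹) := by rw [hz]
        _ = n * m * (w * n⁻¹) * w⁻¹ * m⁻¹ := by group
        _ = n * m * (n⁻¹ * w) * w⁻¹ * m⁻¹ := by rw [hw]
        _ = n * m * n⁻¹ * m⁻¹ := by group
    rw [e]
    exact commutator_mem_commutator hn hm
  have hp : Group.IsPerfect ↥(commutator X) := Subgroup.isPerfect_iff.mpr hperf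
  -- the restriction of the quotient map to `X'` is onto with central kernel
  let f : ↥(commutator X) →* X ⧸ center X :=
    (QuotientGroup.mk' (center X)).comp (commutator X).subtype
  have hf : Function.Surjective f := by
    intro y
    obtain ⟨x, rfl⟩ := QuotientGroup.mk'_surjective (center X) y
    have hx : x ∈ commutator X ⊔ center X := hsup ▸ mem_top x
    rw [mem_sup_of_normal_left] at hx
    obtain ⟨n, hn, z, hz, rfl⟩ := hx
    refine ⟨⟨n, hn⟩, ?_⟩
    simp only [f, MonoidHom.coe_comp, Function.comp_apply, Subgroup.coe_subtype,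
      QuotientGroup.mk'_apply]
    rw [QuotientGroup.eq]
    simpa using hz
  have hker : f.ker ≤ center ↥(commutator X) := by
    intro x hx
    rw [MonoidHom.mem_ker] at hx
    simp only [f, MonoidHom.coe_comp, Function.comp_apply, Subgroup.coe_subtype,
      QuotientGroup.mk'_apply, QuotientGroup.eq_one_iff] at hx
    rw [mem_center_iff]
    intro y
    exact Subtype.ext (mem_center_iff.mp hx (y : X))
  exact isQuasisimple_of_quotient hker
    (IsQuasisimple.of_mulEquiv (QuotientGroup.quotientKerEquivOfSurjective f hf).symm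
      (isQuasisimple_of_simple hna))

/-- An automorphism of a perfect group trivial modulo the centre is the identity. -/
theorem apply_eq_self_of_perfect_of_central [Group.IsPerfect X] (α : X →* X)
    (h : ∀ x : X, α x * x⁻¹ ∈ center X) (x : X) : α x = x := by
  have hmem : x ∈ Subgroup.closure (commutatorSet X) := by
    rw [← commutator_eq_closure]; exact Group.IsPerfect.mem_commutator
  refine MonoidHom.eqOn_closure (g := MonoidHom.id X) ?_ hmem
  rintro _ ⟨a, b, rfl⟩
  have ha := h a
  have hb := h b
  simp only [MonoidHom.id_apply, map_commutatorElement]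
  obtain ⟨z, hz, hza⟩ : ∃ z ∈ center X, α a = z * a := ⟨_, ha, by group⟩
  obtain ⟨w, hw, hwb⟩ : ∃ w ∈ center X, α b = w * b := ⟨_, hb, by group⟩
  rw [hza, hwb]
  rw [mem_center_iff] at hz hw
  simp only [commutatorElement_def, mul_inv_rev]
  calc z * a * (w * b) * (a⁻¹ * z⁻¹) * (b⁻¹ * w⁻¹)
      = z * (a * w) * b * a⁻¹ * z⁻¹ * b⁻¹ * w⁻¹ := by group
    _ = z * (w * a) * b * a⁻¹ * z⁻¹ * b⁻¹ * w⁻¹ := by rw [hw a]
    _ = (z * w) * (a * b * a⁻¹) * z⁻¹ * b⁻¹ * w⁻¹ := by group
    _ = (w * z) * (a * b * a⁻¹) * z⁻¹ * b⁻¹ * w⁻¹ := by rw [hz w]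
    _ = w * ((z * (a * b * a⁻¹)) * z⁻¹ * b⁻¹) * w⁻¹ := by group
    _ = w * (((a * b * a⁻¹) * z) * z⁻¹ * b⁻¹) * w⁻¹ := by rw [hz (a * b * a⁻¹)]
    _ = (w * (a * b * a⁻¹ * b⁻¹)) * w⁻¹ := by group
    _ = ((a * b * a⁻¹ * b⁻¹) * w) * w⁻¹ := by rw [hw (a * b * a⁻¹ * b⁻¹)]
    _ = a * b * a⁻¹ * b⁻¹ := by group

end Cfsg.Agent.Lib.Components
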