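import Cfsg.Prelude.Def_Local
import Cfsg.Agent.Lib.Components.Quasisimple
/-!
# Components and the layer
-/

set_option autoImplicit false

namespace Cfsg.Agent.Lib.Components

open Subgroup
open scoped commutatorElement

universe u

variable {G : Type*} [Group G]

/-! ## Auxiliary facts on subgroups -/

theorem normal_subgroupOf_trans_left {H K : Subgroup G} (hH : H.Normal) : (H.subgroupOf K).Normal :=
  hH.comap _

theorem subgroupOf_map_eq_of_le {H K : Subgroup G} (h : H ≤ K) :
    (H.subgroupOf K).map K.subtype = H := map_subgroupOf_eq_of_le h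

/-- An element normalizes `K` iff conjugation by it maps `K` onto itself. -/
theorem mem_normalizer_iff_map_conj {K : Subgroup G} {g : G} :
    g ∈ normalizer (K : Set G) ↔ K.map (MulAut.conj g).toMonoidHom = K := by
  rw [Subgroup.mem_normalizer_iff]
  constructor
  · intro h
    ext x
    simp only [Subgroup.mem_map, MulEquiv.coe_toMonoidHom, MulAut.conj_apply]
    constructor
    · rintro ⟨y, hy, rfl⟩
      exact (h y).mp hy
    · intro hx
      refine ⟨g⁻¹ * x * g, ?_, by group⟩
      rw [h]
      simpa [mul_assoc] using hx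
  · intro h y
    constructor
    · intro hy
      rw [← h]
      exact ⟨y, hy, by simp⟩
    · intro hy
      rw [← h] at hy
      obtain ⟨z, hz, hzy⟩ := hy
      simp only [MulEquiv.coe_toMonoidHom, MulAut.conj_apply] at hzy
      have : z = y := by simpa using hzy
      rwa [← this]

theorem commute_of_commutator_eq_bot {H K : Subgroup G} (h : ⁅H, K⁆ = ⊥) {a b : G} (ha : a ∈ H)
    (hb : b ∈ K) : a * b = b * a :=
  commutatorElement_eq_one_iff_mul_comm.mp
    ((mem_bot).mp (h ▸ commutator_mem_commutator ha hb))

theorem le_centralizer_of_commutator_eq_bot {H K : Subgroup G} (h : ⁅H, K⁆ = ⊥) :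
    H ≤ centralizer (K : Set G) := commutator_eq_bot_iff_le_centralizer.mp h

theorem commutator_sup_eq_bot {H K L : Subgroup G} (h1 : ⁅H, K⁆ = ⊥) (h2 : ⁅H, L⁆ = ⊥) :
    ⁅H, K ⊔ L⁆ = ⊥ := by
  rw [commutator_comm, commutator_eq_bot_iff_le_centralizer] at h1 h2 ⊢
  exact sup_le h1 h2

theorem commutator_sSup_eq_bot {H : Subgroup G} {s : Set (Subgroup G)}
    (h : ∀ K ∈ s, ⁅H, K⁆ = ⊥) : ⁅H, sSup s⁆ = ⊥ := by
  rw [commutator_comm, commutator_eq_bot_iff_le_centralizer]
  exact sSup_le fun K hK => by
    rw [← commutator_eq_bot_iff_le_centralizer, commutator_comm]; exact h K hK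

/-- Normal in `K` in terms of conjugation. -/
theorem normal_subgroupOf_iff_forall {H K : Subgroup G} (h : H ≤ K) :
    (H.subgroupOf K).Normal ↔ ∀ k ∈ K, ∀ x ∈ H, k * x * k⁻¹ ∈ H := by
  rw [normal_subgroupOf_iff h]
  exact ⟨fun H' k hk x hx => H' x k hx hk, fun H' x k hx hk => H' k hk x hx⟩

/-- A join of a family of subgroups stable under conjugation is normal. -/
theorem sSup_normal_of_conj {s : Set (Subgroup G)}
    (h : ∀ g : G, ∀ K ∈ s, K.map (MulAut.conj g).toMonoidHom ∈ s) : (sSup s).Normal := by
  refine ⟨fun x hx g => ?_⟩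
  have : (sSup s).map (MulAut.conj g).toMonoidHom ≤ sSup s := by
    rw [sSup_eq_iSup', Subgroup.map_iSup]
    exact iSup_le fun K => le_sSup_of_le (h g K K.2) le_rfl |>.trans (by rw [sSup_eq_iSup'])
  exact this ⟨x, hx, by simp⟩

/-- Perfect joins. -/
theorem commutator_sSup_self {s : Set (Subgroup G)} (h : ∀ K ∈ s, ⁅K, K⁆ = K) :
    ⁅sSup s, sSup s⁆ = sSup s := by
  refine le_antisymm (commutator_le_sup _ _ |>.trans (sup_le le_rfl le_rfl)) ?_
  refine sSup_le fun K hK => ?_
  rw [← h K hK]
  exact commutator_mono (le_sSup hK) (le_sSup hK)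

/-- The commutator subgroup of the subgroup `K` of `G`, computed inside `K`. -/
theorem commutator_subgroupOf_self {H K : Subgroup G} (h : H ≤ K) :
    ⁅H.subgroupOf K, H.subgroupOf K⁆ = ⁅H, H⁆.subgroupOf K := by
  apply map_injective K.subtype_injective
  rw [map_commutator, map_subgroupOf_eq_of_le h,
    map_subgroupOf_eq_of_le ((commutator_le_sup H H).trans (sup_le h h))]

/-! ## Components: transport -/

theorem IsComponent.isSubnormal {K : Subgroup G} (h : IsComponent K) : K.IsSubnormal := h.1

theorem IsComponent.isQuasisimple {K : Subgroup G} (h : IsComponent K) : IsQuasisimple ↥K := h.2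

theorem IsComponent.commutator_self {K : Subgroup G} (h : IsComponent K) : ⁅K, K⁆ = K :=
  Subgroup.isPerfect_iff.mp h.2.1

theorem IsComponent.ne_bot {K : Subgroup G} (h : IsComponent K) : K ≠ ⊥ := by
  have := IsQuasisimple.nontrivial h.2
  exact (Subgroup.nontrivial_iff_ne_bot K).mp this

theorem IsComponent.not_isMulCommutative {K : Subgroup G} (h : IsComponent K) :
    ¬ IsMulCommutative ↥K := IsQuasisimple.not_isMulCommutative h.2

theorem IsComponent.not_isSolvable {K : Subgroup G} (h : IsComponent K) :
    ¬ Group.IsSolvable ↥K := IsQuasisimple.not_isSolvable h.2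

theorem IsComponent.map_mulEquiv {G' : Type*} [Group G'] (e : G ≃* G') {K : Subgroup G}
    (h : IsComponent K) : IsComponent (K.map e.toMonoidHom) :=
  ⟨h.1.map e.surjective, IsQuasisimple.of_mulEquiv
    (K.equivMapOfInjective e.toMonoidHom e.injective) h.2⟩

theorem IsComponent.map_conj {K : Subgroup G} (h : IsComponent K) (g : G) :
    IsComponent (K.map (MulAut.conj g).toMonoidHom) := IsComponent.map_mulEquiv _ h

theorem IsComponent.subgroupOf {K H : Subgroup G} (h : IsComponent K) (hle : K ≤ H) :
    IsComponent (K.subgroupOf H) :=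
  ⟨h.1.subgroupOf, IsQuasisimple.of_mulEquiv (Subgroup.subgroupOfEquivOfLe hle).symm h.2⟩

theorem IsComponent.map_subtype {H : Subgroup G} (hH : H.IsSubnormal) {K : Subgroup ↥H}
    (h : IsComponent K) : IsComponent (K.map H.subtype) :=
  ⟨h.1.trans' hH, IsQuasisimple.of_mulEquiv
    (K.equivMapOfInjective H.subtype H.subtype_injective) h.2⟩

/-- Components of a subnormal subgroup are the components of the group contained in it. -/
theorem isComponent_map_subtype_iff {H : Subgroup G} (hH : H.IsSubnormal) (K : Subgroup ↥H) :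
    IsComponent K ↔ IsComponent (K.map H.subtype) := by
  refine ⟨IsComponent.map_subtype hH, fun h => ?_⟩
  have := IsComponent.subgroupOf h (map_subtype_le K)
  rwa [Subgroup.subgroupOf, comap_map_eq_self_of_injective H.subtype_injective] at this

theorem isComponent_subgroupOf_iff {H K : Subgroup G} (hH : H.IsSubnormal) (hle : K ≤ H) :
    IsComponent (K.subgroupOf H) ↔ IsComponent K := by
  rw [isComponent_map_subtype_iff hH, map_subgroupOf_eq_of_le hle]

/-! ## The basic dichotomy -/

/-- A component is either contained in a given subnormal subgroup or centralizes it. -/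
theorem IsComponent.le_or_commutator_eq_bot [Finite G] {L H : Subgroup G} (hL : IsComponent L)
    (hH : H.IsSubnormal) : L ≤ H ∨ ⁅L, H⁆ = ⊥ := by
  suffices key : ∀ n : ℕ, ∀ A : Subgroup G, Nat.card A = n → ∀ L' H' : Subgroup ↥A,
      IsComponent L' → H'.IsSubnormal → L' ≤ H' ∨ ⁅L', H'⁆ = ⊥ by
    rcases key _ ⊤ rfl (L.subgroupOf ⊤) (H.subgroupOf ⊤) (IsComponent.subgroupOf hL le_top)
      hH.subgroupOf with h | h
    · left
      intro x hx
      exact h (x := (⟨x, mem_top x⟩ : ↥(⊤ : Subgroup G))) hx
    · right
      have := congrArg (Subgroup.map (⊤ : Subgroup G).subtype) h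
      rwa [map_commutator, map_subgroupOf_eq_of_le le_top, map_subgroupOf_eq_of_le le_top,
        Subgroup.map_bot] at this
  clear hL hH L H
  intro n
  induction n using Nat.strong_induction_on with
  | _ n ih =>
    intro A hA L H hL hH
    rcases hH.lt_normal with rfl | ⟨N, hN, hHN, hNlt⟩
    · exact Or.inl le_top
    rcases hL.1.lt_normal with rfl | ⟨M, hM, hLM, hMlt⟩
    · -- the whole group is quasisimple
      have hq : IsQuasisimple ↥A := IsQuasisimple.of_mulEquiv Subgroup.topEquiv hL.2
      rcases IsQuasisimple.subnormal_eq_top_or_le_center hq H hH with rfl | hle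
      · exact Or.inl le_top
      · right
        rwa [commutator_top_left_eq_bot_iff_le_center]
    -- transfer the statement to a proper subgroup of `A`
    have step : ∀ B : Subgroup ↥A, B < ⊤ → ∀ L' H' : Subgroup ↥A, IsComponent L' →
        H'.IsSubnormal → L' ≤ B → H' ≤ B → L' ≤ H' ∨ ⁅L', H'⁆ = ⊥ := by
      intro B hB L' H' hL' hH' hLB hHB
      have hcard : Nat.card ↥(B.map A.subtype) < n := by
        rw [← hA, ← Nat.card_congr (B.equivMapOfInjective A.subtype A.subtype_injective).toEquiv]
        refine lt_of_le_of_ne (Subgroup.card_le_card_group B) fun h => hB.ne ?_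
        exact Subgroup.eq_top_of_card_eq B h
      let e := B.equivMapOfInjective A.subtype A.subtype_injective
      rcases ih _ hcard (B.map A.subtype) rfl ((L'.subgroupOf B).map e.toMonoidHom)
        ((H'.subgroupOf B).map e.toMonoidHom)
        (IsComponent.map_mulEquiv e (IsComponent.subgroupOf hL' hLB))
        (hH'.subgroupOf.map e.surjective) with h | h
      · left
        have h' := (Subgroup.map_le_map_iff_of_injective e.injective).mp h
        intro x hx
        exact h' (x := (⟨x, hLB hx⟩ : ↥B)) hx
      · right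
        rw [← map_commutator,
          (Subgroup.map_eq_bot_iff_of_injective _ e.injective)] at h
        have := congrArg (Subgroup.map B.subtype) h
        rwa [map_commutator, map_subgroupOf_eq_of_le hLB, map_subgroupOf_eq_of_le hHB,
          Subgroup.map_bot] at this
    have hI : (M ⊓ N).IsSubnormal := hM.isSubnormal.inf hN.isSubnormal
    rcases step M hMlt L (M ⊓ N) hL hI hLM inf_le_left with h | h
    · exact step N hNlt L H hL hH (h.trans inf_le_right) hHN
    · right
      refine commutator_eq_bot_of_perfect (IsComponent.commutator_self hL) ?_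
      rw [eq_bot_iff, ← h, commutator_comm L (M ⊓ N)]
      exact commutator_mono ((commutator_mono hLM hHN).trans (commutator_le_inf M N)) le_rfl

/-- Two distinct components commute elementwise. -/
theorem IsComponent.commutator_eq_bot_of_ne [Finite G] {L K : Subgroup G} (hL : IsComponent L)
    (hK : IsComponent K) (hne : L ≠ K) : ⁅L, K⁆ = ⊥ := by
  rcases IsComponent.le_or_commutator_eq_bot hL hK.1 with h | h
  · exfalso
    rcases IsQuasisimple.subnormal_eq_top_or_le_center hK.2 (L.subgroupOf K) hL.1.subgroupOf
      with ht | hc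
    · exact hne (le_antisymm h (subgroupOf_eq_top.mp ht))
    · apply IsComponent.not_isMulCommutative hL
      refine ⟨⟨fun a b => ?_⟩⟩
      have := mem_center_iff.mp (hc (x := (⟨a, h a.2⟩ : ↥K)) a.2) ⟨b, h b.2⟩
      exact Subtype.ext (congrArg (fun x : ↥K => (x : G)) this).symm
  · exact h

theorem IsComponent.eq_of_le [Finite G] {L K : Subgroup G} (hL : IsComponent L)
    (hK : IsComponent K) (hle : L ≤ K) : L = K := by
  by_contra hne
  apply IsComponent.ne_bot hL
  rw [← IsComponent.commutator_self hL, eq_bot_iff,
    ← IsComponent.commutator_eq_bot_of_ne hL hK hne]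
  exact commutator_mono le_rfl hle

/-- A component commutes with every solvable subgroup it normalizes. -/
theorem IsComponent.commutator_eq_bot_of_solvable [Finite G] {L H : Subgroup G}
    (hL : IsComponent L) (hH : Group.IsSolvable ↥H) (hn : L ≤ normalizer (H : Set G)) :
    ⁅L, H⁆ = ⊥ := by
  have hL' : IsComponent (L.subgroupOf (L ⊔ H)) := IsComponent.subgroupOf hL le_sup_left
  have hH' : ((H.subgroupOf (L ⊔ H))).Normal :=
    normal_subgroupOf_of_le_normalizer (sup_le hn le_normalizer)
  rcases IsComponent.le_or_commutator_eq_bot hL' hH'.isSubnormal with h | h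
  · exfalso
    have hle : L ≤ H := fun x hx => h (x := (⟨x, le_sup_left (a := L) hx⟩ : ↥(L ⊔ H))) hx
    exact IsComponent.not_isSolvable hL
      (solvable_of_solvable_injective (Subgroup.inclusion_injective hle))
  · have := congrArg (Subgroup.map (L ⊔ H).subtype) h
    rwa [map_commutator, map_subgroupOf_eq_of_le le_sup_left, map_subgroupOf_eq_of_le le_sup_right,
      Subgroup.map_bot] at this

/-! ## The layer -/

theorem IsComponent.le_layer {K : Subgroup G} (h : IsComponent K) : K ≤ layer G := le_sSup h

theorem layer_le_iff {H : Subgroup G} : layer G ≤ H ↔ ∀ K, IsComponent K → K ≤ H := sSup_le_iff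

theorem layer_eq_bot_iff : layer G = ⊥ ↔ ∀ K : Subgroup G, ¬ IsComponent K := by
  rw [eq_bot_iff, layer_le_iff]
  exact ⟨fun h K hK => IsComponent.ne_bot hK (le_bot_iff.mp (h K hK)), fun h K hK => absurd hK (h K)⟩

theorem layer_eq_bot_iff_not_hasComponent : layer G = ⊥ ↔ ¬ HasComponent G := by
  rw [layer_eq_bot_iff]
  exact ⟨fun h ⟨K, h1, h2⟩ => h K ⟨h1, h2⟩, fun h K hK => h ⟨K, hK.1, hK.2⟩⟩

theorem map_layer_mulEquiv {G' : Type*} [Group G'] (e : G ≃* G') :
    (layer G).map e.toMonoidHom = layer G' := by
  refine le_antisymm ?_ ?_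
  · rw [map_le_iff_le_comap, layer_le_iff]
    exact fun K hK => map_le_iff_le_comap.mp (IsComponent.le_layer (IsComponent.map_mulEquiv e hK))
  · rw [layer_le_iff]
    intro K hK
    have h1 := IsComponent.le_layer (IsComponent.map_mulEquiv e.symm hK)
    intro x hx
    exact ⟨e.symm x, h1 ⟨x, hx, rfl⟩, e.apply_symm_apply x⟩

instance layer_characteristic : (layer G).Characteristic :=
  characteristic_iff_map_eq.mpr fun ϕ => map_layer_mulEquiv ϕ

instance layer_normal : (layer G).Normal := normal_of_characteristic _

theorem layer_commutator_self (G : Type*) [Group G] : ⁅layer G, layer G⁆ = layer G :=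
  commutator_sSup_self fun _ hK => IsComponent.commutator_self hK

theorem layer_isPerfect (G : Type*) [Group G] : Group.IsPerfect ↥(layer G) :=
  Subgroup.isPerfect_iff.mpr (layer_commutator_self G)

theorem IsComponent.layer_le_normalizer [Finite G] {K : Subgroup G} (h : IsComponent K) :
    layer G ≤ normalizer (K : Set G) := by
  rw [layer_le_iff]
  intro L hL
  rcases eq_or_ne L K with rfl | hne
  · exact le_normalizer
  · exact (le_centralizer_of_commutator_eq_bot
      (IsComponent.commutator_eq_bot_of_ne hL h hne)).trans (centralizer_le_normalizer _)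

theorem IsComponent.normal_in_layer [Finite G] {K : Subgroup G} (h : IsComponent K) :
    (K.subgroupOf (layer G)).Normal :=
  normal_subgroupOf_of_le_normalizer (IsComponent.layer_le_normalizer h)

/-- The layer centralizes every solvable normal subgroup. -/
theorem commutator_layer_eq_bot_of_solvable [Finite G] {H : Subgroup G} [H.Normal]
    (hH : Group.IsSolvable ↥H) : ⁅layer G, H⁆ = ⊥ := by
  rw [commutator_eq_bot_iff_le_centralizer, layer_le_iff]
  intro K hK
  rw [← commutator_eq_bot_iff_le_centralizer]
  exact IsComponent.commutator_eq_bot_of_solvable hK hH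
    (le_normalizer_of_normal)

/-- The image in `G` of the centre of a subgroup `H`. -/
theorem mem_map_center {H : Subgroup G} {x : G} :
    x ∈ (center ↥H).map H.subtype ↔ x ∈ H ∧ ∀ y ∈ H, y * x = x * y := by
  constructor
  · rintro ⟨x, hx, rfl⟩
    exact ⟨x.2, fun y hy => congrArg Subtype.val (mem_center_iff.mp hx ⟨y, hy⟩)⟩
  · rintro ⟨hx, h⟩
    exact ⟨⟨x, hx⟩, mem_center_iff.mpr fun y => Subtype.ext (h y y.2), rfl⟩

theorem map_center_eq_inf (H : Subgroup G) :
    (center ↥H).map H.subtype = H ⊓ centralizer (H : Set G) := by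
  ext x
  rw [mem_map_center, mem_inf, mem_centralizer_iff]
  rfl

/-- An element of the join of some components centralizing each of them lies in the join of their
centres. -/
theorem mem_iSup_center_of_centralize [Finite G] (s : Finset (Subgroup G))
    (hs : ∀ K ∈ s, IsComponent K) :
    ∀ z ∈ s.sup id, (∀ K ∈ s, ∀ k ∈ K, k * z = z * k) →
      z ∈ s.sup fun K => (center ↥K).map K.subtype := by
  classical
  induction s using Finset.induction_on with
  | empty => intro z hz _; simpa using hz
  | @insert L t hLt ih =>
    intro z hz hc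
    rw [Finset.sup_insert, id_eq] at hz
    have hcomm : ⁅L, t.sup id⁆ = ⊥ := by
      rw [commutator_comm, commutator_eq_bot_iff_le_centralizer]
      refine Finset.sup_le fun K hK => ?_
      rw [id_eq, ← commutator_eq_bot_iff_le_centralizer]
      exact IsComponent.commutator_eq_bot_of_ne (hs K (Finset.mem_insert_of_mem hK))
        (hs L (Finset.mem_insert_self L t)) (by rintro rfl; exact hLt hK)
    have hn : t.sup id ≤ normalizer (L : Set G) := by
      rw [commutator_comm] at hcomm
      exact (le_centralizer_of_commutator_eq_bot hcomm).trans (centralizer_le_normalizer _)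
    have hz' : z ∈ ((L ⊔ t.sup id : Subgroup G) : Set G) := hz
    rw [coe_mul_of_right_le_normalizer_left L (t.sup id) hn] at hz'
    obtain ⟨l, hl, r, hr, rfl⟩ := hz'
    have hlc : ∀ k ∈ L, k * l = l * k := by
      intro k hk
      have h1 := hc L (Finset.mem_insert_self L t) k hk
      have h2 : k * r = r * k := commute_of_commutator_eq_bot hcomm hk hr
      calc k * l = k * (l * r) * r⁻¹ := by group
        _ = l * r * k * r⁻¹ := by rw [h1]
        _ = l * (k * r) * r⁻¹ := by rw [h2]; group
        _ = l * k := by group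
    rw [Finset.sup_insert]
    refine mul_mem_sup (mem_map_center.mpr ⟨hl, hlc⟩)
      (ih (fun K hK => hs K (Finset.mem_insert_of_mem hK)) r hr fun K hK k hk => ?_)
    have h1 := hc K (Finset.mem_insert_of_mem hK) k hk
    have h2 : l * k = k * l := commute_of_commutator_eq_bot hcomm hl
      (Finset.le_sup (f := id) hK hk)
    calc k * r = l⁻¹ * (l * k) * r := by group
      _ = l⁻¹ * (k * (l * r)) := by rw [h2]; group
      _ = l⁻¹ * (l * r * k) := by rw [h1]
      _ = r * k := by group

theorem sSup_eq_finset_sup [Finite G] (p : Subgroup G → Prop) :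
    ∃ s : Finset (Subgroup G), (∀ K, K ∈ s ↔ p K) ∧ sSup {K | p K} = s.sup id := by
  classical
  have := Fintype.ofFinite (Subgroup G)
  refine ⟨Finset.univ.filter p, fun K => by simp, ?_⟩
  rw [Finset.sup_id_eq_sSup]
  congr 1
  ext K; simp

/-- `Z(E(G))` is generated by the centres of the components. -/
theorem map_center_layer [Finite G] :
    (center ↥(layer G)).map (layer G).subtype =
      ⨆ L : {K : Subgroup G // IsComponent K}, (center ↥(L : Subgroup G)).map (L : Subgroup G).subtype := by
  refine le_antisymm ?_ (iSup_le fun L => ?_)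
  · obtain ⟨s, hs, hsup⟩ := sSup_eq_finset_sup (fun K : Subgroup G => IsComponent K)
    intro z hz
    rw [mem_map_center] at hz
    obtain ⟨hzE, hzc⟩ := hz
    have h1 := mem_iSup_center_of_centralize s (fun K hK => (hs K).mp hK) z
      (by rw [← hsup]; exact hzE) fun K hK k hk => hzc k (IsComponent.le_layer ((hs K).mp hK) hk)
    exact (Finset.sup_le (f := fun K : Subgroup G => (center ↥K).map K.subtype)
      fun K hK => le_iSup (fun L : {K : Subgroup G // IsComponent K} =>
        (center ↥(L : Subgroup G)).map (L : Subgroup G).subtype) ⟨K, (hs K).mp hK⟩) h1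
  · intro z hz
    rw [mem_map_center] at hz ⊢
    refine ⟨IsComponent.le_layer L.2 hz.1, ?_⟩
    have hc : layer G ≤ centralizer {z} := by
      rw [layer_le_iff]
      intro K hK k hk
      rw [mem_centralizer_singleton_iff]
      rcases eq_or_ne K L with rfl | hne
      · exact hz.2 k hk
      · exact commute_of_commutator_eq_bot (IsComponent.commutator_eq_bot_of_ne hK L.2 hne) hk hz.1
    exact fun y hy => mem_centralizer_singleton_iff.mp (hc hy)

/-- A subnormal subgroup inside the layer: its derived subgroup is the join of the components it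
contains. -/
theorem commutator_of_subnormal_le_layer [Finite G] {H : Subgroup G} (hH : H.IsSubnormal)
    (hle : H ≤ layer G) : ⁅H, H⁆ = sSup {K | IsComponent K ∧ K ≤ H} := by
  set E₁ := sSup {K | IsComponent K ∧ K ≤ H} with hE₁
  set E₂ := sSup {K | IsComponent K ∧ ¬ K ≤ H} with hE₂
  have hE₁H : E₁ ≤ H := sSup_le fun K hK => hK.2
  have h12 : ⁅E₂, E₁⁆ = ⊥ := commutator_sSup_eq_bot fun K hK => by
    rw [commutator_comm]
    exact commutator_sSup_eq_bot fun L hL => IsComponent.commutator_eq_bot_of_ne hK.1 hL.1
      (by rintro rfl; exact hL.2 hK.2)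
  have h2H : ⁅H, E₂⁆ = ⊥ := commutator_sSup_eq_bot fun K hK => by
    rw [commutator_comm]
    exact (IsComponent.le_or_commutator_eq_bot hK.1 hH).resolve_left hK.2
  have hn : E₂ ≤ normalizer (E₁ : Set G) :=
    (le_centralizer_of_commutator_eq_bot h12).trans (centralizer_le_normalizer _)
  have hlay : layer G ≤ E₁ ⊔ E₂ := by
    rw [layer_le_iff]
    intro K hK
    by_cases h : K ≤ H
    · exact le_sup_of_le_left (le_sSup ⟨hK, h⟩)
    · exact le_sup_of_le_right (le_sSup ⟨hK, h⟩)
  have hperf : ⁅E₁, E₁⁆ = E₁ := commutator_sSup_self fun K hK => IsComponent.commutator_self hK.1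
  refine le_antisymm ?_ (hperf ▸ commutator_mono hE₁H hE₁H)
  rw [Subgroup.commutator_le]
  intro a ha b hb
  have ha' : a ∈ ((E₁ ⊔ E₂ : Subgroup G) : Set G) := hlay (hle ha)
  have hb' : b ∈ ((E₁ ⊔ E₂ : Subgroup G) : Set G) := hlay (hle hb)
  rw [coe_mul_of_right_le_normalizer_left E₁ E₂ hn] at ha' hb'
  obtain ⟨e, he, z, hz, rfl⟩ := ha'
  obtain ⟨f, hf, w, hw, rfl⟩ := hb'
  have hzH : z ∈ H := (H.mul_mem_cancel_left (hE₁H he)).mp ha
  have hwH : w ∈ H := (H.mul_mem_cancel_left (hE₁H hf)).mp hb
  have zf : f * z = z * f := commute_of_commutator_eq_bot h2H (hE₁H hf) hz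
  have zw : w * z = z * w := commute_of_commutator_eq_bot h2H hwH hz
  have we : e * w = w * e := commute_of_commutator_eq_bot h2H (hE₁H he) hw
  have ze : e * z = z * e := commute_of_commutator_eq_bot h2H (hE₁H he) hz
  have wf : f * w = w * f := commute_of_commutator_eq_bot h2H (hE₁H hf) hw
  have cz : Commute z (f * w) := by
    change z * (f * w) = f * w * z
    rw [← mul_assoc, ← zf, mul_assoc, ← zw, ← mul_assoc]
  have key : ⁅e * z, f * w⁆ = ⁅e, f⁆ := by
    rw [commutatorElement_mul_left_eq_conj_mul, cz.commutator_eq, mul_one, mul_inv_cancel, one_mul,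
      commutatorElement_mul_right_eq_mul_conj, (show Commute e w from we).commutator_eq]
    group
  rw [key]
  rw [← hperf]
  exact commutator_mem_commutator he hf

/-- A perfect subnormal subgroup inside the layer is a join of components. -/
theorem eq_sSup_of_perfect_subnormal_le_layer [Finite G] {H : Subgroup G} (hH : H.IsSubnormal)
    (hperf : ⁅H, H⁆ = H) (hle : H ≤ layer G) : H = sSup {K | IsComponent K ∧ K ≤ H} :=
  hperf.symm.trans (commutator_of_subnormal_le_layer hH hle)

theorem layer_le_normalizer_sSup [Finite G] (p : Subgroup G → Prop) :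
    layer G ≤ normalizer ((sSup {K | IsComponent K ∧ p K} : Subgroup G) : Set G) := by
  intro g hg
  rw [mem_normalizer_iff_map_conj, sSup_eq_iSup', Subgroup.map_iSup]
  refine iSup_congr fun K => ?_
  exact mem_normalizer_iff_map_conj.mp (IsComponent.layer_le_normalizer K.2.1 hg)

/-- The layer of a subnormal subgroup is the join of the components it contains. -/
theorem map_layer_subtype {H : Subgroup G} (hH : H.IsSubnormal) :
    (layer ↥H).map H.subtype = sSup {K | IsComponent K ∧ K ≤ H} := by
  refine le_antisymm ?_ (sSup_le fun K hK => ?_)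
  · rw [map_le_iff_le_comap, layer_le_iff]
    intro K hK
    rw [← map_le_iff_le_comap]
    exact le_sSup ⟨IsComponent.map_subtype hH hK, map_subtype_le K⟩
  · rw [← map_subgroupOf_eq_of_le hK.2]
    exact map_mono (IsComponent.le_layer (IsComponent.subgroupOf hK.1 hK.2))

theorem map_layer_subtype_le {H : Subgroup G} (hH : H.IsSubnormal) :
    (layer ↥H).map H.subtype ≤ layer G := by
  rw [map_layer_subtype hH]
  exact sSup_le fun K hK => IsComponent.le_layer hK.1

/-- A subnormal subgroup equal to its own layer lies in the layer, normally. -/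
theorem le_layer_of_layer_eq_top [Finite G] {A : Subgroup G} (hA : A.IsSubnormal)
    (h : layer ↥A = ⊤) : A ≤ layer G ∧ (A.subgroupOf (layer G)).Normal := by
  have e : A = sSup {K | IsComponent K ∧ K ≤ A} := by
    rw [← map_layer_subtype hA, h, ← MonoidHom.range_eq_map, range_subtype]
  constructor
  · rw [e]; exact sSup_le fun K hK => IsComponent.le_layer hK.1
  · apply normal_subgroupOf_of_le_normalizer
    have := layer_le_normalizer_sSup (G := G) (fun K => K ≤ A)
    rwa [← e] at this

end Cfsg.Agent.Lib.Components
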