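import Cfsg.Agent.Lib.Components.PComponent
/-!
# Transport of centralizers, cores and components along isomorphisms
-/

set_option autoImplicit false

namespace Cfsg.Agent.Lib.Components

open Subgroup

variable {G G' : Type*} [Group G] [Group G']

theorem map_centralizer_mulEquiv (e : G ≃* G') (s : Set G) :
    (centralizer s).map e.toMonoidHom = centralizer (e '' s) := by
  ext y
  constructor
  · rintro ⟨x, hx, rfl⟩
    rw [mem_centralizer_iff]
    rintro _ ⟨z, hz, rfl⟩
    change e z * e x = e x * e z
    rw [← map_mul, ← map_mul, mem_centralizer_iff.mp hx z hz]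
  · intro hy
    refine ⟨e.symm y, ?_, e.apply_symm_apply y⟩
    rw [SetLike.mem_coe, mem_centralizer_iff]
    intro z hz
    apply e.injective
    rw [map_mul, map_mul, e.apply_symm_apply]
    exact mem_centralizer_iff.mp hy _ ⟨z, hz, rfl⟩

theorem map_centralizer_conj_singleton (g y : G) :
    (centralizer ({y} : Set G)).map (MulAut.conj g).toMonoidHom =
      centralizer ({g * y * g⁻¹} : Set G) := by
  rw [map_centralizer_mulEquiv, Set.image_singleton, MulAut.conj_apply]

theorem map_centralizer_subgroup_mulEquiv (e : G ≃* G') (H : Subgroup G) :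
    (centralizer (H : Set G)).map e.toMonoidHom =
      centralizer ((H.map e.toMonoidHom : Subgroup G') : Set G') := by
  rw [map_centralizer_mulEquiv, Subgroup.coe_map]
  rfl

theorem isComponent_subgroupOf_map (e : G ≃* G') {K H : Subgroup G} (hle : K ≤ H)
    (hK : IsComponent (K.subgroupOf H)) :
    IsComponent ((K.map e.toMonoidHom).subgroupOf (H.map e.toMonoidHom)) := by
  have h := IsComponent.map_mulEquiv (H.equivMapOfInjective e.toMonoidHom e.injective) hK
  have heq : (K.subgroupOf H).map
      (H.equivMapOfInjective e.toMonoidHom e.injective).toMonoidHom =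
      (K.map e.toMonoidHom).subgroupOf (H.map e.toMonoidHom) := by
    ext y
    constructor
    · rintro ⟨x, hx, rfl⟩
      exact ⟨x, hx, rfl⟩
    · rintro ⟨x, hx, hxy⟩
      exact ⟨⟨x, hle hx⟩, hx, Subtype.ext hxy⟩
  rwa [heq] at h

theorem map_pPrimeCore_mulEquiv (p : ℕ) (e : G ≃* G') :
    (pPrimeCore p G).map e.toMonoidHom = pPrimeCore p G' :=
  le_antisymm (map_pPrimeCore_le p e) fun x hx =>
    ⟨e.symm x, map_pPrimeCore_le p e.symm ⟨x, hx, rfl⟩, e.apply_symm_apply x⟩

theorem map_map_pPrimeCore_subgroup (p : ℕ) (e : G ≃* G') (H : Subgroup G) :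
    ((pPrimeCore p ↥H).map H.subtype).map e.toMonoidHom =
      (pPrimeCore p ↥(H.map e.toMonoidHom)).map (H.map e.toMonoidHom).subtype := by
  rw [← map_pPrimeCore_mulEquiv p (H.equivMapOfInjective e.toMonoidHom e.injective),
    Subgroup.map_map, Subgroup.map_map]
  rfl

theorem map_centralizerPPrimeCore_conj (p : ℕ) (g x : G) :
    (centralizerPPrimeCore p x).map (MulAut.conj g).toMonoidHom =
      centralizerPPrimeCore p (g * x * g⁻¹) := by
  rw [centralizerPPrimeCore, map_map_pPrimeCore_subgroup, centralizerPPrimeCore,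
    map_centralizer_conj_singleton]

end Cfsg.Agent.Lib.Components
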