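import Cfsg.Agent.Lib.Components.Constrained
import Cfsg.Agent.Lib.Coprime.PxQ
/-!
# Components, cores and `p`-components of `p`-local subgroups
-/

set_option autoImplicit false

namespace Cfsg.Agent.Lib.Components

open Subgroup
open scoped commutatorElement

variable {G : Type*} [Group G] {p : ℕ}

/-! ## Generalities -/

theorem eq_bot_of_isPGroup_of_coprime [Finite G] [hp : Fact p.Prime] {H : Subgroup G}
    (h1 : IsPGroup p ↥H) (h2 : (Nat.card ↥H).Coprime p) : H = ⊥ := by
  obtain ⟨n, hn⟩ := IsPGroup.iff_card.mp h1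
  refine Subgroup.eq_bot_of_card_eq _ ?_
  have := (h2.pow_right n).gcd_eq_one
  rwa [← hn, Nat.gcd_self] at this

/-- Components of a solvable group do not exist. -/
theorem layer_eq_bot_of_solvable (h : Group.IsSolvable G) : layer G = ⊥ :=
  layer_eq_bot_iff.mpr fun K hK =>
    IsComponent.not_isSolvable hK (Group.isSolvable_of_isSolvable_injective K.subtype_injective)

theorem pLayer_eq_bot_of_solvable [Finite G] [Fact p.Prime] (h : Group.IsSolvable G) :
    pLayer p G = ⊥ :=
  (pLayer_eq_bot_iff p).mpr (layer_eq_bot_of_solvable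
    (Group.isSolvable_of_surjective (f := QuotientGroup.mk' (pPrimeCore p G))
      (QuotientGroup.mk'_surjective _)))

theorem isPConstrained_of_solvable [Finite G] [Fact p.Prime] (h : Group.IsSolvable G) :
    IsPConstrained p G := (isPConstrained_iff p).mpr (pLayer_eq_bot_of_solvable h)

/-- The `p'`-core of a normal subgroup `A` of `H`, both seen in `G`. -/
theorem map_pPrimeCore_le_of_normal [Finite G] {A H : Subgroup G} (h : A ≤ H)
    (hn : (A.subgroupOf H).Normal) :
    (pPrimeCore p ↥A).map A.subtype ≤ (pPrimeCore p ↥H).map H.subtype := by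
  refine le_trans ?_ (map_mono (map_pPrimeCore_subtype_le p hn.isSubnormal))
  rintro _ ⟨x, hx, rfl⟩
  let e : ↥A ≃* ↥(A.subgroupOf H) := (Subgroup.subgroupOfEquivOfLe h).symm
  exact ⟨(e x : ↥H), ⟨e x, map_pPrimeCore_le p e ⟨x, hx, rfl⟩, rfl⟩, rfl⟩

/-- A perfect subgroup is generated by its elements of order prime to `p`. -/
theorem le_of_forall_coprime_mem [Finite G] [hp : Fact p.Prime] {K M : Subgroup G}
    (hK : ⁅K, K⁆ = K) (h : ∀ x ∈ K, (orderOf x).Coprime p → x ∈ M) : K ≤ M := by
  set T := Subgroup.closure {x : ↥K | (orderOf x).Coprime p} with hT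
  have hTn : T.Normal := by
    rw [hT]
    refine ⟨fun x hx g => ?_⟩
    have : T.map (MulAut.conj g).toMonoidHom ≤ T := by
      rw [hT, MonoidHom.map_closure, Subgroup.closure_le]
      rintro _ ⟨y, hy, rfl⟩
      refine Subgroup.subset_closure ?_
      change (orderOf ((MulAut.conj g) y)).Coprime p
      rwa [MulEquiv.orderOf_eq]
    exact this ⟨x, hx, by simp⟩
  have hperf : Group.IsPerfect ↥K := Subgroup.isPerfect_iff.mpr hK
  have hpg : IsPGroup p (↥K ⧸ T) := by
    intro y
    obtain ⟨x, rfl⟩ := QuotientGroup.mk_surjective y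
    obtain ⟨a, m, hm, hord⟩ :=
      Nat.exists_eq_pow_mul_and_not_dvd (orderOf_pos x).ne' p hp.out.ne_one
    refine ⟨a, ?_⟩
    rw [← QuotientGroup.mk_pow, QuotientGroup.eq_one_iff]
    refine Subgroup.subset_closure ?_
    change (orderOf (x ^ p ^ a)).Coprime p
    rw [orderOf_pow, hord, Nat.gcd_eq_right (dvd_mul_right _ _),
      Nat.mul_div_cancel_left _ (pow_pos hp.out.pos a)]
    exact (hp.out.coprime_iff_not_dvd.mpr hm).symm
  have hsub : Subsingleton (↥K ⧸ T) := by
    by_contra hs
    rw [not_subsingleton_iff_nontrivial] at hs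
    have := hpg.isNilpotent
    exact Group.IsPerfect.not_isNilpotent (↥K ⧸ T) inferInstance
  have htop : T = ⊤ := QuotientGroup.subsingleton_iff.mp hsub
  intro x hx
  have hmem : (⟨x, hx⟩ : ↥K) ∈ T := htop ▸ Subgroup.mem_top _
  have hle : T ≤ M.subgroupOf K := by
    rw [hT, Subgroup.closure_le]
    intro y hy
    exact h y y.2 (by rw [Subgroup.orderOf_coe]; exact hy)
  exact hle hmem

/-- Moving a `p`-subgroup back by an element of the normal `p'`-subgroup `W`. -/
theorem exists_mul_mem_normalizer [Finite G] [hp : Fact p.Prime] {W P : Subgroup G} [W.Normal]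
    (hW : (Nat.card ↥W).Coprime p) (hP : IsPGroup p ↥P) {g : G}
    (hg : P.map (MulAut.conj g).toMonoidHom ≤ W ⊔ P) :
    ∃ w ∈ W, w⁻¹ * g ∈ normalizer (P : Set G) := by
  set V := W ⊔ P with hV
  obtain ⟨S1, hS1⟩ := (hP.of_equiv (Subgroup.subgroupOfEquivOfLe (le_sup_right : P ≤ V)).symm).exists_le_sylow
  have hS1eq : (S1 : Subgroup ↥V) = P.subgroupOf V := by
    refine (Subgroup.eq_of_le_of_card_ge hS1 ?_).symm
    rw [Nat.card_congr (Subgroup.subgroupOfEquivOfLe (le_sup_right : P ≤ V)).toEquiv]
    obtain ⟨n, hn⟩ := IsPGroup.iff_card.mp S1.isPGroup'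
    refine Nat.le_of_dvd Nat.card_pos ?_
    refine Nat.Coprime.dvd_of_dvd_mul_left ?_
      (((Subgroup.card_subgroup_dvd_card (S1 : Subgroup ↥V)).trans
        (show Nat.card ↥V ∣ Nat.card ↥W * Nat.card ↥P by
          rw [hV, sup_comm, mul_comm (Nat.card ↥W)]; exact card_sup_dvd P W)))
    rw [hn]
    exact (hW.symm.pow_left n)
  obtain ⟨S2, hS2⟩ :=
    ((hP.map (MulAut.conj g).toMonoidHom).of_equiv (Subgroup.subgroupOfEquivOfLe hg).symm).exists_le_sylow
  obtain ⟨v, hv⟩ := MulAction.exists_smul_eq ↥V S1 S2
  have hv' : (v : G) ∈ ((W ⊔ P : Subgroup G) : Set G) := v.2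
  rw [coe_mul_of_right_le_normalizer_left _ _ le_normalizer_of_normal] at hv'
  obtain ⟨w, hw, x, hx, hwx⟩ := hv'
  refine ⟨w, hw, ?_⟩
  rw [mem_normalizer_iff_map_conj]
  refine Subgroup.eq_of_le_of_card_ge ?_ ?_
  · rintro _ ⟨y, hy, rfl⟩
    have h1 : (⟨g * y * g⁻¹, hg ⟨y, hy, rfl⟩⟩ : ↥V) ∈ (S2 : Subgroup ↥V) :=
      hS2 (show g * y * g⁻¹ ∈ P.map (MulAut.conj g).toMonoidHom from ⟨y, hy, rfl⟩)
    rw [← hv, Sylow.coe_subgroup_smul, Subgroup.mem_pointwise_smul_iff_inv_smul_mem,
      hS1eq, Subgroup.mem_subgroupOf] at h1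
    have h2 : (v : G)⁻¹ * (g * y * g⁻¹) * (v : G) ∈ P := by
      simpa [mul_assoc] using h1
    have h3 := P.mul_mem (P.mul_mem hx h2) (P.inv_mem hx)
    have e : x * ((v : G)⁻¹ * (g * y * g⁻¹) * (v : G)) * x⁻¹ = w⁻¹ * g * y * (w⁻¹ * g)⁻¹ := by
      rw [← hwx]; group
    rw [e] at h3
    exact h3
  · exact (Subgroup.card_map_of_injective (MulAut.conj (w⁻¹ * g)).injective).ge

/-- Under the quotient by a normal `p'`-subgroup, normalizers of `p`-subgroups map onto
normalizers. -/
theorem map_normalizer_quotient [Finite G] [hp : Fact p.Prime] (W : Subgroup G) [W.Normal]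
    (hW : (Nat.card ↥W).Coprime p) {P : Subgroup G} (hP : IsPGroup p ↥P) :
    (normalizer (P : Set G)).map (QuotientGroup.mk' W) =
      normalizer ((P.map (QuotientGroup.mk' W) : Subgroup (G ⧸ W)) : Set (G ⧸ W)) := by
  refine le_antisymm (le_normalizer_map _) fun y hy => ?_
  obtain ⟨g, rfl⟩ := QuotientGroup.mk'_surjective W y
  have hle : P.map (MulAut.conj g).toMonoidHom ≤ W ⊔ P := by
    rintro _ ⟨x, hx, rfl⟩
    obtain ⟨z, hz, hzx⟩ := (Subgroup.mem_normalizer_iff.mp hy (QuotientGroup.mk' W x)).mp
      (Subgroup.mem_map_of_mem _ hx)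
    have hmem : g * x * g⁻¹ * z⁻¹ ∈ W := by
      rw [← QuotientGroup.eq_one_iff]
      change QuotientGroup.mk' W (g * x * g⁻¹ * z⁻¹) = 1
      rw [map_mul, map_mul, map_mul, map_inv, map_inv, hzx]
      group
    have e : g * x * g⁻¹ = g * x * g⁻¹ * z⁻¹ * z := by group
    simp only [MulEquiv.coe_toMonoidHom, MulAut.conj_apply]
    rw [e]
    exact mul_mem_sup hmem hz
  obtain ⟨w, hw, hn⟩ := exists_mul_mem_normalizer hW hP hle
  refine ⟨w⁻¹ * g, hn, ?_⟩
  rw [map_mul, map_inv, show QuotientGroup.mk' W w = 1 from (QuotientGroup.eq_one_iff w).mpr hw,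
    inv_one, one_mul]

/-! ## The `P × Q` lemma applied to `O_p(G)` -/

/-- A `p'`-element centralizing `P` and `C(P) ∩ O_p(G)` centralizes `O_p(G)`. -/
theorem mem_centralizer_pCore_of_PxQ [Finite G] [hp : Fact p.Prime] {P : Subgroup G}
    (hP : IsPGroup p ↥P) {x : G} (hx : (orderOf x).Coprime p)
    (hxP : x ∈ centralizer (P : Set G))
    (hxR : x ∈ centralizer ((pCore p G ⊓ centralizer (P : Set G) : Subgroup G) : Set G)) :
    x ∈ centralizer (pCore p G : Set G) := by
  have := Cfsg.Agent.Lib.Coprime.le_centralizer_of_PxQ (U := pCore p G) (Q := zpowers x) hP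
    (by rwa [Nat.card_zpowers]) (pCore_isPGroup p)
    (by rw [le_centralizer_iff, zpowers_le]; exact hxP)
    le_normalizer_of_normal le_normalizer_of_normal
    (by rw [le_centralizer_iff, zpowers_le]; exact hxR)
  exact this (mem_zpowers x)

/-- A perfect subgroup centralizing `P` and `C(P) ∩ O_p(G)` centralizes `O_p(G)`. -/
theorem perfect_le_centralizer_pCore [Finite G] [hp : Fact p.Prime] {P K : Subgroup G}
    (hP : IsPGroup p ↥P) (hK : ⁅K, K⁆ = K) (hKP : K ≤ centralizer (P : Set G))
    (hKR : K ≤ centralizer ((pCore p G ⊓ centralizer (P : Set G) : Subgroup G) : Set G)) :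
    K ≤ centralizer (pCore p G : Set G) :=
  le_of_forall_coprime_mem (p := p) hK fun _ hx hxo =>
    mem_centralizer_pCore_of_PxQ hP hxo (hKP hx) (hKR hx)

/-- The `p'`-core centralizes the `p`-core. -/
theorem pPrimeCore_le_centralizer_pCore [Finite G] [hp : Fact p.Prime] :
    pPrimeCore p G ≤ centralizer (pCore p G : Set G) := by
  rw [← commutator_eq_bot_iff_le_centralizer, eq_bot_iff,
    ← isPGroup_inf_pPrimeCore_eq_bot (pCore_isPGroup (G := G) p)]
  exact le_inf (commutator_le_right _ _) (commutator_le_left _ _)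

theorem IsPComponent.le_centralizer_pCore [Finite G] [hp : Fact p.Prime] {K : Subgroup G}
    (hK : IsPComponent p K) : K ≤ centralizer (pCore p G : Set G) := by
  set q := QuotientGroup.mk' (pPrimeCore p G) with hq
  have hn : ((pCore p G).map q).Normal :=
    (inferInstance : (pCore p G).Normal).map q (QuotientGroup.mk'_surjective _)
  have h1 : ⁅K.map q, (pCore p G).map q⁆ = ⊥ :=
    IsComponent.commutator_eq_bot_of_solvable hK.2.1
      (have := ((pCore_isPGroup (G := G) p).map q).isNilpotent; IsNilpotent.to_isSolvable)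
      le_normalizer_of_normal
  rw [← map_commutator, Subgroup.map_eq_bot_iff, QuotientGroup.ker_mk'] at h1
  rw [← commutator_eq_bot_iff_le_centralizer, eq_bot_iff,
    ← isPGroup_inf_pPrimeCore_eq_bot (pCore_isPGroup (G := G) p)]
  exact le_inf (commutator_le_right _ _) h1

theorem pLayer_le_centralizer_pCore [Finite G] [hp : Fact p.Prime] :
    pLayer p G ≤ centralizer (pCore p G : Set G) :=
  pLayer_le_iff.mpr fun _ hK => IsPComponent.le_centralizer_pCore hK

theorem layer_le_centralizer_pCore [Finite G] [hp : Fact p.Prime] :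
    layer G ≤ centralizer (pCore p G : Set G) :=
  layer_le_centralizer_fittingSubgroup.trans (centralizer_le (pCore_le_fittingSubgroup (G := G) p))

/-- The preimage of the layer of the quotient by the `p'`-core. -/
theorem comap_layer_quotient [Finite G] [Fact p.Prime] :
    (layer (G ⧸ pPrimeCore p G)).comap (QuotientGroup.mk' (pPrimeCore p G)) =
      pLayer p G ⊔ pPrimeCore p G := by
  rw [← map_pLayer p, Subgroup.comap_map_eq, QuotientGroup.ker_mk']

/-! ## Local subgroups -/

section Normalizer

variable [Finite G] [hp : Fact p.Prime]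

theorem subgroupOf_normalizer_le_pCore {P : Subgroup G} (hP : IsPGroup p ↥P) :
    P.subgroupOf (normalizer (P : Set G)) ≤ pCore p ↥(normalizer (P : Set G)) :=
  le_pCore (normal_subgroupOf_of_le_normalizer le_rfl)
    (hP.of_equiv (Subgroup.subgroupOfEquivOfLe le_normalizer).symm)

theorem map_centralizer_pCore_normalizer_le {P : Subgroup G} (hP : IsPGroup p ↥P) :
    (centralizer (pCore p ↥(normalizer (P : Set G)) : Set ↥(normalizer (P : Set G)))).map
        (normalizer (P : Set G)).subtype ≤
      centralizer (P : Set G) ⊓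
        centralizer ((pCore p G ⊓ centralizer (P : Set G) : Subgroup G) : Set G) := by
  set N := normalizer (P : Set G)
  have hR : (pCore p G ⊓ centralizer (P : Set G)).subgroupOf N ≤ pCore p ↥N := by
    refine le_pCore ?_ ?_
    · rw [Subgroup.subgroupOf, Subgroup.comap_inf]
      have h1 : ((pCore p G).comap N.subtype).Normal := inferInstance
      have h2 : ((centralizer (P : Set G)).comap N.subtype).Normal :=
        normal_subgroupOf_of_le_normalizer (fun x hx => by
          rw [Subgroup.mem_normalizer_iff]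
          intro y
          simp only [mem_centralizer_iff]
          constructor
          · intro h z hz
            have := h (x⁻¹ * z * x) ((Subgroup.mem_normalizer_iff''.mp hx z).mp hz)
            calc z * (x * y * x⁻¹) = x * ((x⁻¹ * z * x) * y) * x⁻¹ := by group
              _ = x * (y * (x⁻¹ * z * x)) * x⁻¹ := by rw [this]
              _ = x * y * x⁻¹ * z := by group
          · intro h z hz
            have := h (x * z * x⁻¹) ((Subgroup.mem_normalizer_iff.mp hx z).mp hz)
            calc z * y = x⁻¹ * ((x * z * x⁻¹) * (x * y * x⁻¹)) * x := by group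
              _ = x⁻¹ * ((x * y * x⁻¹) * (x * z * x⁻¹)) * x := by rw [this]
              _ = y * z := by group)
      exact inferInstance
    · refine IsPGroup.of_equiv ?_
        (Subgroup.subgroupOfEquivOfLe (inf_le_right.trans (centralizer_le_normalizer _))).symm
      exact (pCore_isPGroup p).to_le inf_le_left
  rintro _ ⟨x, hx, rfl⟩
  rw [SetLike.mem_coe, mem_centralizer_iff] at hx
  refine ⟨mem_centralizer_iff.mpr fun y hy => ?_, mem_centralizer_iff.mpr fun y hy => ?_⟩
  · exact congrArg Subtype.val
      (hx ⟨y, le_normalizer hy⟩ (subgroupOf_normalizer_le_pCore hP (mem_subgroupOf.mpr hy)))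
  · exact congrArg Subtype.val
      (hx ⟨y, centralizer_le_normalizer _ hy.2⟩ (hR (mem_subgroupOf.mpr hy)))

/-- The preimage of the layer of `N / O_{p'}(N)`, `N = N_G(P)`, centralizes `O_p(G)`. -/
theorem pLayer_normalizer_le_centralizer {P : Subgroup G} (hP : IsPGroup p ↥P) :
    (pLayer p ↥(normalizer (P : Set G))).map (normalizer (P : Set G)).subtype ≤
      centralizer (pCore p G : Set G) := by
  refine perfect_le_centralizer_pCore hP ?_ ?_ ?_
  · rw [← map_commutator, pLayer_commutator_self]
  · exact ((map_mono pLayer_le_centralizer_pCore).trans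
      (map_centralizer_pCore_normalizer_le hP)).trans inf_le_left
  · exact ((map_mono pLayer_le_centralizer_pCore).trans
      (map_centralizer_pCore_normalizer_le hP)).trans inf_le_right

theorem pPrimeCore_normalizer_le_centralizer {P : Subgroup G} (hP : IsPGroup p ↥P) :
    (pPrimeCore p ↥(normalizer (P : Set G))).map (normalizer (P : Set G)).subtype ≤
      centralizer (pCore p G : Set G) := by
  intro x hx
  have h := (map_mono pPrimeCore_le_centralizer_pCore).trans
    (map_centralizer_pCore_normalizer_le hP) hx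
  refine mem_centralizer_pCore_of_PxQ hP ?_ h.1 h.2
  obtain ⟨y, hy, rfl⟩ := hx
  rw [Subgroup.coe_subtype, Subgroup.orderOf_coe]
  exact Nat.Coprime.coprime_dvd_left (Subgroup.orderOf_dvd_natCard _ hy) (pPrimeCore_coprime p)

theorem layer_normalizer_le_centralizer {P : Subgroup G} (hP : IsPGroup p ↥P) :
    (layer ↥(normalizer (P : Set G))).map (normalizer (P : Set G)).subtype ≤
      centralizer (pCore p G : Set G) := by
  refine perfect_le_centralizer_pCore hP ?_ ?_ ?_
  · rw [← map_commutator, layer_commutator_self]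
  · exact ((map_mono layer_le_centralizer_pCore).trans
      (map_centralizer_pCore_normalizer_le hP)).trans inf_le_left
  · exact ((map_mono layer_le_centralizer_pCore).trans
      (map_centralizer_pCore_normalizer_le hP)).trans inf_le_right

theorem preimage_layer_normalizer_le_centralizer {P : Subgroup G} (hP : IsPGroup p ↥P) :
    ((layer (↥(normalizer (P : Set G)) ⧸ pPrimeCore p ↥(normalizer (P : Set G)))).comap
      (QuotientGroup.mk' (pPrimeCore p ↥(normalizer (P : Set G))))).map
        (normalizer (P : Set G)).subtype ≤ centralizer (pCore p G : Set G) := by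
  rw [comap_layer_quotient, Subgroup.map_sup]
  exact sup_le (pLayer_normalizer_le_centralizer hP) (pPrimeCore_normalizer_le_centralizer hP)

omit hp in
/-- A component of `H` contained in a subnormal subgroup `C ≤ H` of `G` is a component of `G`. -/
theorem isComponent_of_le_subnormal {C H : Subgroup G} (hC : C.IsSubnormal) (hCH : C ≤ H)
    {K : Subgroup ↥H} (hK : IsComponent K) (hKC : K.map H.subtype ≤ C) :
    IsComponent (K.map H.subtype) := by
  refine ⟨?_, IsQuasisimple.of_mulEquiv (K.equivMapOfInjective H.subtype H.subtype_injective) hK.2⟩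
  refine Subgroup.IsSubnormal.trans hKC ?_ hC
  have h1 := hK.1.comap (Subgroup.inclusion hCH)
  have e : (K.map H.subtype).subgroupOf C = K.comap (Subgroup.inclusion hCH) := by
    ext x
    constructor
    · rintro ⟨y, hy, hyx⟩
      have : y = Subgroup.inclusion hCH x := Subtype.ext hyx
      rw [this] at hy; exact hy
    · intro hx
      exact ⟨Subgroup.inclusion hCH x, hx, rfl⟩
  rw [e]
  exact h1

/-- For `P ≤ O_p(G)`, the layer of `N_G(P)` is the layer of `G`. -/
theorem map_layer_normalizer_eq {P : Subgroup G} (hP : P ≤ pCore p G) :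
    (layer ↥(normalizer (P : Set G))).map (normalizer (P : Set G)).subtype = layer G := by
  set N := normalizer (P : Set G)
  have hPp : IsPGroup p ↥P := (pCore_isPGroup p).to_le hP
  have hCN : centralizer (pCore p G : Set G) ≤ N :=
    (centralizer_le hP).trans (centralizer_le_normalizer _)
  refine le_antisymm ?_ (layer_le_iff.mpr fun K hK => ?_)
  · rw [map_le_iff_le_comap, layer_le_iff]
    intro K hK
    rw [← map_le_iff_le_comap]
    refine IsComponent.le_layer (isComponent_of_le_subnormal
      (Subgroup.Normal.isSubnormal inferInstance) hCN hK ?_)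
    exact (map_mono (IsComponent.le_layer hK)).trans (layer_normalizer_le_centralizer hPp)
  · have hKN : K ≤ N := ((IsComponent.le_layer hK).trans layer_le_centralizer_pCore).trans hCN
    rw [← map_subgroupOf_eq_of_le hKN]
    exact map_mono (IsComponent.le_layer (IsComponent.subgroupOf hK hKN))

/-- If `F*(G) = O_p(G)` the same holds for normalizers of `p`-subgroups. -/
theorem genFitting_normalizer_eq_pCore (h : generalizedFittingSubgroup G = pCore p G)
    {P : Subgroup G} (hP : IsPGroup p ↥P) :
    pPrimeCore p ↥(normalizer (P : Set G)) = ⊥ ∧ layer ↥(normalizer (P : Set G)) = ⊥ ∧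
      generalizedFittingSubgroup ↥(normalizer (P : Set G)) =
        pCore p ↥(normalizer (P : Set G)) := by
  set N := normalizer (P : Set G)
  have hC : centralizer (pCore p G : Set G) ≤ pCore p G := by
    have := centralizer_genFitting_le (G := G)
    rwa [h] at this
  have hW : pPrimeCore p ↥N = ⊥ := by
    rw [← map_eq_bot_iff_of_injective _ N.subtype_injective]
    refine eq_bot_of_isPGroup_of_coprime
      ((pCore_isPGroup p).to_le ((pPrimeCore_normalizer_le_centralizer hP).trans hC)) ?_
    rw [Subgroup.card_map_of_injective N.subtype_injective]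
    exact pPrimeCore_coprime p
  have hE : layer ↥N = ⊥ := by
    rw [← map_eq_bot_iff_of_injective _ N.subtype_injective]
    refine eq_bot_of_perfect_solvable (by rw [← map_commutator, layer_commutator_self]) ?_
    have := ((pCore_isPGroup (G := G) p).to_le
      ((layer_normalizer_le_centralizer hP).trans hC)).isNilpotent
    exact IsNilpotent.to_isSolvable
  exact ⟨hW, hE, by
    rw [generalizedFittingSubgroup, hE, bot_sup_eq, fittingSubgroup_eq_pCore p hW]⟩

theorem pPrimeCore_eq_bot_of_genFitting (h : generalizedFittingSubgroup G = pCore p G) :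
    pPrimeCore p G = ⊥ := by
  refine eq_bot_of_isPGroup_of_coprime ((pCore_isPGroup p).to_le ?_) (pPrimeCore_coprime p)
  have := centralizer_genFitting_le (G := G)
  rw [h] at this
  exact pPrimeCore_le_centralizer_pCore.trans this

theorem layer_eq_bot_of_genFitting (h : generalizedFittingSubgroup G = pCore p G) :
    layer G = ⊥ := by
  refine eq_bot_of_perfect_solvable (layer_commutator_self G) ?_
  have := ((pCore_isPGroup (G := G) p).to_le (h ▸ layer_le_genFitting)).isNilpotent
  exact IsNilpotent.to_isSolvable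

theorem genFitting_eq_pCore_of (hW : pPrimeCore p G = ⊥) (hE : layer G = ⊥) :
    generalizedFittingSubgroup G = pCore p G := by
  rw [generalizedFittingSubgroup, hE, bot_sup_eq, fittingSubgroup_eq_pCore p hW]

/-- The local subgroups of a group with trivial `p`-layer. -/
theorem pLayer_normalizer_eq_bot (hL : pLayer p G = ⊥) {P : Subgroup G} (hP : IsPGroup p ↥P) :
    pLayer p ↥(normalizer (P : Set G)) = ⊥ ∧
      (pPrimeCore p ↥(normalizer (P : Set G))).map (normalizer (P : Set G)).subtype ≤
        pPrimeCore p G := by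
  set W := pPrimeCore p G with hW
  set q := QuotientGroup.mk' W with hq
  set N := normalizer (P : Set G) with hN
  have hQ : generalizedFittingSubgroup (G ⧸ W) = pCore p (G ⧸ W) :=
    genFitting_eq_pCore_of (pPrimeCore_quotient_eq_bot p) ((pLayer_eq_bot_iff p).mp hL)
  obtain ⟨hW', hE', -⟩ := genFitting_normalizer_eq_pCore hQ (hP.map q)
  have hmap : N.map q = normalizer ((P.map q : Subgroup (G ⧸ W)) : Set (G ⧸ W)) :=
    map_normalizer_quotient W (pPrimeCore_coprime p) hP
  -- the surjection `N → N_Q(P̄)`
  let f : ↥N →* ↥(normalizer ((P.map q : Subgroup (G ⧸ W)) : Set (G ⧸ W))) :=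
    (q.comp N.subtype).codRestrict _ fun x => hmap ▸ Subgroup.mem_map_of_mem q x.2
  have hf : Function.Surjective f := by
    rintro ⟨y, hy⟩
    rw [← hmap] at hy
    obtain ⟨x, hx, rfl⟩ := hy
    exact ⟨⟨x, hx⟩, rfl⟩
  have hker : f.ker = pPrimeCore p ↥N := by
    refine le_antisymm (le_pPrimeCore inferInstance ?_) ?_
    · refine Nat.Coprime.coprime_dvd_left ?_ (pPrimeCore_coprime (G := G) p)
      rw [← hW]
      have : f.ker ≤ W.subgroupOf N := fun x hx =>
        (QuotientGroup.eq_one_iff (x : G)).mp (congrArg Subtype.val hx)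
      exact (Subgroup.card_dvd_of_le this).trans
        (card_comap_dvd_of_injective _ _ N.subtype_injective)
    · rw [← Subgroup.map_eq_bot_iff, eq_bot_iff]
      refine le_trans ?_ hW'.le
      refine le_pPrimeCore ((inferInstance : (pPrimeCore p ↥N).Normal).map f hf) ?_
      exact Nat.Coprime.coprime_dvd_left (Subgroup.card_map_dvd _ _) (pPrimeCore_coprime p)
  refine ⟨(pLayer_eq_bot_iff p).mpr ?_, ?_⟩
  · let e : ↥N ⧸ pPrimeCore p ↥N ≃* _ :=
      (QuotientGroup.quotientMulEquivOfEq hker.symm).trans
        (QuotientGroup.quotientKerEquivOfSurjective f hf)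
    apply map_injective (f := e.toMonoidHom) e.injective
    rw [map_layer_mulEquiv, hE', Subgroup.map_bot]
  · rintro _ ⟨x, hx, rfl⟩
    rw [← hker] at hx
    exact (QuotientGroup.eq_one_iff _).mp (congrArg Subtype.val hx)

/-- In a group with trivial `p`-layer, cores of centralizers of `p`-subgroups lie in the core. -/
theorem pPrimeCore_centralizer_le (hL : pLayer p G = ⊥) {P : Subgroup G} (hP : IsPGroup p ↥P) :
    (pPrimeCore p ↥(centralizer (P : Set G))).map (centralizer (P : Set G)).subtype ≤
      pPrimeCore p G := by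
  refine le_trans (map_pPrimeCore_le_of_normal (centralizer_le_normalizer _) ?_)
    (pLayer_normalizer_eq_bot hL hP).2
  exact normal_subgroupOf_of_le_normalizer (fun x hx => by
    rw [Subgroup.mem_normalizer_iff]
    intro y
    simp only [mem_centralizer_iff]
    constructor
    · intro h z hz
      have := h (x⁻¹ * z * x) ((Subgroup.mem_normalizer_iff''.mp hx z).mp hz)
      calc z * (x * y * x⁻¹) = x * ((x⁻¹ * z * x) * y) * x⁻¹ := by group
        _ = x * (y * (x⁻¹ * z * x)) * x⁻¹ := by rw [this]
        _ = x * y * x⁻¹ * z := by group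
    · intro h z hz
      have := h (x * z * x⁻¹) ((Subgroup.mem_normalizer_iff.mp hx z).mp hz)
      calc z * y = x⁻¹ * ((x * z * x⁻¹) * (x * y * x⁻¹)) * x := by group
        _ = x⁻¹ * ((x * y * x⁻¹) * (x * z * x⁻¹)) * x := by rw [this]
        _ = y * z := by group)

end Normalizer

end Cfsg.Agent.Lib.Components
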