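import Cfsg.Agent.Lib.Components.Basic
import Cfsg.Agent.Lib.Components.Fitting
/-!
# The generalized Fitting subgroup
-/

set_option autoImplicit false

namespace Cfsg.Agent.Lib.Components

open Subgroup
open scoped commutatorElement

variable {G : Type*} [Group G]

theorem layer_le_genFitting : layer G ≤ generalizedFittingSubgroup G := le_sup_left

theorem fitting_le_genFitting : fittingSubgroup G ≤ generalizedFittingSubgroup G := le_sup_right

theorem map_fittingSubgroup_mulEquiv {G' : Type*} [Group G'] (e : G ≃* G') :
    (fittingSubgroup G).map e.toMonoidHom = fittingSubgroup G' :=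
  le_antisymm (map_fittingSubgroup_le e) fun x hx =>
    ⟨e.symm x, map_fittingSubgroup_le e.symm ⟨x, hx, rfl⟩, e.apply_symm_apply x⟩

theorem map_genFitting_mulEquiv {G' : Type*} [Group G'] (e : G ≃* G') :
    (generalizedFittingSubgroup G).map e.toMonoidHom = generalizedFittingSubgroup G' := by
  rw [generalizedFittingSubgroup, Subgroup.map_sup, map_layer_mulEquiv,
    map_fittingSubgroup_mulEquiv, generalizedFittingSubgroup]

instance genFitting_characteristic : (generalizedFittingSubgroup G).Characteristic :=
  characteristic_iff_map_eq.mpr fun ϕ => map_genFitting_mulEquiv ϕ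

instance genFitting_normal : (generalizedFittingSubgroup G).Normal := normal_of_characteristic _

theorem commutator_layer_fittingSubgroup [Finite G] : ⁅layer G, fittingSubgroup G⁆ = ⊥ :=
  commutator_layer_eq_bot_of_solvable fittingSubgroup_isSolvable

theorem layer_le_centralizer_fittingSubgroup [Finite G] :
    layer G ≤ centralizer (fittingSubgroup G : Set G) :=
  le_centralizer_of_commutator_eq_bot commutator_layer_fittingSubgroup

theorem IsComponent.le_centralizer_fittingSubgroup [Finite G] {K : Subgroup G}
    (h : IsComponent K) : K ≤ centralizer (fittingSubgroup G : Set G) :=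
  (IsComponent.le_layer h).trans layer_le_centralizer_fittingSubgroup

theorem isNilpotent_of_le {A B : Subgroup G} (h : A ≤ B) (hB : Group.IsNilpotent ↥B) :
    Group.IsNilpotent ↥A :=
  have := hB
  Group.nilpotent_of_mulEquiv (Subgroup.subgroupOfEquivOfLe h)

theorem isSolvable_of_le {A B : Subgroup G} (h : A ≤ B) (hB : Group.IsSolvable ↥B) :
    Group.IsSolvable ↥A :=
  have := hB
  Group.isSolvable_of_isSolvable_injective (Subgroup.inclusion_injective h)

theorem isNilpotent_of_isMulCommutative {A : Subgroup G} (h : IsMulCommutative ↥A) :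
    Group.IsNilpotent ↥A := by
  rw [Subgroup.isNilpotent_iff_lowerCentralSeries]
  refine ⟨1, ?_⟩
  rw [Subgroup.lowerCentralSeries_succ, Subgroup.lowerCentralSeries_zero,
    Subgroup.commutator_self_eq_bot_iff]
  exact h

theorem isMulCommutative_inf_centralizer (H : Subgroup G) :
    IsMulCommutative ↥(H ⊓ centralizer (H : Set G)) :=
  ⟨⟨fun a b => Subtype.ext
    ((mem_centralizer_iff.mp b.2.2) a a.2.1)⟩⟩

/-- `F(X) ∩ E(X)` is the centre of the layer. -/
theorem fitting_inf_layer [Finite G] :
    fittingSubgroup G ⊓ layer G = (center ↥(layer G)).map (layer G).subtype := by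
  rw [map_center_eq_inf]
  refine le_antisymm (le_inf inf_le_right fun x hx => ?_) (le_inf ?_ inf_le_left)
  · rw [mem_centralizer_iff]
    exact fun y hy => commute_of_commutator_eq_bot commutator_layer_fittingSubgroup hy hx.1
  · have : (layer G ⊓ centralizer (layer G : Set G)).Normal := inferInstance
    exact le_fittingSubgroup this
      (isNilpotent_of_isMulCommutative (isMulCommutative_inf_centralizer _))

/-- `Z(X) ≤ F(X)`. -/
theorem center_le_fittingSubgroup : center G ≤ fittingSubgroup G :=
  le_fittingSubgroup inferInstance (isNilpotent_of_isMulCommutative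
    ⟨⟨fun a b => Subtype.ext (mem_center_iff.mp b.2 (a : G))⟩⟩)

/-- The derived series terms of a normal subgroup, mapped into `G`, are normal. -/
theorem normal_map_derivedSeries {N : Subgroup G} [N.Normal] (n : ℕ) :
    ((derivedSeries ↥N n).map N.subtype).Normal := inferInstance

/-- A normal solvable subgroup of a group `K`, all of whose nilpotent normal subgroups are central,
is central. -/
theorem solvable_normal_le_center {K : Type*} [Group K]
    (hnil : ∀ M : Subgroup K, M.Normal → Group.IsNilpotent ↥M → M ≤ center K)
    {N : Subgroup K} [N.Normal] (hs : Group.IsSolvable ↥N) : N ≤ center K := by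
  obtain ⟨n, hn⟩ := hs
  suffices key : ∀ d i, i + d = n → (derivedSeries ↥N i).map N.subtype ≤ center K by
    have := key n 0 (Nat.zero_add n)
    rwa [derivedSeries_zero, ← MonoidHom.range_eq_map, range_subtype] at this
  intro d
  induction d with
  | zero =>
    intro i hi
    obtain rfl : i = n := by omega
    rw [hn, Subgroup.map_bot]; exact bot_le
  | succ d ih =>
    intro i hi
    have h1 := ih (i + 1) (by omega)
    apply hnil _ inferInstance
    set M := (derivedSeries ↥N i).map N.subtype
    rw [derivedSeries_succ, Subgroup.map_commutator] at h1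
    rw [Subgroup.isNilpotent_iff_lowerCentralSeries]
    refine ⟨2, ?_⟩
    rw [Subgroup.lowerCentralSeries_succ, Subgroup.lowerCentralSeries_succ,
      Subgroup.lowerCentralSeries_zero, eq_bot_iff]
    exact (commutator_mono h1 le_rfl).trans (commutator_center_left M).le

/-- A solvable subnormal subgroup `N` normal in `C ≤ C_G(F(G))` is central in `C`. -/
theorem solvable_le_centralizer_of_subnormal [Finite G] {C N : Subgroup G} (hC : C.IsSubnormal)
    (hCF : C ≤ centralizer (fittingSubgroup G : Set G)) (hNC : N ≤ C)
    (hn : (N.subgroupOf C).Normal) (hs : Group.IsSolvable ↥N) : N ≤ centralizer (C : Set G) := by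
  have key : N.subgroupOf C ≤ center ↥C := by
    refine solvable_normal_le_center (fun M hM hMnil => ?_)
      (Group.isSolvable_of_isSolvable_injective
        (f := (Subgroup.subgroupOfEquivOfLe hNC).toMonoidHom) (MulEquiv.injective _))
    intro m hm
    have h1 := le_fittingSubgroup_of_subnormal (hM.isSubnormal.trans' hC)
      (Group.nilpotent_of_mulEquiv (M.equivMapOfInjective _ C.subtype_injective)) ⟨m, hm, rfl⟩
    exact mem_center_iff.mpr fun y =>
      Subtype.ext ((mem_centralizer_iff.mp (hCF y.2)) _ h1).symm
  intro x hx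
  rw [mem_centralizer_iff]
  intro y hy
  exact congrArg Subtype.val (mem_center_iff.mp (key (x := (⟨x, hNC hx⟩ : ↥C)) hx) ⟨y, hy⟩)

/-- A nontrivial perfect subnormal subgroup centralizing the Fitting subgroup contains a
component. -/
theorem exists_component_le [Finite G] {P : Subgroup G} (hP : P.IsSubnormal) (hperf : ⁅P, P⁆ = P)
    (hne : P ≠ ⊥) (hPF : P ≤ centralizer (fittingSubgroup G : Set G)) :
    ∃ K, IsComponent K ∧ K ≤ P := by
  obtain ⟨K, hKP, hKmin⟩ := ((Set.toFinite {K : Subgroup G | K.IsSubnormal ∧ ⁅K, K⁆ = K ∧ K ≠ ⊥}))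
    |>.exists_le_minimal ⟨hP, hperf, hne⟩
  obtain ⟨hKs, hKperf, hKne⟩ := hKmin.1
  refine ⟨K, ⟨hKs, ?_⟩, hKP⟩
  have : Group.IsPerfect ↥K := Subgroup.isPerfect_iff.mpr hKperf
  have : Nontrivial ↥K := (Subgroup.nontrivial_iff_ne_bot K).mpr hKne
  refine isQuasisimple_of_normal_le_center fun N hN hNne => ?_
  have hNsol : Group.IsSolvable ↥N := by
    -- the last term of the derived series of `N` is perfect, hence trivial
    by_contra hns
    have hstab : ∃ n, derivedSeries ↥N (n + 1) = derivedSeries ↥N n := by
      by_contra hno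
      simp only [not_exists] at hno
      exact not_injective_infinite_finite (derivedSeries ↥N)
        (StrictAnti.injective (strictAnti_nat_of_succ_lt fun n =>
          lt_of_le_of_ne ((derivedSeries_antitone _) (Nat.le_succ n)) (hno n)))
    obtain ⟨n, hn⟩ := hstab
    have hne' : derivedSeries ↥N n ≠ ⊥ := fun h => hns ⟨⟨n, h⟩⟩
    set R := ((derivedSeries ↥N n).map N.subtype).map K.subtype with hR
    have hRs : R.IsSubnormal := by
      have : ((derivedSeries ↥N n).map N.subtype).Normal := inferInstance
      exact this.isSubnormal.trans' hKs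
    have hRp : ⁅R, R⁆ = R := by
      rw [hR, ← map_commutator, ← map_commutator, ← derivedSeries_succ, hn]
    have hRne : R ≠ ⊥ := by
      rw [hR, Ne, map_eq_bot_iff_of_injective _ K.subtype_injective,
        map_eq_bot_iff_of_injective _ N.subtype_injective]
      exact hne'
    have hRK : R = K := hKmin.eq_of_le ⟨hRs, hRp, hRne⟩ (map_subtype_le _)
    apply hNne
    rw [eq_top_iff]
    intro x _
    have hx : (x : G) ∈ R := hRK.symm ▸ x.2
    obtain ⟨y, hy, hyx⟩ := hx
    rw [Subtype.coe_injective hyx] at hy
    exact map_subtype_le _ hy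
  refine solvable_normal_le_center (fun M hM hMnil => ?_) hNsol
  intro m hm
  have h1 := le_fittingSubgroup_of_subnormal (hM.isSubnormal.trans' hKs)
    (Group.nilpotent_of_mulEquiv (M.equivMapOfInjective _ K.subtype_injective)) ⟨m, hm, rfl⟩
  exact mem_center_iff.mpr fun y =>
    Subtype.ext ((mem_centralizer_iff.mp (hPF (hKP y.2))) _ h1).symm

/-- `C_G(F*(G)) ≤ F*(G)`. -/
theorem centralizer_genFitting_le [Finite G] :
    centralizer (generalizedFittingSubgroup G : Set G) ≤ generalizedFittingSubgroup G := by
  set C := centralizer (generalizedFittingSubgroup G : Set G) with hCdef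
  by_contra hnot
  set Z := C ⊓ generalizedFittingSubgroup G
  have hCn : C.Normal := inferInstance
  have hZn : Z.Normal := inferInstance
  have hCF : C ≤ centralizer (fittingSubgroup G : Set G) :=
    centralizer_le (fitting_le_genFitting (G := G))
  -- `C` is solvable modulo nothing: its derived series reaches a perfect group
  have hsol : Group.IsSolvable ↥C := by
    by_contra hns
    have hstab : ∃ n, derivedSeries ↥C (n + 1) = derivedSeries ↥C n := by
      by_contra hno
      simp only [not_exists] at hno
      exact not_injective_infinite_finite (derivedSeries ↥C)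
        (StrictAnti.injective (strictAnti_nat_of_succ_lt fun n =>
          lt_of_le_of_ne ((derivedSeries_antitone _) (Nat.le_succ n)) (hno n)))
    obtain ⟨n, hn⟩ := hstab
    have hne' : derivedSeries ↥C n ≠ ⊥ := fun h => hns ⟨⟨n, h⟩⟩
    set R := (derivedSeries ↥C n).map C.subtype with hR
    have hRn : R.Normal := inferInstance
    have hRp : ⁅R, R⁆ = R := by rw [hR, ← map_commutator, ← derivedSeries_succ, hn]
    have hRne : R ≠ ⊥ := by
      rwa [hR, Ne, map_eq_bot_iff_of_injective _ C.subtype_injective]
    obtain ⟨K, hK, hKR⟩ := exists_component_le hRn.isSubnormal hRp hRne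
      ((map_subtype_le _).trans hCF)
    apply IsComponent.not_isMulCommutative hK
    refine ⟨⟨fun a b => Subtype.ext ?_⟩⟩
    exact (mem_centralizer_iff.mp (map_subtype_le _ (hKR b.2))) a
      (layer_le_genFitting (IsComponent.le_layer hK a.2))
  have hab := solvable_le_centralizer_of_subnormal hCn.isSubnormal hCF le_rfl
    (by rw [subgroupOf_self]; infer_instance) hsol
  exact hnot ((le_fittingSubgroup hCn (isNilpotent_of_isMulCommutative
    ⟨⟨fun a b => Subtype.ext ((mem_centralizer_iff.mp (hab b.2)) a a.2)⟩⟩)).trans
      fitting_le_genFitting)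

/-- `C_G(F*(G)) = Z(F*(G))` lies in the Fitting subgroup. -/
theorem centralizer_genFitting_le_fittingSubgroup [Finite G] :
    centralizer (generalizedFittingSubgroup G : Set G) ≤ fittingSubgroup G := by
  refine le_fittingSubgroup inferInstance (isNilpotent_of_isMulCommutative ⟨⟨fun a b => ?_⟩⟩)
  exact Subtype.ext ((mem_centralizer_iff.mp b.2) a (centralizer_genFitting_le a.2))

/-- A solvable normal subgroup of `C_G(F(G))` lies in `Z(F(G))`. -/
theorem solvable_le_center_fitting [Finite G] {N : Subgroup G}
    (hN : N ≤ centralizer (fittingSubgroup G : Set G))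
    (hnorm : centralizer (fittingSubgroup G : Set G) ≤ normalizer (N : Set G))
    (hsolv : Group.IsSolvable ↥N) :
    N ≤ (center ↥(fittingSubgroup G)).map (fittingSubgroup G).subtype := by
  have hCn : (centralizer (fittingSubgroup G : Set G)).Normal := inferInstance
  have h := solvable_le_centralizer_of_subnormal hCn.isSubnormal le_rfl hN
    (normal_subgroupOf_of_le_normalizer hnorm) hsolv
  rw [map_center_eq_inf]
  refine le_inf ?_ hN
  refine le_trans ?_ (centralizer_genFitting_le_fittingSubgroup (G := G))
  rw [← commutator_eq_bot_iff_le_centralizer]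
  refine commutator_sup_eq_bot ?_ (commutator_eq_bot_iff_le_centralizer.mpr hN)
  rw [commutator_eq_bot_iff_le_centralizer]
  exact h.trans (centralizer_le (layer_le_centralizer_fittingSubgroup (G := G)))

/-- `C(F(X)) ≤ F(X)` iff there is no component. -/
theorem centralizer_fitting_le_iff [Finite G] :
    centralizer (fittingSubgroup G : Set G) ≤ fittingSubgroup G ↔ layer G = ⊥ := by
  constructor
  · intro h
    exact eq_bot_of_perfect_solvable (layer_commutator_self G)
      (isSolvable_of_le (layer_le_centralizer_fittingSubgroup.trans h) fittingSubgroup_isSolvable)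
  · intro h
    have e : generalizedFittingSubgroup G = fittingSubgroup G := by
      rw [generalizedFittingSubgroup, h, bot_sup_eq]
    have := centralizer_genFitting_le (G := G)
    rwa [e] at this

/-- `F(X) ≤ Y` normal with `C(Y) ≤ Y` implies `F*(X) ≤ Y`. -/
theorem genFitting_le_of_centralizer_le [Finite G] {Y : Subgroup G} [hY : Y.Normal]
    (hF : fittingSubgroup G ≤ Y) (hC : centralizer (Y : Set G) ≤ Y) :
    generalizedFittingSubgroup G ≤ Y := by
  refine sup_le (layer_le_iff.mpr fun K hK => ?_) hF
  rcases IsComponent.le_or_commutator_eq_bot hK hY.isSubnormal with h | h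
  · exact h
  · exact (le_centralizer_of_commutator_eq_bot h).trans hC

/-! ## Subnormal subgroups -/

/-- `F(B) = F(G) ∩ B` for subnormal `B`. -/
theorem map_fittingSubgroup_subtype [Finite G] {B : Subgroup G} (hB : B.IsSubnormal) :
    (fittingSubgroup ↥B).map B.subtype = fittingSubgroup G ⊓ B := by
  refine le_antisymm (le_inf ?_ (map_subtype_le _)) ?_
  · have hn : (fittingSubgroup ↥B).Normal := inferInstance
    refine le_fittingSubgroup_of_subnormal (hn.isSubnormal.trans' hB) ?_
    have := fittingSubgroup_isNilpotent (G := ↥B)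
    exact Group.nilpotent_of_mulEquiv
      ((fittingSubgroup ↥B).equivMapOfInjective _ B.subtype_injective)
  · intro x hx
    refine ⟨⟨x, hx.2⟩, ?_, rfl⟩
    refine le_fittingSubgroup (N := (fittingSubgroup G ⊓ B).subgroupOf B) ?_ ?_ hx
    · rw [inf_subgroupOf_right]; infer_instance
    · have := isNilpotent_of_le (A := fittingSubgroup G ⊓ B) inf_le_left fittingSubgroup_isNilpotent
      exact Group.nilpotent_of_mulEquiv (Subgroup.subgroupOfEquivOfLe inf_le_right).symm

/-- `F*(B) = F*(G) ∩ B` for subnormal `B`. -/
theorem map_genFitting_subtype [Finite G] {B : Subgroup G} (hB : B.IsSubnormal) :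
    (generalizedFittingSubgroup ↥B).map B.subtype = generalizedFittingSubgroup G ⊓ B := by
  rw [generalizedFittingSubgroup, Subgroup.map_sup, map_fittingSubgroup_subtype hB,
    map_layer_subtype hB]
  refine le_antisymm (le_inf (sup_le_sup (sSup_le fun K hK => IsComponent.le_layer hK.1) inf_le_left)
    (sup_le (sSup_le fun K hK => hK.2) inf_le_right)) ?_
  set E₁ := sSup {K | IsComponent K ∧ K ≤ B}
  set E₂ := sSup {K | IsComponent K ∧ ¬ K ≤ B}
  have h1B : E₁ ≤ B := sSup_le fun K hK => hK.2
  have h1E : E₁ ≤ layer G := sSup_le fun K hK => IsComponent.le_layer hK.1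
  have h2E : E₂ ≤ layer G := sSup_le fun K hK => IsComponent.le_layer hK.1
  have h21 : ⁅E₂, E₁⁆ = ⊥ := commutator_sSup_eq_bot fun K hK => by
    rw [commutator_comm]
    exact commutator_sSup_eq_bot fun L hL => IsComponent.commutator_eq_bot_of_ne hK.1 hL.1
      (by rintro rfl; exact hL.2 hK.2)
  have h2B : ⁅B, E₂⁆ = ⊥ := commutator_sSup_eq_bot fun K hK => by
    rw [commutator_comm]
    exact (IsComponent.le_or_commutator_eq_bot hK.1 hB).resolve_left hK.2
  have hn : E₂ ≤ normalizer (E₁ : Set G) :=
    (le_centralizer_of_commutator_eq_bot h21).trans (centralizer_le_normalizer _)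
  have hlay : layer G ≤ E₁ ⊔ E₂ := by
    rw [layer_le_iff]
    intro K hK
    by_cases h : K ≤ B
    · exact le_sup_of_le_left (le_sSup ⟨hK, h⟩)
    · exact le_sup_of_le_right (le_sSup ⟨hK, h⟩)
  rintro x ⟨hxF, hxB⟩
  have hxF' : x ∈ layer G ⊔ fittingSubgroup G := hxF
  rw [mem_sup_of_normal_left] at hxF'
  obtain ⟨e, he, f, hf, rfl⟩ := hxF'
  have he' : e ∈ ((E₁ ⊔ E₂ : Subgroup G) : Set G) := hlay he
  rw [coe_mul_of_right_le_normalizer_left E₁ E₂ hn] at he'
  obtain ⟨a, ha, c, hc, rfl⟩ := he'
  rw [mul_assoc] at hxB
  have hcf : c * f ∈ B := (B.mul_mem_cancel_left (h1B ha)).mp hxB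
  -- `c` is central in the layer
  have hcen : c ∈ centralizer (layer G : Set G) := by
    have hle : layer G ≤ centralizer {c} := by
      refine hlay.trans (sup_le (fun y hy => ?_) (fun y hy => ?_))
      · exact mem_centralizer_singleton_iff.mpr (commute_of_commutator_eq_bot h21 hc hy).symm
      · rw [mem_centralizer_singleton_iff]
        have e1 : c * f * y = y * (c * f) := commute_of_commutator_eq_bot h2B hcf hy
        have e2 : y * f = f * y :=
          commute_of_commutator_eq_bot commutator_layer_fittingSubgroup (h2E hy) hf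
        calc y * c = y * (c * f) * f⁻¹ := by group
          _ = c * f * y * f⁻¹ := by rw [e1]
          _ = c * (y * f) * f⁻¹ := by rw [e2]; group
          _ = c * y := by group
    rw [mem_centralizer_iff]
    exact fun y hy => mem_centralizer_singleton_iff.mp (hle hy)
  have hcF : c ∈ fittingSubgroup G := by
    have hmem : c ∈ (center ↥(layer G)).map (layer G).subtype := by
      rw [map_center_eq_inf]; exact ⟨h2E hc, hcen⟩
    rw [← fitting_inf_layer] at hmem
    exact hmem.1
  change a * c * f ∈ _
  rw [mul_assoc]
  exact mul_mem_sup ha ⟨(fittingSubgroup G).mul_mem hcF hf, hcf⟩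

theorem genFitting_self_eq_top [Finite G] {S : Subgroup G} (hS : S.IsSubnormal)
    (hle : S ≤ generalizedFittingSubgroup G) : generalizedFittingSubgroup ↥S = ⊤ := by
  apply map_injective S.subtype_injective
  rw [map_genFitting_subtype hS, inf_eq_right.mpr hle, ← MonoidHom.range_eq_map, range_subtype]

/-- If `F*(G) = F(G)`, i.e. no components, then the same holds for subnormal subgroups. -/
theorem layer_eq_bot_of_subnormal {B : Subgroup G} (hB : B.IsSubnormal) (h : layer G = ⊥) :
    layer ↥B = ⊥ := by
  rw [← map_eq_bot_iff_of_injective _ B.subtype_injective, eq_bot_iff, ← h]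
  exact map_layer_subtype_le hB

end Cfsg.Agent.Lib.Components
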