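import Cfsg.Agent.Lib.Components.Local
/-!
# The action of `O_{p'}(C(x))` on the components
-/

set_option autoImplicit false

namespace Cfsg.Agent.Lib.Components

open Subgroup
open scoped commutatorElement

variable {G : Type*} [Group G] {p : ℕ}

theorem orderOf_conj (g x : G) : orderOf (g * x * g⁻¹) = orderOf x :=
  MulEquiv.orderOf_eq (MulAut.conj g) x

theorem mem_centralizerPPrimeCore_iff {x y : G} :
    y ∈ centralizerPPrimeCore p x ↔ ∃ h : y ∈ centralizer ({x} : Set G),
      (⟨y, h⟩ : ↥(centralizer ({x} : Set G))) ∈ pPrimeCore p ↥(centralizer ({x} : Set G)) := by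
  constructor
  · rintro ⟨z, hz, rfl⟩; exact ⟨z.2, hz⟩
  · rintro ⟨h, hz⟩; exact ⟨⟨y, h⟩, hz, rfl⟩

theorem centralizerPPrimeCore_le_centralizer (x : G) :
    centralizerPPrimeCore p x ≤ centralizer ({x} : Set G) := map_subtype_le _

theorem coprime_card_centralizerPPrimeCore [Finite G] (x : G) :
    (Nat.card ↥(centralizerPPrimeCore p x)).Coprime p := by
  rw [centralizerPPrimeCore, Subgroup.card_map_of_injective (subtype_injective _)]
  exact pPrimeCore_coprime p

theorem centralizer_le_normalizer_centralizerPPrimeCore (x : G) :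
    centralizer ({x} : Set G) ≤ normalizer (centralizerPPrimeCore p x : Set G) := by
  intro c hc n
  have key : ∀ c ∈ centralizer ({x} : Set G), ∀ n ∈ centralizerPPrimeCore p x,
      c * n * c⁻¹ ∈ centralizerPPrimeCore p x := by
    rintro c hc _ ⟨m, hm, rfl⟩
    exact ⟨⟨c, hc⟩ * m * ⟨c, hc⟩⁻¹, (pPrimeCore_normal p _).conj_mem m hm _, rfl⟩
  exact ⟨key c hc n, fun h => by simpa [mul_assoc] using key c⁻¹ (inv_mem hc) _ h⟩

theorem eq_one_of_pow_eq_one_of_coprime {x : G} {n : ℕ} (h : (orderOf x).Coprime p)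
    (hx : x ^ p ^ n = 1) : x = 1 :=
  orderOf_eq_one_iff.mp (Nat.Coprime.eq_one_of_dvd (h.pow_right n) (orderOf_dvd_of_pow_eq_one hx))

theorem mem_of_pow_mem_of_coprime [Finite G] {H : Subgroup G} {x : G} {m : ℕ}
    (h : (orderOf x).Coprime m) (hx : x ^ m ∈ H) : x ∈ H := by
  obtain ⟨i, hi⟩ := exists_pow_eq_self_of_coprime h.symm
  rw [← hi]; exact pow_mem hx i

/-- An element centralising a perfect subgroup modulo its centre centralises it. -/
theorem mem_centralizer_of_perfect {L : Subgroup G} (hperf : ⁅L, L⁆ = L) {u : G}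
    (hu : ∀ l ∈ L, u * l * u⁻¹ * l⁻¹ ∈ (center ↥L).map L.subtype) :
    u ∈ centralizer (L : Set G) := by
  have : Group.IsPerfect ↥L := Subgroup.isPerfect_iff.mpr hperf
  have hm : ∀ l : ↥L, u * (l : G) * u⁻¹ ∈ L := fun l => by
    have h1 := L.mul_mem (map_subtype_le _ (hu l l.2)) l.2
    rwa [inv_mul_cancel_right] at h1
  let α : ↥L →* ↥L :=
    { toFun := fun l => ⟨u * (l : G) * u⁻¹, hm l⟩
      map_one' := Subtype.ext (by simp)
      map_mul' := fun a b => Subtype.ext (by simp [mul_assoc]) }
  rw [mem_centralizer_iff]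
  intro l hl
  have h := congrArg Subtype.val (apply_eq_self_of_perfect_of_central α (fun m => by
    obtain ⟨z, hz, hze⟩ := hu m m.2
    have : α m * m⁻¹ = z := Subtype.ext hze.symm
    rw [this]; exact hz) ⟨l, hl⟩)
  exact (mul_inv_eq_iff_eq_mul.mp (show u * l * u⁻¹ = l from h)).symm

theorem mem_map_center_iff {L : Subgroup G} {z : G} :
    z ∈ (center ↥L).map L.subtype ↔ z ∈ L ∧ ∀ l ∈ L, l * z = z * l := by
  constructor
  · rintro ⟨w, hw, rfl⟩
    exact ⟨w.2, fun l hl => congrArg Subtype.val (mem_center_iff.mp hw ⟨l, hl⟩)⟩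
  · rintro ⟨hz, h⟩
    exact ⟨⟨z, hz⟩, mem_center_iff.mpr fun l => Subtype.ext (h l l.2), rfl⟩

section Fin

variable [Finite G] [hp : Fact p.Prime]

theorem IsComponent.map_center_le_pCore {L : Subgroup G} (hL : IsComponent L)
    (hO : pPrimeCore p G = ⊥) : (center ↥L).map L.subtype ≤ pCore p G := by
  set Z := (center ↥L).map L.subtype with hZ
  have hZs : Z.IsSubnormal := by
    refine Subgroup.IsSubnormal.step _ L (map_subtype_le _) hL.1 ?_
    rw [hZ, Subgroup.subgroupOf, Subgroup.comap_map_eq_self_of_injective L.subtype_injective]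
    infer_instance
  refine le_pCore_of_subnormal hZs ?_
  rintro ⟨z, hz⟩
  obtain ⟨n, m, hm, hzm⟩ := Nat.exists_eq_pow_mul_and_not_dvd (orderOf_pos z).ne' p hp.out.ne_one
  refine ⟨n, Subtype.ext ?_⟩
  show z ^ p ^ n = 1
  have hord : (orderOf (z ^ p ^ n)).Coprime p := by
    rw [orderOf_pow, hzm, Nat.gcd_eq_right (dvd_mul_right _ _),
      Nat.mul_div_cancel_left _ (pow_pos hp.out.pos n)]
    exact (hp.out.coprime_iff_not_dvd.mpr hm).symm
  have hsub : (zpowers (z ^ p ^ n)).IsSubnormal := by
    refine Subgroup.IsSubnormal.step _ Z (zpowers_le.mpr (pow_mem hz _)) hZs ?_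
    refine normal_subgroupOf_of_le_normalizer fun w hw => centralizer_le_normalizer _ ?_
    rw [mem_centralizer_iff]
    intro v hv
    have hvZ : v ∈ Z := zpowers_le.mpr (pow_mem hz _) hv
    exact ((mem_map_center_iff.mp hw).2 v (mem_map_center_iff.mp hvZ).1)
  have := le_pPrimeCore_of_subnormal (p := p) hsub (by rwa [Nat.card_zpowers])
  rw [hO, le_bot_iff, zpowers_eq_bot] at this
  exact this

/-- The `p'`-cores of centralisers of `p`-elements centralise `O_p(G)`. -/
theorem centralizerPPrimeCore_le_centralizer_pCore {x : G} (hx : orderOf x = p) :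
    centralizerPPrimeCore p x ≤ centralizer (pCore p G : Set G) := by
  have hP : IsPGroup p ↥(zpowers x) :=
    IsPGroup.of_card (n := 1) (by rw [Nat.card_zpowers, hx, pow_one])
  intro w hw
  have hwx : w * x = x * w :=
    mem_centralizer_singleton_iff.mp (centralizerPPrimeCore_le_centralizer x hw)
  refine mem_centralizer_pCore_of_PxQ hP ?_ ?_ ?_
  · exact Nat.Coprime.coprime_dvd_left (Subgroup.orderOf_dvd_natCard _ hw)
      (coprime_card_centralizerPPrimeCore x)
  · rw [mem_centralizer_iff]
    rintro _ ⟨i, rfl⟩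
    exact (Commute.zpow_left (hwx.symm : Commute x w) i).eq
  · rw [mem_centralizer_iff]
    intro r hr
    have hrx : r ∈ centralizer ({x} : Set G) :=
      centralizer_le (Set.singleton_subset_iff.mpr (mem_zpowers x)) hr.2
    have h1 : r * w * r⁻¹ * w⁻¹ ∈ centralizerPPrimeCore p x :=
      mul_mem ((centralizer_le_normalizer_centralizerPPrimeCore x hrx w).mp hw) (inv_mem hw)
    have h2 : r * w * r⁻¹ * w⁻¹ ∈ pCore p G := by
      rw [show r * w * r⁻¹ * w⁻¹ = r * (w * r⁻¹ * w⁻¹) by group]
      exact mul_mem hr.1 ((pCore_normal p G).conj_mem _ (inv_mem hr.1) w)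
    have h3 : centralizerPPrimeCore p x ⊓ pCore p G = ⊥ :=
      eq_bot_of_isPGroup_of_coprime ((pCore_isPGroup p).to_le inf_le_right)
        ((coprime_card_centralizerPPrimeCore x).coprime_dvd_left (card_dvd_of_le inf_le_left))
    have h4 : r * w * r⁻¹ * w⁻¹ = 1 := by
      rw [← Subgroup.mem_bot, ← h3]; exact ⟨h1, h2⟩
    exact mul_inv_eq_iff_eq_mul.mp (mul_inv_eq_one.mp h4)

/-- If `x` centralises the component `L`, then so does `O_{p'}(C(x))`. -/
theorem centralizerPPrimeCore_le_centralizer_of_centralizing {L : Subgroup G} (hL : IsComponent L)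
    (hO : pPrimeCore p G = ⊥) {x : G} (hxL : x ∈ centralizer (L : Set G)) :
    centralizerPPrimeCore p x ≤ centralizer (L : Set G) := by
  have hle : L ≤ centralizer ({x} : Set G) := fun l hl =>
    mem_centralizer_singleton_iff.mpr (mem_centralizer_iff.mp hxL l hl)
  rcases IsComponent.le_or_commutator_eq_bot (IsComponent.subgroupOf hL hle)
    (pPrimeCore_normal p ↥(centralizer ({x} : Set G))).isSubnormal with h | h
  · exfalso
    have h1 : L ≤ centralizerPPrimeCore p x := fun l hl => ⟨⟨l, hle hl⟩, h hl, rfl⟩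
    have h2 := Nat.dvd_trans (IsComponent.dvd_card hL p hO) (card_dvd_of_le h1)
    exact hp.out.coprime_iff_not_dvd.mp (coprime_card_centralizerPPrimeCore x).symm h2
  · rw [← commutator_eq_bot_iff_le_centralizer, Subgroup.commutator_comm]
    have := congrArg (Subgroup.map (centralizer ({x} : Set G)).subtype) h
    rwa [map_commutator, Subgroup.map_bot, map_subgroupOf_eq_of_le hle] at this

end Fin

/-! ### The diagonal of a cycle of components -/

/-- `diagFun x n l = l * l^x * ⋯` (`n` factors). -/
def diagFun (x : G) : ℕ → G → G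
  | 0, _ => 1
  | n + 1, l => l * (x * diagFun x n l * x⁻¹)

theorem diagFun_conj (x e : G) (h : e * x = x * e) (n : ℕ) (l : G) :
    e * diagFun x n l * e⁻¹ = diagFun x n (e * l * e⁻¹) := by
  induction n with
  | zero => simp [diagFun]
  | succ n ih =>
    simp only [diagFun]
    rw [← ih]
    calc e * (l * (x * diagFun x n l * x⁻¹)) * e⁻¹
        = (e * l * e⁻¹) * ((e * x) * diagFun x n l * (e * x)⁻¹) := by group
      _ = (e * l * e⁻¹) * ((x * e) * diagFun x n l * (x * e)⁻¹) := by rw [h]
      _ = _ := by group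

theorem diagFun_succ' (x : G) (n : ℕ) (l : G) :
    diagFun x (n + 1) l = diagFun x n l * (x ^ n * l * (x ^ n)⁻¹) := by
  induction n with
  | zero => simp [diagFun]
  | succ n ih =>
    calc diagFun x (n + 1 + 1) l = l * (x * diagFun x (n + 1) l * x⁻¹) := rfl
      _ = l * (x * (diagFun x n l * (x ^ n * l * (x ^ n)⁻¹)) * x⁻¹) := by rw [ih]
      _ = l * (x * diagFun x n l * x⁻¹) * (x ^ (n + 1) * l * (x ^ (n + 1))⁻¹) := by
          rw [pow_succ']; group
      _ = _ := rfl

/-- The subgroup generated by conjugates `L^(x^i)`, `0 < i < n + 1`. -/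
theorem conj_diagFun_mem_centralizer {L : Subgroup G} {x : G} {N : ℕ}
    (hcomm : ∀ i, 0 < i → i < N → ∀ l ∈ L, ∀ m ∈ L,
      m * (x ^ i * l * (x ^ i)⁻¹) = x ^ i * l * (x ^ i)⁻¹ * m) :
    ∀ n, n < N → ∀ l ∈ L, x * diagFun x n l * x⁻¹ ∈ centralizer (L : Set G) := by
  intro n
  induction n with
  | zero => intro _ l _; simp [diagFun, one_mem]
  | succ n ih =>
    intro hn l hl
    rw [diagFun_succ', show x * (diagFun x n l * (x ^ n * l * (x ^ n)⁻¹)) * x⁻¹ =
      (x * diagFun x n l * x⁻¹) * (x ^ (n + 1) * l * (x ^ (n + 1))⁻¹) by rw [pow_succ']; group]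
    refine mul_mem (ih (by omega) l hl) (mem_centralizer_iff.mpr fun m hm => ?_)
    exact hcomm (n + 1) (by omega) hn l hl m hm

theorem diagFun_mul {L : Subgroup G} {x : G} {N : ℕ}
    (hcomm : ∀ i, 0 < i → i < N → ∀ l ∈ L, ∀ m ∈ L,
      m * (x ^ i * l * (x ^ i)⁻¹) = x ^ i * l * (x ^ i)⁻¹ * m) :
    ∀ n, n ≤ N → ∀ a ∈ L, ∀ b ∈ L, diagFun x n (a * b) = diagFun x n a * diagFun x n b := by
  intro n
  induction n with
  | zero => intros; simp [diagFun]
  | succ n ih =>
    intro hn a ha b hb
    have hc := mem_centralizer_iff.mp (conj_diagFun_mem_centralizer hcomm n (by omega) a ha) b hb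
    simp only [diagFun]
    rw [ih (by omega) a ha b hb]
    calc a * b * (x * (diagFun x n a * diagFun x n b) * x⁻¹)
        = a * (b * (x * diagFun x n a * x⁻¹)) * (x * diagFun x n b * x⁻¹) := by group
      _ = a * (x * diagFun x n a * x⁻¹ * b) * (x * diagFun x n b * x⁻¹) := by rw [hc]
      _ = _ := by group

theorem diagFun_mem {x : G} {S : Subgroup G} {L : Subgroup G}
    (h : ∀ i : ℕ, ∀ l ∈ L, x ^ i * l * (x ^ i)⁻¹ ∈ S) :
    ∀ n, ∀ l ∈ L, diagFun x n l ∈ S := by
  intro n
  induction n with
  | zero => intros; exact one_mem _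
  | succ n ih => intro l hl; rw [diagFun_succ']; exact mul_mem (ih l hl) (h n l hl)

theorem map_conj_eq_of_normalizer {L : Subgroup G} {g : G} (h : g ∈ normalizer (L : Set G)) :
    L.map (MulAut.conj g).toMonoidHom = L := mem_normalizer_iff_map_conj.mp h

section Fin

variable [Finite G] [hp : Fact p.Prime]

/-- The standard facts on a component `L` moved by an element `x` of order `p`. -/
theorem moved_component {L : Subgroup G} (hL : IsComponent L) {x : G} (hx : orderOf x = p)
    (hxL : x ∉ normalizer (L : Set G)) :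
    ∀ i, 0 < i → i < p → ∀ l ∈ L, ∀ m ∈ L,
      m * (x ^ i * l * (x ^ i)⁻¹) = x ^ i * l * (x ^ i)⁻¹ * m := by
  intro i hi hip l hl m hm
  have hne : L ≠ L.map (MulAut.conj (x ^ i)).toMonoidHom := by
    intro h
    have h1 : x ^ i ∈ normalizer (L : Set G) := mem_normalizer_iff_map_conj.mpr h.symm
    refine hxL (mem_of_pow_mem_of_coprime ?_ h1)
    rw [hx]
    exact hp.out.coprime_iff_not_dvd.mpr fun hd => Nat.not_le.mpr hip (Nat.le_of_dvd hi hd)
  exact commute_of_commutator_eq_bot
    (IsComponent.commutator_eq_bot_of_ne hL (IsComponent.map_conj hL _) hne) hm ⟨l, hl, rfl⟩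

/-- The diagonal of a moved component is a component of the centraliser, and it is centralised by
`O_{p'}(C(x))`. -/
theorem diagFun_commute {L : Subgroup G} (hL : IsComponent L) (hO : pPrimeCore p G = ⊥) {x : G}
    (hx : orderOf x = p) (hxL : x ∉ normalizer (L : Set G)) :
    (∀ l ∈ L, ∀ w ∈ centralizerPPrimeCore p x, w * diagFun x p l = diagFun x p l * w) ∧
      (∀ l ∈ L, (∀ m ∈ L, diagFun x p m = diagFun x p (l * m)) → l ∈ (center ↥L).map L.subtype) := by
  have hcomm := moved_component hL hx hxL
  have hmul := diagFun_mul hcomm p le_rfl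
  obtain ⟨q, hq⟩ : ∃ q, p = q + 1 := ⟨p - 1, (Nat.succ_pred_eq_of_pos hp.out.pos).symm⟩
  have hrest : ∀ l ∈ L, x * diagFun x q l * x⁻¹ ∈ centralizer (L : Set G) :=
    fun l hl => conj_diagFun_mem_centralizer hcomm q (by omega) l hl
  have hker : ∀ l ∈ L, diagFun x p l = 1 → l ∈ (center ↥L).map L.subtype := by
    intro l hl h
    rw [hq] at h
    refine mem_map_center_iff.mpr ⟨hl, fun m hm => ?_⟩
    have h1 : l = (x * diagFun x q l * x⁻¹)⁻¹ := eq_inv_of_mul_eq_one_left h
    have h2 := mem_centralizer_iff.mp (inv_mem (hrest l hl)) m hm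
    rw [← h1] at h2
    exact h2
  refine ⟨?_, fun l hl h => hker l hl ?_⟩
  swap
  · have h0 := hmul 1 (one_mem _) 1 (one_mem _)
    rw [one_mul] at h0
    have h1 : diagFun x p (1 : G) = 1 :=
      mul_left_cancel (h0.symm.trans (mul_one _).symm)
    have h2 := h 1 (one_mem _)
    rw [mul_one, h1] at h2
    exact h2.symm
  have hfix : ∀ l ∈ L, diagFun x p l ∈ centralizer ({x} : Set G) := by
    intro l hl
    have hxp : x ^ p = 1 := by rw [← hx, pow_orderOf_eq_one]
    have e1 := diagFun_succ' x p l
    simp only [diagFun] at e1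
    rw [hxp, one_mul, inv_one, mul_one] at e1
    have e2 : x * diagFun x p l * x⁻¹ = l⁻¹ * diagFun x p l * l := by
      rw [mul_assoc l⁻¹, ← e1, inv_mul_cancel_left]
    have e3 : diagFun x p l * l = l * diagFun x p l := by
      rw [hq]
      show l * (x * diagFun x q l * x⁻¹) * l = l * (l * (x * diagFun x q l * x⁻¹))
      rw [mul_assoc, mem_centralizer_iff.mp (hrest l hl) l hl]
    rw [mul_assoc l⁻¹, e3, inv_mul_cancel_left] at e2
    exact mem_centralizer_singleton_iff.mpr (mul_inv_eq_iff_eq_mul.mp e2).symm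
  let π : ↥L →* ↥(centralizer ({x} : Set G)) :=
    MonoidHom.mk' (fun l => ⟨diagFun x p l, hfix l l.2⟩)
      (fun a b => Subtype.ext (hmul a a.2 b b.2))
  have hnt : Nontrivial ↥π.range := by
    rw [Subgroup.nontrivial_iff_ne_bot]
    intro h
    rw [MonoidHom.range_eq_bot_iff] at h
    apply IsComponent.not_isMulCommutative hL
    refine ⟨⟨fun a b => ?_⟩⟩
    have hb := hker (b : G) b.2 (congrArg Subtype.val (DFunLike.congr_fun h b))
    exact Subtype.ext ((mem_map_center_iff.mp hb).2 a a.2)
  have hqs : IsQuasisimple ↥π.range :=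
    IsQuasisimple.of_surjective hL.2 (f := π.rangeRestrict) π.rangeRestrict_surjective
  have hE : ∀ e ∈ layer G, e * x = x * e →
      ∀ l ∈ L, e * l * e⁻¹ ∈ L := fun e he _ l hl =>
    (IsComponent.layer_le_normalizer hL he l).mp hl
  have hlay : ∀ l ∈ L, diagFun x p l ∈ layer G := fun l hl =>
    diagFun_mem (fun i m hm =>
      IsComponent.le_layer (IsComponent.map_conj hL (x ^ i)) ⟨m, hm, rfl⟩) p l hl
  have hsub : π.range.IsSubnormal := by
    refine Subgroup.IsSubnormal.step _ ((layer G).subgroupOf (centralizer ({x} : Set G)))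
      ?_ ?_ ?_
    · rintro _ ⟨l, rfl⟩; exact hlay l l.2
    · exact (show ((layer G).subgroupOf (centralizer ({x} : Set G))).Normal from
        Subgroup.Normal.comap inferInstance _).isSubnormal
    · refine normal_subgroupOf_of_le_normalizer fun e he n => ?_
      have key : ∀ e : ↥(centralizer ({x} : Set G)), (e : G) ∈ layer G → ∀ n ∈ π.range,
          e * n * e⁻¹ ∈ π.range := by
        rintro e he _ ⟨l, rfl⟩
        refine ⟨⟨_, hE e he (mem_centralizer_singleton_iff.mp e.2) l l.2⟩, Subtype.ext ?_⟩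
        exact (diagFun_conj x (e : G) (mem_centralizer_singleton_iff.mp e.2) p l).symm
      exact ⟨key e he n, fun h => by simpa [mul_assoc] using key e⁻¹ (inv_mem he) _ h⟩
  rcases IsComponent.le_or_commutator_eq_bot (⟨hsub, hqs⟩ : IsComponent π.range)
      (pPrimeCore_normal p ↥(centralizer ({x} : Set G))).isSubnormal with h | h
  · exfalso
    have h1 : π.range = ⊥ := by
      refine eq_bot_of_isPGroup_of_coprime (p := p) ?_
        ((pPrimeCore_coprime p).coprime_dvd_left (card_dvd_of_le h))
      intro y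
      obtain ⟨l, hl⟩ := y.2
      -- the image of `L` is trivial, since `L` is generated by its `p`-elements
      refine ⟨0, ?_⟩
      rw [pow_zero, pow_one]
      have hgen := IsComponent.genPElements_eq hL p (IsComponent.dvd_card hL p hO)
      have hall : ∀ m ∈ L, diagFun x p m = 1 := by
        have : L ≤ (π.ker).map L.subtype := by
          conv_lhs => rw [← hgen]
          refine (Subgroup.closure_le _).mpr ?_
          rintro m ⟨hm, k, hk⟩
          refine ⟨⟨m, hm⟩, ?_, rfl⟩
          rw [SetLike.mem_coe, MonoidHom.mem_ker]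
          refine eq_one_of_pow_eq_one_of_coprime (p := p) (n := k) ?_ ?_
          · exact Nat.Coprime.coprime_dvd_left (orderOf_dvd_natCard _ (h ⟨_, rfl⟩))
              (pPrimeCore_coprime p)
          · rw [← map_pow]
            exact (congrArg π (Subtype.ext hk : (⟨m, hm⟩ : ↥L) ^ p ^ k = 1)).trans (map_one π)
        intro m hm
        obtain ⟨⟨m', hm'⟩, hker', rfl⟩ := this hm
        exact congrArg Subtype.val hker'
      exact Subtype.ext (hl.symm.trans (Subtype.ext (hall l l.2)))
    exact (Subgroup.nontrivial_iff_ne_bot _).mp hnt h1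
  · intro l hl w hw
    obtain ⟨w', hw', rfl⟩ := hw
    exact congrArg Subtype.val (commute_of_commutator_eq_bot h (show π ⟨l, hl⟩ ∈ π.range from ⟨_, rfl⟩) hw').symm

/-- If `x` moves the component `L`, then `O_{p'}(C(x))` centralises `L`. -/
theorem centralizerPPrimeCore_le_centralizer_of_moving {L : Subgroup G} (hL : IsComponent L)
    (hO : pPrimeCore p G = ⊥) {x : G} (hx : orderOf x = p) (hxL : x ∉ normalizer (L : Set G)) :
    centralizerPPrimeCore p x ≤ centralizer (L : Set G) := by
  obtain ⟨hK, hker⟩ := diagFun_commute hL hO hx hxL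
  have hcomm := moved_component hL hx hxL
  have hmul := diagFun_mul hcomm p le_rfl
  intro w hw
  have hwx : w * x = x * w :=
    mem_centralizer_singleton_iff.mp (centralizerPPrimeCore_le_centralizer x hw)
  -- `w` permutes the cycle of components of `L`
  have hex : ∃ i : ℕ, L.map (MulAut.conj w).toMonoidHom = L.map (MulAut.conj (x ^ i)).toMonoidHom := by
    by_contra hno
    simp only [not_exists] at hno
    apply IsComponent.not_isMulCommutative hL
    refine ⟨⟨fun a b => Subtype.ext ?_⟩⟩
    show (a : G) * b = b * a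
    have hconj : ∀ i j : ℕ, ∀ l ∈ L, ∀ m ∈ L,
        Commute (x ^ i * l * (x ^ i)⁻¹) (x ^ j * (w * m * w⁻¹) * (x ^ j)⁻¹) := by
      intro i j l hl m hm
      have hxx : ∃ i' : ℕ, x ^ i = x ^ j * x ^ i' := by
        refine ⟨i + (p - 1) * j, ?_⟩
        rw [← pow_add, show j + (i + (p - 1) * j) = i + p * j by
          rw [Nat.sub_mul]; have := Nat.le_mul_of_pos_left j hp.out.pos; omega, pow_add,
          pow_mul, ← hx, pow_orderOf_eq_one, one_pow, mul_one]
      obtain ⟨i', hi'⟩ := hxx
      have hb : ⁅L.map (MulAut.conj (x ^ i')).toMonoidHom, L.map (MulAut.conj w).toMonoidHom⁆ = ⊥ :=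
        IsComponent.commutator_eq_bot_of_ne (IsComponent.map_conj hL _) (IsComponent.map_conj hL _)
          (Ne.symm (hno i'))
      have hc : Commute (x ^ i' * l * (x ^ i')⁻¹) (w * m * w⁻¹) :=
        commute_of_commutator_eq_bot hb ⟨l, hl, rfl⟩ ⟨m, hm, rfl⟩
      have := hc.map (MulAut.conj (x ^ j)).toMonoidHom
      simp only [MulEquiv.coe_toMonoidHom, MulAut.conj_apply] at this
      rw [hi']
      convert this using 1 <;> group
    have hab : ∀ l ∈ L, ∀ m ∈ L, diagFun x p l * diagFun x p m = diagFun x p m * diagFun x p l := by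
      intro l hl m hm
      have e : diagFun x p m = diagFun x p (w * m * w⁻¹) := by
        rw [← diagFun_conj x w hwx, hK m hm w hw, mul_inv_cancel_right]
      rw [e]
      let S : Subgroup G := Subgroup.closure {g | ∃ i : ℕ, ∃ l ∈ L, g = x ^ i * l * (x ^ i)⁻¹}
      have h1 : diagFun x p l ∈ S :=
        diagFun_mem (S := S) (L := L) (fun i l hl => Subgroup.subset_closure ⟨i, l, hl, rfl⟩) p l hl
      have h2 : ∀ (n : ℕ) (m : G), m ∈ L →
          diagFun x n (w * m * w⁻¹) ∈ centralizer (S : Set G) := by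
        intro n
        induction n with
        | zero => intros; exact one_mem _
        | succ n ih =>
          intro m hm
          rw [diagFun_succ']
          refine mul_mem (ih m hm) ?_
          rw [centralizer_closure, mem_centralizer_iff]
          rintro _ ⟨i, l, hl, rfl⟩
          exact hconj i n l hl m hm
      exact mem_centralizer_iff.mp (h2 p m hm) _ h1
    have hz : ⁅(a : G), (b : G)⁆ ∈ (center ↥L).map L.subtype := by
      have hmem : ⁅(a : G), (b : G)⁆ ∈ L := by
        rw [commutatorElement_def]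
        exact mul_mem (mul_mem (mul_mem a.2 b.2) (inv_mem a.2)) (inv_mem b.2)
      refine hker _ hmem fun m hm => ?_
      have hab' : (a : G) * b = ⁅(a : G), (b : G)⁆ * (b * a) := by
        rw [commutatorElement_def]; group
      have h3 := congrArg (diagFun x p) hab'
      rw [hmul _ a.2 _ b.2, hmul _ hmem _ (mul_mem b.2 a.2), hmul _ b.2 _ a.2, hab _ a.2 _ b.2] at h3
      rw [hmul _ hmem _ hm]
      nth_rw 1 [← one_mul (diagFun x p m)]
      congr 1
      exact (mul_eq_right.mp h3.symm).symm
    have hperf : (⁅L, L⁆ : Subgroup G) = L := IsComponent.commutator_self hL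
    -- all commutators are central, so `L` is abelian
    have hle : L ≤ (center ↥L).map L.subtype := by
      conv_lhs => rw [← hperf]
      rw [commutator_le]
      intro c hc d hd
      have hmem : ⁅c, d⁆ ∈ L := by
        rw [commutatorElement_def]
        exact mul_mem (mul_mem (mul_mem hc hd) (inv_mem hc)) (inv_mem hd)
      refine hker _ hmem fun m hm => ?_
      have hab' : c * d = ⁅c, d⁆ * (d * c) := by rw [commutatorElement_def]; group
      have h3 := congrArg (diagFun x p) hab'
      rw [hmul _ hc _ hd, hmul _ hmem _ (mul_mem hd hc), hmul _ hd _ hc, hab _ hc _ hd] at h3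
      rw [hmul _ hmem _ hm]
      nth_rw 1 [← one_mul (diagFun x p m)]
      congr 1
      exact (mul_eq_right.mp h3.symm).symm
    exact ((mem_map_center_iff.mp (hle b.2)).2 a a.2)
  obtain ⟨i, hi⟩ := hex
  set u := (x ^ i)⁻¹ * w with hu
  have hux : u * x = x * u := ((Commute.self_pow x i).symm.inv_left.mul_left hwx).eq
  have huL : ∀ l ∈ L, u * l * u⁻¹ ∈ L := by
    intro l hl
    obtain ⟨m, hm, hme⟩ : w * l * w⁻¹ ∈ L.map (MulAut.conj (x ^ i)).toMonoidHom :=
      hi ▸ ⟨l, hl, rfl⟩
    have hme' : x ^ i * m * (x ^ i)⁻¹ = w * l * w⁻¹ := hme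
    rw [show u * l * u⁻¹ = (x ^ i)⁻¹ * (w * l * w⁻¹) * x ^ i by rw [hu]; group, ← hme']
    simpa [mul_assoc] using hm
  have huc : u ∈ centralizer (L : Set G) := by
    refine mem_centralizer_of_perfect (IsComponent.commutator_self hL) fun l hl => ?_
    refine hker _ (mul_mem (huL l hl) (inv_mem hl)) fun m hm => ?_
    have e : diagFun x p (u * l * u⁻¹) = diagFun x p l := by
      rw [← diagFun_conj x u hux]
      have hxl : Commute (x ^ i) (diagFun x p l) := by
        have : diagFun x p l ∈ centralizer ({x} : Set G) := by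
          have h5 := diagFun_conj x x rfl p l
          rw [mem_centralizer_singleton_iff]
          have h6 : diagFun x p (x * l * x⁻¹) = diagFun x p l := by
            have e1 := diagFun_succ' x p l
            simp only [diagFun] at e1
            rw [show x ^ p = 1 by rw [← hx, pow_orderOf_eq_one], one_mul, inv_one, mul_one] at e1
            obtain ⟨q, hq⟩ : ∃ q, p = q + 1 := ⟨p - 1, (Nat.succ_pred_eq_of_pos hp.out.pos).symm⟩
            have hrest := conj_diagFun_mem_centralizer hcomm q (by omega) l hl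
            have e3 : diagFun x p l * l = l * diagFun x p l := by
              rw [hq]
              show l * (x * diagFun x q l * x⁻¹) * l = l * (l * (x * diagFun x q l * x⁻¹))
              rw [mul_assoc, mem_centralizer_iff.mp hrest l hl]
            rw [← h5]
            exact mul_left_cancel (e1.trans e3)
          rw [h6] at h5
          exact (mul_inv_eq_iff_eq_mul.mp h5).symm
        exact Commute.pow_left (mem_centralizer_singleton_iff.mp this).symm i
      have hc : Commute u (diagFun x p l) := hxl.inv_left.mul_left (hK l hl w hw)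
      rw [hc.eq, mul_inv_cancel_right]
    rw [hmul _ (mul_mem (huL l hl) (inv_mem hl)) _ hm, hmul _ (huL l hl) _ (inv_mem hl), e,
      ← hmul _ hl _ (inv_mem hl), mul_inv_cancel, ← hmul _ (one_mem _) _ hm, one_mul]
  have hwp : w ^ p ∈ centralizer (L : Set G) := by
    have h1 : w = x ^ i * u := by rw [hu, mul_inv_cancel_left]
    have h2 : Commute (x ^ i) u := (Commute.pow_left (hux.symm : Commute x u) i)
    rw [h1, h2.mul_pow, ← pow_mul, Nat.mul_comm i p, pow_mul, ← hx, pow_orderOf_eq_one, one_pow,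
      one_mul, hx]
    exact pow_mem huc p
  exact mem_of_pow_mem_of_coprime (Nat.Coprime.coprime_dvd_left
    (Subgroup.orderOf_dvd_natCard _ hw) (coprime_card_centralizerPPrimeCore x)) hwp

end Fin

end Cfsg.Agent.Lib.Components
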