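import Cfsg.Agent.Lib.Components.Balance
import Mathlib.GroupTheory.Nilpotent
/-!
# Balance through the components
-/

set_option autoImplicit false

namespace Cfsg.Agent.Lib.Components

open Subgroup
open scoped commutatorElement

variable {G : Type*} [Group G] [Finite G] {p : ℕ} [hp : Fact p.Prime]

omit [Finite G] hp in
theorem zpowers_le_normalizer_of_mem {L : Subgroup G} {x : G} (h : x ∈ normalizer (L : Set G)) :
    zpowers x ≤ normalizer (L : Set G) := zpowers_le.mpr h

omit [Finite G] hp in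
theorem map_center_conj {L : Subgroup G} {g z : G} (hg : g ∈ normalizer (L : Set G))
    (hz : z ∈ (center ↥L).map L.subtype) : g * z * g⁻¹ ∈ (center ↥L).map L.subtype := by
  rw [mem_map_center_iff] at hz ⊢
  refine ⟨(hg z).mp hz.1, fun m hm => ?_⟩
  have := hz.2 (g⁻¹ * m * g) (by simpa using ((inv_mem hg) m).mp hm)
  calc m * (g * z * g⁻¹) = g * ((g⁻¹ * m * g) * z) * g⁻¹ := by group
    _ = g * (z * (g⁻¹ * m * g)) * g⁻¹ := by rw [this]
    _ = g * z * g⁻¹ * m := by group

omit hp in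
theorem IsComponent.dvd_index_center [Fact p.Prime] {L : Subgroup G} (hL : IsComponent L)
    (h : p ∣ Nat.card ↥L) : p ∣ (center ↥L).index := by
  by_contra hnd
  have hgen := IsQuasisimple.closure_pElements_eq_top hL.2 p h
  apply IsQuasisimple.center_ne_top hL.2
  rw [eq_top_iff, ← hgen]
  refine (Subgroup.closure_le _).mpr ?_
  rintro m ⟨-, k, hk⟩
  rw [SetLike.mem_coe, ← QuotientGroup.eq_one_iff (N := center ↥L)]
  have h1 : orderOf (m : ↥L ⧸ center ↥L) ∣ (center ↥L).index := by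
    rw [Subgroup.index_eq_card]; exact orderOf_dvd_natCard _
  have h2 : orderOf (m : ↥L ⧸ center ↥L) ∣ p ^ k :=
    orderOf_dvd_of_pow_eq_one (by rw [← QuotientGroup.mk_pow, hk, QuotientGroup.mk_one])
  refine orderOf_eq_one_iff.mp (Nat.Coprime.eq_one_of_dvd ?_ h2)
  exact (Nat.Coprime.coprime_dvd_left h1
    ((Fact.out : p.Prime).coprime_iff_not_dvd.mpr hnd).symm).pow_right k

/-- A `p`-element normalising a component has a non-central fixed `p`-element modulo the centre. -/
theorem exists_fixed_mod_center {L : Subgroup G} (hL : IsComponent L) (h : p ∣ Nat.card ↥L)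
    {x : G} (hx : orderOf x = p) (hxL : x ∈ normalizer (L : Set G)) :
    ∃ y ∈ L, y ∉ (center ↥L).map L.subtype ∧ (∃ k, y ^ p ^ k = 1) ∧
      x * y * x⁻¹ * y⁻¹ ∈ (center ↥L).map L.subtype := by
  set M := L ⊔ zpowers x with hM
  have hMn : M ≤ normalizer (L : Set G) :=
    sup_le le_normalizer (zpowers_le_normalizer_of_mem hxL)
  have hxM : x ∈ M := mem_sup_right (mem_zpowers x)
  obtain ⟨S, hS⟩ := (IsPGroup.of_card (p := p) (n := 1)
    (by rw [Nat.card_zpowers, Subgroup.orderOf_mk, hx, pow_one]) :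
      IsPGroup p ↥(zpowers (⟨x, hxM⟩ : ↥M))).exists_le_sylow
  haveI : (L.subgroupOf M).Normal := normal_subgroupOf_of_le_normalizer hMn
  set S' := (S : Subgroup ↥M).map M.subtype with hS'
  have hxS : x ∈ S' := ⟨⟨x, hxM⟩, hS (mem_zpowers _), rfl⟩
  have hSp : IsPGroup p ↥S' := S.2.map _
  -- some `p`-element of `L` lying in `S'` is not central
  have hnc : ¬ S' ⊓ L ≤ (center ↥L).map L.subtype := by
    intro hle
    apply IsQuasisimple.center_ne_top hL.2
    have hgen := IsQuasisimple.closure_pElements_eq_top hL.2 p h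
    rw [eq_top_iff, ← hgen]
    refine (Subgroup.closure_le _).mpr ?_
    rintro m ⟨-, k, hk⟩
    have hmM : (m : G) ∈ M := mem_sup_left m.2
    obtain ⟨S₂, hS₂⟩ := (show IsPGroup p ↥(zpowers (⟨m, hmM⟩ : ↥M)) from by
      rintro ⟨z, hz⟩
      obtain ⟨i, rfl⟩ := Subgroup.mem_zpowers_iff.mp hz
      refine ⟨k, Subtype.ext (Subtype.ext ?_)⟩
      show ((m : G) ^ i) ^ p ^ k = 1
      rw [← zpow_natCast, ← zpow_mul, mul_comm, zpow_mul, zpow_natCast, ← Subgroup.coe_pow, hk,
        Subgroup.coe_one, one_zpow]).exists_le_sylow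
    obtain ⟨g, hg⟩ := MulAction.exists_smul_eq ↥M S S₂
    have hm2 := hS₂ (mem_zpowers _)
    rw [← hg, Sylow.smul_def, Sylow.pointwise_smul_def] at hm2
    obtain ⟨s, hs, hse⟩ := hm2
    have hse' : (g : G) * s * (g : G)⁻¹ = m := congrArg Subtype.val hse
    have hsL : (s : G) ∈ L := (hMn g.2 _).mpr (by rw [hse']; exact m.2)
    obtain ⟨w, hw, hwe⟩ := map_center_conj (hMn g.2) (hle ⟨⟨s, hs, rfl⟩, hsL⟩)
    have : w = m := Subtype.ext (hwe.trans hse')
    rw [SetLike.mem_coe, ← this]; exact hw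
  -- descend along the lower central series of `S'`
  obtain ⟨n, hn⟩ := (Subgroup.isNilpotent_iff_lowerCentralSeries _).mp
    (hSp.isNilpotent : Group.IsNilpotent ↥S')
  by_contra hno
  have key : ∀ n, ∃ y ∈ S'.lowerCentralSeries n, y ∈ L ∧ y ∉ (center ↥L).map L.subtype := by
    intro n
    induction n with
    | zero =>
      obtain ⟨y, hy, hyc⟩ := SetLike.not_le_iff_exists.mp hnc
      exact ⟨y, hy.1, hy.2, hyc⟩
    | succ n ih =>
      obtain ⟨y, hy, hyL, hyc⟩ := ih
      have hyS : y ∈ S' := S'.lowerCentralSeries_antitone (Nat.zero_le n) hy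
      obtain ⟨k, hk⟩ := hSp ⟨y, hyS⟩
      refine ⟨⁅y, x⁆, ?_, ?_, fun hc => hno ⟨y, hyL, hyc, ⟨k, congrArg Subtype.val hk⟩, ?_⟩⟩
      · rw [Subgroup.lowerCentralSeries_succ]; exact commutator_mem_commutator hy hxS
      · rw [commutatorElement_def, mul_assoc, mul_assoc, ← mul_assoc x y⁻¹]
        exact mul_mem hyL ((hxL _).mp (inv_mem hyL))
      · rw [show x * y * x⁻¹ * y⁻¹ = ⁅y, x⁆⁻¹ by rw [commutatorElement_def]; group]
        exact inv_mem hc
  obtain ⟨y, hy, -, hyc⟩ := key n
  rw [hn, mem_bot] at hy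
  exact hyc (hy ▸ one_mem _)

/-- If `x` normalises `L` without centralising it, so does `O_{p'}(C(x))`. -/
theorem centralizerPPrimeCore_le_normalizer {L : Subgroup G} (hL : IsComponent L)
    (hO : pPrimeCore p G = ⊥) {x : G} (hx : orderOf x = p) (hxL : x ∈ normalizer (L : Set G)) :
    centralizerPPrimeCore p x ≤ normalizer (L : Set G) := by
  intro w hw
  by_contra hwL
  obtain ⟨y, hy, hyc, ⟨k, hyk⟩, hxy⟩ :=
    exists_fixed_mod_center hL (IsComponent.dvd_card hL p hO) hx hxL
  have hwx : w * x = x * w :=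
    mem_centralizer_singleton_iff.mp (centralizerPPrimeCore_le_centralizer x hw)
  have hwo : (orderOf w).Coprime p := Nat.Coprime.coprime_dvd_left
    (Subgroup.orderOf_dvd_natCard _ hw) (coprime_card_centralizerPPrimeCore x)
  set L' := L.map (MulAut.conj w).toMonoidHom with hL'
  set L'' := L'.map (MulAut.conj w).toMonoidHom with hL''
  have hne : L ≠ L' := fun h => hwL (mem_normalizer_iff_map_conj.mpr h.symm)
  have hL'c : IsComponent L' := IsComponent.map_conj hL w
  have hne' : L' ≠ L'' := fun h => hne (by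
    rw [hL'', hL'] at h
    exact Subgroup.map_injective (MulAut.conj w).injective h)
  set y' := w * y * w⁻¹ with hy'
  set y'' := w * y' * w⁻¹ with hy''
  have hy'L : y' ∈ L' := ⟨y, hy, rfl⟩
  have hy''L : y'' ∈ L'' := ⟨y', hy'L, rfl⟩
  have c01 : Commute y y' :=
    commute_of_commutator_eq_bot (IsComponent.commutator_eq_bot_of_ne hL hL'c hne) hy hy'L
  have c12 : Commute y' y'' := commute_of_commutator_eq_bot
    (IsComponent.commutator_eq_bot_of_ne hL'c (IsComponent.map_conj hL'c w) hne') hy'L hy''L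
  -- `y * y'⁻¹` centralises `x`
  have hz : x * y' * x⁻¹ * y'⁻¹ = x * y * x⁻¹ * y⁻¹ := by
    have hc : (x * y * x⁻¹ * y⁻¹) * w = w * (x * y * x⁻¹ * y⁻¹) :=
      mem_centralizer_iff.mp (centralizerPPrimeCore_le_centralizer_pCore hx hw) _
        (IsComponent.map_center_le_pCore hL hO hxy)
    calc x * y' * x⁻¹ * y'⁻¹ = (x * w) * y * (x * w)⁻¹ * (w * y⁻¹ * w⁻¹) := by rw [hy']; group
      _ = (w * x) * y * (w * x)⁻¹ * (w * y⁻¹ * w⁻¹) := by rw [hwx]
      _ = w * (x * y * x⁻¹ * y⁻¹) * w⁻¹ := by group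
      _ = x * y * x⁻¹ * y⁻¹ := by rw [← hc, mul_inv_cancel_right]
  have hyy : Commute (x * y * x⁻¹ * y⁻¹) y := ((mem_map_center_iff.mp hxy).2 y hy).symm
  have he : y * y'⁻¹ ∈ centralizer ({x} : Set G) := by
    refine mem_centralizer_singleton_iff.mpr (mul_inv_eq_iff_eq_mul.mp ?_).symm
    generalize hzz : x * y * x⁻¹ * y⁻¹ = z at hz hyy
    have e1 : x * y * x⁻¹ = z * y := by rw [← hzz]; group
    have e2 : x * y' * x⁻¹ = z * y' := by rw [← hz]; group
    calc x * (y * y'⁻¹) * x⁻¹ = (x * y * x⁻¹) * (x * y' * x⁻¹)⁻¹ := by group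
      _ = (z * y) * (z * y')⁻¹ := by rw [e1, e2]
      _ = (y * z) * (z * y')⁻¹ := by rw [hyy.eq]
      _ = y * (z * y'⁻¹ * z⁻¹) := by group
      _ = y * y'⁻¹ := by
        have hzy' : Commute z y' := by
          have hzc : z ∈ (center ↥L).map L.subtype := hzz ▸ hxy
          exact commute_of_commutator_eq_bot (IsComponent.commutator_eq_bot_of_ne hL hL'c hne)
            (mem_map_center_iff.mp hzc).1 hy'L
        rw [hzy'.inv_right.eq, mul_inv_cancel_right]
  -- the commutator of `w` and `y * y'⁻¹`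
  have hf : w * (y * y'⁻¹) * w⁻¹ * (y * y'⁻¹)⁻¹ ∈ centralizerPPrimeCore p x := by
    rw [show w * (y * y'⁻¹) * w⁻¹ * (y * y'⁻¹)⁻¹ =
      w * ((y * y'⁻¹) * w⁻¹ * (y * y'⁻¹)⁻¹) by group]
    exact mul_mem hw ((centralizer_le_normalizer_centralizerPPrimeCore x he _).mp (inv_mem hw))
  have hfe : w * (y * y'⁻¹) * w⁻¹ * (y * y'⁻¹)⁻¹ = (y' * y') * (y''⁻¹ * y⁻¹) := by
    calc w * (y * y'⁻¹) * w⁻¹ * (y * y'⁻¹)⁻¹ = y' * (y''⁻¹ * y') * y⁻¹ := by
          rw [hy'', hy']; group
      _ = y' * (y' * y''⁻¹) * y⁻¹ := by rw [(c12.inv_right).eq]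
      _ = _ := by group
  rw [hfe] at hf
  set f := (y' * y') * (y''⁻¹ * y⁻¹) with hfdef
  have hfo : (orderOf f).Coprime p := Nat.Coprime.coprime_dvd_left
    (Subgroup.orderOf_dvd_natCard _ hf) (coprime_card_centralizerPPrimeCore x)
  have hy'k : y' ^ p ^ k = 1 := by rw [hy', conj_pow, hyk]; group
  have hy''k : y'' ^ p ^ k = 1 := by rw [hy'', conj_pow, hy'k]; group
  by_cases h02 : L = L''
  · -- `w²` normalises `L`, so `p` is odd
    have hw2 : w ^ 2 ∈ normalizer (L : Set G) := by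
      rw [mem_normalizer_iff_map_conj]
      conv_rhs => rw [h02, hL'', hL', Subgroup.map_map]
      congr 1
      ext g
      simp [sq, mul_assoc]
    have hp2 : p ≠ 2 := fun h2 => hwL (mem_of_pow_mem_of_coprime (h2 ▸ hwo) hw2)
    have hb : Commute (y' * y') (y''⁻¹ * y⁻¹) :=
      (c12.inv_right.mul_right c01.symm.inv_right).mul_left
        (c12.inv_right.mul_right c01.symm.inv_right)
    have h1 : (y' * y') ^ orderOf f = ((y''⁻¹ * y⁻¹) ^ orderOf f)⁻¹ :=
      eq_inv_of_mul_eq_one_left (by rw [← hb.mul_pow, ← hfdef, pow_orderOf_eq_one])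
    have h2 : (y' * y') ^ orderOf f ∈ L := by
      rw [h1]
      exact inv_mem (pow_mem (mul_mem (inv_mem (h02 ▸ hy''L)) (inv_mem hy)) _)
    have h3 : ∀ m ∈ L', m * (y' * y') ^ orderOf f = (y' * y') ^ orderOf f * m := fun m hm =>
      (commute_of_commutator_eq_bot (IsComponent.commutator_eq_bot_of_ne hL hL'c hne) h2 hm).symm
    have hys : (y' * y') ^ p ^ k = 1 := by
      rw [(Commute.refl y').mul_pow, hy'k, one_mul]
    -- `y' * y'` is central in `L'`
    have h4 : ∀ m ∈ L', Commute m (y' * y') := by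
      intro m hm
      have hco : (orderOf (y' * y')).Coprime (orderOf f) := Nat.Coprime.coprime_dvd_left
        (orderOf_dvd_of_pow_eq_one hys) ((hfo.pow_right k).symm)
      obtain ⟨i, hi⟩ := exists_pow_eq_self_of_coprime hco.symm
      rw [← hi]
      exact Commute.pow_right (h3 m hm) i
    have hodd : Odd p := hp.out.odd_of_ne_two hp2
    have hco2 : (orderOf y').Coprime 2 := Nat.Coprime.coprime_dvd_left
      (orderOf_dvd_of_pow_eq_one hy'k) (Nat.coprime_two_right.mpr (hodd.pow))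
    obtain ⟨i, hi⟩ := exists_pow_eq_self_of_coprime hco2.symm
    apply hyc
    refine mem_map_center_iff.mpr ⟨hy, fun m hm => ?_⟩
    have h5 : Commute (w * m * w⁻¹) y' := by
      rw [← hi, sq]
      exact (h4 _ ⟨m, hm, rfl⟩).pow_right i
    exact ((MulAut.conj w).injective (by
      simp only [map_mul, MulAut.conj_apply]
      exact h5.eq))
  · -- all the factors commute, so `f = 1`
    have c02 : Commute y y'' := commute_of_commutator_eq_bot
      (IsComponent.commutator_eq_bot_of_ne hL (IsComponent.map_conj hL'c w) h02) hy hy''L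
    have hfp : f ^ p ^ k = 1 := by
      have h1 : Commute (y''⁻¹) (y⁻¹) := c02.symm.inv_inv
      have h2 : Commute (y' * y') (y''⁻¹ * y⁻¹) :=
        (c12.inv_right.mul_right c01.symm.inv_right).mul_left
          (c12.inv_right.mul_right c01.symm.inv_right)
      rw [hfdef, h2.mul_pow, h1.mul_pow, (Commute.refl y').mul_pow, hy'k, inv_pow, inv_pow, hy''k,
        hyk]
      group
    have hf1 : f = 1 := eq_one_of_pow_eq_one_of_coprime hfo hfp
    have hyeq : y = y' * y' * y''⁻¹ := by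
      rw [hfdef, ← mul_assoc] at hf1
      exact (mul_inv_eq_one.mp hf1).symm
    apply hyc
    refine mem_map_center_iff.mpr ⟨hy, fun m hm => ?_⟩
    have d1 : Commute m y' :=
      commute_of_commutator_eq_bot (IsComponent.commutator_eq_bot_of_ne hL hL'c hne) hm hy'L
    have d2 : Commute m y'' := commute_of_commutator_eq_bot
      (IsComponent.commutator_eq_bot_of_ne hL (IsComponent.map_conj hL'c w) h02) hm hy''L
    rw [hyeq]
    exact ((d1.mul_right d1).mul_right d2.inv_right).eq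

/-- The image of `W` in a group induced on a component lies in the cores of centralisers. -/
theorem map_le_centralizerPPrimeCore {L A W H : Subgroup G} (hL : IsComponent L)
    (hO : pPrimeCore p G = ⊥) (hH : H = L ⊔ (W ⊔ A)) (hWA : W ⊔ A ≤ normalizer (L : Set G))
    (hAab : ∀ a ∈ A, ∀ b ∈ A, a * b = b * a) {a : G} (haA : a ∈ A) (ha : orderOf a = p)
    (hW : W ≤ centralizerPPrimeCore p a) (hWn : A ≤ normalizer (W : Set G))
    {Q : Type*} [Group Q] [Finite Q] (φ : ↥H →* Q) (hφ : Function.Surjective φ)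
    (hker : φ.ker = (centralizer (L : Set G)).subgroupOf H) (haH : a ∈ H) :
    (W.subgroupOf H).map φ ≤ centralizerPPrimeCore p (φ ⟨a, haH⟩) := by
  set Γ := W ⊔ A with hΓ
  have hΓa : Γ ≤ centralizer ({a} : Set G) := sup_le (hW.trans (centralizerPPrimeCore_le_centralizer a))
    fun b hb => mem_centralizer_singleton_iff.mpr (hAab b hb a haA)
  have hLH : L ≤ H := hH ▸ le_sup_left
  have hΓH : Γ ≤ H := hH ▸ le_sup_right
  have hWH : W ≤ H := le_sup_left.trans hΓH
  have hHn : H ≤ normalizer (L : Set G) := hH ▸ sup_le le_normalizer hWA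
  have haL : a ∈ normalizer (L : Set G) := hWA (le_sup_right (a := W) haA)
  have hdec : ∀ h ∈ H, ∃ l ∈ L, ∃ γ ∈ Γ, h = l * γ := by
    intro h hh
    rw [hH, ← SetLike.mem_coe, coe_mul_of_right_le_normalizer_left _ _ hWA] at hh
    obtain ⟨l, hl, γ, hγ, rfl⟩ := hh
    exact ⟨l, hl, γ, hγ, rfl⟩
  have hZW : ∀ z ∈ (center ↥L).map L.subtype, ∀ w ∈ W, Commute z w := fun z hz w hw =>
    mem_centralizer_iff.mp (centralizerPPrimeCore_le_centralizer_pCore ha (hW hw)) z
      (IsComponent.map_center_le_pCore hL hO hz)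
  -- `Y₀ = C_L(a)` and `S` the preimage of the centraliser of the image of `a`
  set Y₀ := L ⊓ centralizer ({a} : Set G) with hY₀
  set S : Subgroup ↥H := (centralizer ({φ ⟨a, haH⟩} : Set Q)).comap φ with hS
  have hmemS : ∀ h : ↥H, h ∈ S ↔ a * h * a⁻¹ * (h : G)⁻¹ ∈ centralizer (L : Set G) := by
    intro h
    rw [hS, mem_comap, mem_centralizer_singleton_iff]
    have : (⟨a, haH⟩ * h * ⟨a, haH⟩⁻¹ * h⁻¹ : ↥H) ∈ φ.ker ↔
        a * h * a⁻¹ * (h : G)⁻¹ ∈ centralizer (L : Set G) := by rw [hker]; rfl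
    rw [← this, MonoidHom.mem_ker, map_mul, map_mul, map_mul, map_inv, map_inv,
      mul_inv_eq_one, mul_inv_eq_iff_eq_mul]
    exact eq_comm
  set T := Y₀ ⊔ W with hT
  have hTH : T ≤ H := sup_le (inf_le_left.trans hLH) hWH
  have hTa : T ≤ centralizer ({a} : Set G) :=
    sup_le inf_le_right (hW.trans (centralizerPPrimeCore_le_centralizer a))
  have hΓY : ∀ g ∈ Γ, ∀ n ∈ Y₀, g * n * g⁻¹ ∈ Y₀ := fun g hg n hn =>
    ⟨(hWA hg n).mp hn.1,
      Subgroup.mul_mem _ (Subgroup.mul_mem _ (hΓa hg) hn.2) (Subgroup.inv_mem _ (hΓa hg))⟩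
  have hWY : W ≤ normalizer (Y₀ : Set G) := fun g hg n =>
    ⟨hΓY g (mem_sup_left hg) n, fun h => by
      simpa [mul_assoc] using hΓY g⁻¹ (inv_mem (mem_sup_left hg)) _ h⟩
  -- `S` normalises `T`
  have hconj : ∀ h : ↥H, h ∈ S → ∀ c ∈ T, (h : G) * c * (h : G)⁻¹ ∈ T := by
    intro h hh c hc
    obtain ⟨l, hl, γ, hγ, hle⟩ := hdec h h.2
    have hγa := mem_centralizer_singleton_iff.mp (hΓa hγ)
    have hla : a * l * a⁻¹ * l⁻¹ ∈ (center ↥L).map L.subtype := by
      have h1 := (hmemS h).mp hh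
      rw [hle, show a * (l * γ) * a⁻¹ * (l * γ)⁻¹ = a * l * (γ * a⁻¹ * γ⁻¹) * l⁻¹ by group,
        show γ * a⁻¹ * γ⁻¹ = a⁻¹ by
          rw [(Commute.inv_right (hγa : Commute γ a)).eq, mul_inv_cancel_right]] at h1
      refine mem_map_center_iff.mpr ⟨L.mul_mem ((haL l).mp hl) (L.inv_mem hl), fun m hm => ?_⟩
      exact mem_centralizer_iff.mp h1 m hm
    generalize hz : a * l * a⁻¹ * l⁻¹ = z at hla
    have hal : a * l * a⁻¹ = z * l := by rw [← hz]; group
    have hc' : γ * c * γ⁻¹ ∈ ((T : Subgroup G) : Set G) := by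
      have hn : Γ ≤ normalizer (T : Set G) := by
        intro g hg
        rw [mem_normalizer_iff_map_conj, hT, Subgroup.map_sup]
        congr 1
        · exact mem_normalizer_iff_map_conj.mp (fun n => ⟨hΓY g hg n, fun h => by
            simpa [mul_assoc] using hΓY g⁻¹ (inv_mem hg) _ h⟩)
        · exact mem_normalizer_iff_map_conj.mp ((sup_le le_normalizer hWn : Γ ≤ _) hg)
      exact (hn hγ c).mp hc
    rw [hle, show l * γ * c * (l * γ)⁻¹ = l * (γ * c * γ⁻¹) * l⁻¹ by group]
    generalize γ * c * γ⁻¹ = d at hc'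
    have hda := mem_centralizer_singleton_iff.mp (hTa hc')
    have hdz : Commute z d := by
      refine (mem_centralizer_singleton_iff.mp
        ((sup_le ?_ ?_ : T ≤ centralizer ({z} : Set G)) hc')).symm
      · exact fun m hm => mem_centralizer_singleton_iff.mpr ((mem_map_center_iff.mp hla).2 m hm.1)
      · exact fun m hm => mem_centralizer_singleton_iff.mpr (hZW z hla m hm).symm.eq
    have hca : l * d * l⁻¹ ∈ centralizer ({a} : Set G) := by
      refine mem_centralizer_singleton_iff.mpr (mul_inv_eq_iff_eq_mul.mp ?_).symm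
      calc a * (l * d * l⁻¹) * a⁻¹
          = (a * l * a⁻¹) * (a * d * a⁻¹) * (a * l * a⁻¹)⁻¹ := by group
        _ = (z * l) * d * (z * l)⁻¹ := by rw [hal, ← hda, mul_inv_cancel_right]
        _ = (l * z) * d * (l * z)⁻¹ := by rw [(mem_map_center_iff.mp hla).2 l hl]
        _ = l * (z * d * z⁻¹) * l⁻¹ := by group
        _ = l * d * l⁻¹ := by rw [hdz.eq, mul_inv_cancel_right]
    rw [hT, coe_mul_of_right_le_normalizer_left _ _ hWY] at hc'
    obtain ⟨y, hy, w, hw, rfl⟩ := hc'
    rw [show l * (y * w) * l⁻¹ = (l * y * (w * l⁻¹ * w⁻¹)) * w by group] at hca ⊢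
    refine mul_mem_sup ⟨L.mul_mem (L.mul_mem hl hy.1)
      ((hWA (mem_sup_left hw) _).mp (inv_mem hl)), ?_⟩ hw
    have := mul_mem hca (inv_mem (hTa (mem_sup_right hw)))
    rwa [mul_inv_cancel_right] at this
  -- a normal `p'`-subgroup of `T` containing `W`
  set N₁ := centralizerPPrimeCore p a ⊓ T with hN₁
  have hWN : W ≤ N₁ := le_inf hW le_sup_right
  set f := φ.subgroupComap (centralizer ({φ ⟨a, haH⟩} : Set Q)) with hf
  have hfs : Function.Surjective f := by
    rintro ⟨q, hq⟩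
    obtain ⟨h, rfl⟩ := hφ q
    exact ⟨⟨h, hq⟩, rfl⟩
  set T' : Subgroup ↥S := T.comap (H.subtype.comp S.subtype) with hT'
  set N' : Subgroup ↥S := N₁.comap (H.subtype.comp S.subtype) with hN'
  have hT'n : T'.Normal := ⟨fun c hc h => hconj (h : ↥H) h.2 _ hc⟩
  have hN'T : N' ≤ T' := fun c hc => hc.2
  have hN's : N'.IsSubnormal := by
    refine Subgroup.IsSubnormal.step _ T' hN'T hT'n.isSubnormal
      (normal_subgroupOf_of_le_normalizer fun t ht n => ?_)
    have key : ∀ t ∈ T, ∀ n ∈ N₁, t * n * t⁻¹ ∈ N₁ := fun t ht n hn =>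
      ⟨(centralizer_le_normalizer_centralizerPPrimeCore a (hTa ht) n).mp hn.1,
        T.mul_mem (T.mul_mem ht hn.2) (T.inv_mem ht)⟩
    refine ⟨key _ ht _, fun h => ?_⟩
    have := key _ (inv_mem ht) _ h
    simp only [map_inv, map_mul, inv_inv] at this
    have e : ∀ u v : G, u⁻¹ * (u * v * u⁻¹) * u = v := fun u v => by group
    rwa [e] at this
  have hN'c : (Nat.card ↥(N'.map f)).Coprime p := by
    have h1 : Nat.card ↥N' ∣ Nat.card ↥(centralizerPPrimeCore p a) := by
      rw [← Subgroup.card_map_of_injective (f := H.subtype.comp S.subtype)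
        (H.subtype_injective.comp S.subtype_injective)]
      exact card_dvd_of_le ((map_comap_le _ _).trans inf_le_left)
    exact Nat.Coprime.coprime_dvd_left ((card_map_dvd _ _).trans h1)
      (coprime_card_centralizerPPrimeCore a)
  have hle := le_pPrimeCore_of_subnormal (hN's.map hfs) hN'c
  rintro _ ⟨w, hw, rfl⟩
  have hwS : w ∈ S := by
    refine (hmemS w).mpr ?_
    have hw' : (w : G) * a = a * (w : G) :=
      mem_centralizer_singleton_iff.mp (centralizerPPrimeCore_le_centralizer a (hW hw))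
    rw [← hw', mul_inv_cancel_right, mul_inv_cancel]
    exact one_mem _
  exact ⟨f ⟨w, hwS⟩, hle ⟨⟨w, hwS⟩, hWN hw, rfl⟩, rfl⟩

end Cfsg.Agent.Lib.Components

namespace Cfsg.Agent.Lib.Components

open Subgroup

variable {G : Type*} [Group G] {p : ℕ}

/-- The action of the normaliser of `K` on `K / Z(K)`. -/
noncomputable def normalizerQuotHom (K : Subgroup G) :
    ↥(normalizer (K : Set G)) →* MulAut (↥K ⧸ center ↥K) :=
  ({ toFun := fun α : MulAut ↥K => QuotientGroup.congr (center ↥K) (center ↥K) α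
        (Subgroup.map_equiv_eq_comap_symm α _ |>.trans
          (Subgroup.Characteristic.fixed inferInstance α.symm))
     map_one' := by
       ext x; induction x using QuotientGroup.induction_on; rfl
     map_mul' := fun α β => by
       ext x; induction x using QuotientGroup.induction_on; rfl } :
    MulAut ↥K →* MulAut (↥K ⧸ center ↥K)).comp K.normalizerMonoidHom

theorem normalizerQuotHom_apply (K : Subgroup G) (g : ↥(normalizer (K : Set G))) (l : ↥K) :
    normalizerQuotHom K g (l : ↥K ⧸ center ↥K) =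
      ((⟨(g : G) * l * (g : G)⁻¹, (g.2 _).mp l.2⟩ : ↥K) : ↥K ⧸ center ↥K) := rfl

theorem ker_normalizerQuotHom {K : Subgroup G} (hK : ⁅K, K⁆ = K) :
    (normalizerQuotHom K).ker = (centralizer (K : Set G)).subgroupOf (normalizer (K : Set G)) := by
  ext g
  rw [MonoidHom.mem_ker, mem_subgroupOf]
  constructor
  · intro h
    refine mem_centralizer_of_perfect hK fun l hl => ?_
    have h1 := DFunLike.congr_fun h ((⟨l, hl⟩ : ↥K) : ↥K ⧸ center ↥K)
    rw [normalizerQuotHom_apply, MulAut.one_apply, QuotientGroup.eq_iff_div_mem] at h1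
    exact ⟨_, h1, by simp [div_eq_mul_inv]⟩
  · intro h
    ext x
    induction x using QuotientGroup.induction_on with
    | H l =>
      rw [normalizerQuotHom_apply]
      refine congrArg QuotientGroup.mk (Subtype.ext ?_)
      show (g : G) * l * (g : G)⁻¹ = l
      rw [← mem_centralizer_iff.mp h l l.2, mul_inv_cancel_right]

theorem range_conj_le_range_normalizerQuotHom {K H : Subgroup G} (hKH : K ≤ H)
    (hH : H ≤ normalizer (K : Set G)) :
    (MulAut.conj : ↥K ⧸ center ↥K →* MulAut (↥K ⧸ center ↥K)).range ≤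
      ((normalizerQuotHom K).comp (Subgroup.inclusion hH)).range := by
  rintro _ ⟨y, rfl⟩
  induction y using QuotientGroup.induction_on with
  | H l =>
    refine ⟨⟨l, hKH l.2⟩, ?_⟩
    ext x
    induction x using QuotientGroup.induction_on with
    | H m => rfl

section Fin

variable [Finite G] [hp : Fact p.Prime]

/-- Main theorem: reduction of balance to the components. -/
theorem eq_bot_of_le_cores (hO : pPrimeCore p G = ⊥) {A W : Subgroup G}
    (hA : IsElementaryAbelian p A) (hA1 : A ≠ ⊥)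
    (hW : ∀ a ∈ A, a ≠ 1 → W ≤ centralizerPPrimeCore p a)
    (hloc : ∀ L : Subgroup G, IsComponent L → A ≤ normalizer (L : Set G) →
      W ≤ normalizer (L : Set G) → (∀ a ∈ A, a ≠ 1 → a ∉ centralizer (L : Set G)) →
      W ≤ centralizer (L : Set G)) : W = ⊥ := by
  obtain ⟨a, haA, ha1⟩ := (Subgroup.ne_bot_iff_exists_ne_one).mp hA1 |>.elim
    fun a h => (⟨a, a.2, fun e => h (Subtype.ext e)⟩ : ∃ a : G, a ∈ A ∧ a ≠ 1)
  have hord : ∀ b ∈ A, b ≠ 1 → orderOf b = p := fun b hb hb1 =>
    orderOf_eq_prime (hA.2 b hb) hb1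
  have hcomp : ∀ L : Subgroup G, IsComponent L → W ≤ centralizer (L : Set G) := by
    intro L hL
    by_cases h1 : ∃ b ∈ A, b ≠ 1 ∧ b ∈ centralizer (L : Set G)
    · obtain ⟨b, hb, hb1, hbL⟩ := h1
      exact (hW b hb hb1).trans (centralizerPPrimeCore_le_centralizer_of_centralizing hL hO hbL)
    by_cases h2 : ∃ b ∈ A, b ∉ normalizer (L : Set G)
    · obtain ⟨b, hb, hbL⟩ := h2
      have hb1 : b ≠ 1 := fun e => hbL (e ▸ one_mem _)
      exact (hW b hb hb1).trans
        (centralizerPPrimeCore_le_centralizer_of_moving hL hO (hord b hb hb1) hbL)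
    simp only [not_exists, not_and, not_not] at h1 h2
    exact hloc L hL h2 ((hW a haA ha1).trans
      (centralizerPPrimeCore_le_normalizer hL hO (hord a haA ha1) (h2 a haA))) h1
  have hle : W ≤ pCore p G := by
    rw [← fittingSubgroup_eq_pCore p hO]
    refine le_trans ?_ centralizer_genFitting_le_fittingSubgroup
    rw [generalizedFittingSubgroup, le_centralizer_iff]
    refine sup_le (layer_le_iff.mpr fun L hL => le_centralizer_iff.mp (hcomp L hL)) ?_
    rw [fittingSubgroup_eq_pCore p hO, le_centralizer_iff]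
    exact (hW a haA ha1).trans (centralizerPPrimeCore_le_centralizer_pCore (hord a haA ha1))
  exact eq_bot_of_isPGroup_of_coprime ((pCore_isPGroup p).to_le hle)
    ((coprime_card_centralizerPPrimeCore a).coprime_dvd_left (card_dvd_of_le (hW a haA ha1)))

/-- The group induced on a component has trivial `p'`-core. -/
theorem pPrimeCore_eq_bot_of_ker {L H : Subgroup G} (hL : IsComponent L)
    (hO : pPrimeCore p G = ⊥) (hLH : L ≤ H) (hHn : H ≤ normalizer (L : Set G))
    {Q : Type*} [Group Q] [Finite Q] (φ : ↥H →* Q) (hφ : Function.Surjective φ)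
    (hker : φ.ker = (centralizer (L : Set G)).subgroupOf H) : pPrimeCore p Q = ⊥ := by
  set N := (pPrimeCore p Q).comap φ with hN
  haveI hNn : N.Normal := (pPrimeCore_normal p Q).comap φ
  set ι := Subgroup.inclusion hLH
  rcases IsQuasisimple.normal_eq_top_or_le_center hL.2 (N.comap ι) with h | h
  · exfalso
    have h2 : (⊤ : Subgroup ↥L).map (φ.comp ι) ≤ pPrimeCore p Q := by
      rintro _ ⟨l, -, rfl⟩
      exact (show ι l ∈ N from (h ▸ mem_top l : l ∈ N.comap ι))
    have h3 : (φ.comp ι).ker = center ↥L := by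
      ext l
      rw [MonoidHom.mem_ker, MonoidHom.comp_apply, ← MonoidHom.mem_ker, hker, mem_subgroupOf]
      exact ⟨fun hc => mem_center_iff.mpr fun m => Subtype.ext (mem_centralizer_iff.mp hc m m.2),
        fun hc => mem_centralizer_iff.mpr fun m hm =>
          congrArg Subtype.val (mem_center_iff.mp hc ⟨m, hm⟩)⟩
    have h4 : Nat.card ↥((⊤ : Subgroup ↥L).map (φ.comp ι)) = (center ↥L).index := by
      rw [← MonoidHom.range_eq_map, ← h3, Subgroup.index_ker]
    have h5 := Nat.dvd_trans (h4 ▸ IsComponent.dvd_index_center hL (IsComponent.dvd_card hL p hO))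
      (card_dvd_of_le h2)
    exact hp.out.coprime_iff_not_dvd.mp (pPrimeCore_coprime p).symm h5
  · rw [← Subgroup.map_comap_eq_self_of_surjective hφ (pPrimeCore p Q), ← hN,
      Subgroup.map_eq_bot_iff, hker]
    intro n hn
    refine mem_centralizer_of_perfect (IsComponent.commutator_self hL) fun l hl => ?_
    have hmem : (n : G) * l * (n : G)⁻¹ * l⁻¹ ∈ L := L.mul_mem ((hHn n.2 l).mp hl) (L.inv_mem hl)
    refine ⟨⟨_, hmem⟩, h ?_, rfl⟩
    show ι ⟨_, hmem⟩ ∈ N
    rw [show ι ⟨_, hmem⟩ = n * (⟨l, hLH hl⟩ * n⁻¹ * ⟨l, hLH hl⟩⁻¹) from Subtype.ext (by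
      show (n : G) * l * (n : G)⁻¹ * l⁻¹ = (n : G) * (l * (n : G)⁻¹ * l⁻¹)
      group)]
    exact N.mul_mem hn (hNn.conj_mem _ (N.inv_mem hn) _)

/-- Centralisers of `p`-elements are covered under a quotient by a `p'`-group. -/
theorem map_centralizerPPrimeCore_quotient_le (W : Subgroup G) [W.Normal]
    (hW : (Nat.card ↥W).Coprime p) {x : G} (hx : orderOf x = p) :
    (centralizerPPrimeCore p x).map (QuotientGroup.mk' W) ≤
      centralizerPPrimeCore p (QuotientGroup.mk' W x) := by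
  set q := QuotientGroup.mk' W
  set f : ↥(centralizer ({x} : Set G)) →* ↥(centralizer ({q x} : Set (G ⧸ W))) :=
    (q.comp (centralizer ({x} : Set G)).subtype).codRestrict _ (fun c => by
      rw [mem_centralizer_singleton_iff, MonoidHom.comp_apply, ← map_mul, ← map_mul]
      exact congrArg q (mem_centralizer_singleton_iff.mp c.2)) with hf
  have hfs : Function.Surjective f := by
    rintro ⟨y, hy⟩
    have hP : IsPGroup p ↥(zpowers x) :=
      IsPGroup.of_card (n := 1) (by rw [Nat.card_zpowers, hx, pow_one])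
    have hy' : y ∈ (normalizer (zpowers x : Set G)).map q := by
      rw [map_normalizer_quotient W hW hP]
      refine centralizer_le_normalizer _ (mem_centralizer_iff.mpr ?_)
      rintro _ ⟨_, ⟨i, rfl⟩, rfl⟩
      rw [map_zpow]
      exact (Commute.zpow_left (mem_centralizer_singleton_iff.mp hy).symm i).eq
    obtain ⟨g, hg, rfl⟩ := hy'
    refine ⟨⟨g, mem_centralizer_singleton_iff.mpr ?_⟩, Subtype.ext rfl⟩
    obtain ⟨i, hi⟩ := Subgroup.mem_zpowers_iff.mp ((hg x).mp (mem_zpowers x))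
    have h1 : x ^ i * x⁻¹ ∈ W := by
      rw [← QuotientGroup.eq_one_iff]
      show q (x ^ i * x⁻¹) = 1
      rw [map_mul, map_inv, mul_inv_eq_one, hi, map_mul, map_mul, map_inv,
        show q g * q x = q x * q g from mem_centralizer_singleton_iff.mp hy, mul_inv_cancel_right]
    have h2 : zpowers x ⊓ W = ⊥ :=
      eq_bot_of_isPGroup_of_coprime (hP.to_le inf_le_left)
        (hW.coprime_dvd_left (card_dvd_of_le inf_le_right))
    have h3 : x ^ i * x⁻¹ = 1 := by
      rw [← Subgroup.mem_bot, ← h2]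
      exact ⟨Subgroup.mul_mem _ (Subgroup.zpow_mem _ (mem_zpowers x) i) (Subgroup.inv_mem _ (mem_zpowers x)), h1⟩
    rw [mul_inv_eq_one, hi] at h3
    exact mul_inv_eq_iff_eq_mul.mp h3
  rintro _ ⟨_, ⟨c, hc, rfl⟩, rfl⟩
  refine ⟨f c, le_pPrimeCore ((pPrimeCore_normal p _).map f hfs) ?_ ⟨c, hc, rfl⟩, rfl⟩
  exact Nat.Coprime.coprime_dvd_left (card_map_dvd _ _) (pPrimeCore_coprime p)

/-- Elements of the core of a centraliser lying in a subgroup. -/
theorem subgroupOf_centralizerPPrimeCore_le {C : Subgroup G} {a : G} (ha : a ∈ C) :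
    (centralizerPPrimeCore p a).subgroupOf C ≤ centralizerPPrimeCore p (⟨a, ha⟩ : ↥C) := by
  intro c hc
  have hcc : c ∈ centralizer ({(⟨a, ha⟩ : ↥C)} : Set ↥C) :=
    mem_centralizer_singleton_iff.mpr (Subtype.ext
      (mem_centralizer_singleton_iff.mp (centralizerPPrimeCore_le_centralizer a hc)))
  refine ⟨⟨c, hcc⟩, ?_, rfl⟩
  set ι := C.subtype.comp (centralizer ({(⟨a, ha⟩ : ↥C)} : Set ↥C)).subtype with hι
  refine le_pPrimeCore (N := (centralizerPPrimeCore p a).comap ι) ?_ ?_ hc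
  · refine ⟨fun n hn g => ?_⟩
    show ι (g * n * g⁻¹) ∈ centralizerPPrimeCore p a
    rw [map_mul, map_mul, map_inv]
    have hg : ι g ∈ centralizer ({a} : Set G) := mem_centralizer_singleton_iff.mpr
      (congrArg Subtype.val (mem_centralizer_singleton_iff.mp g.2))
    exact (centralizer_le_normalizer_centralizerPPrimeCore a hg _).mp hn
  · rw [← Subgroup.card_map_of_injective (f := ι)
      (C.subtype_injective.comp (subtype_injective _))]
    exact (coprime_card_centralizerPPrimeCore a).coprime_dvd_left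
      (card_dvd_of_le (map_comap_le _ _))

/-- Images in the group induced on a component. -/
theorem map_le_cores_of_component {L A W : Subgroup G} (hL : IsComponent L)
    (hO : pPrimeCore p G = ⊥) (hA : IsElementaryAbelian p A)
    (hW : ∀ a ∈ A, a ≠ 1 → W ≤ centralizerPPrimeCore p a) (hWn : A ≤ normalizer (W : Set G))
    (hAn : A ≤ normalizer (L : Set G)) (hWn' : W ≤ normalizer (L : Set G))
    (hfaith : ∀ a ∈ A, a ≠ 1 → a ∉ centralizer (L : Set G))
    {H : Subgroup G} (hH : H = L ⊔ (W ⊔ A)) {Q : Type*} [Group Q] [Finite Q] (φ : ↥H →* Q) (hφ : Function.Surjective φ)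
    (hker : φ.ker = (centralizer (L : Set G)).subgroupOf H) :
    IsElementaryAbelian p ((A.subgroupOf H).map φ) ∧
      Nat.card ↥((A.subgroupOf H).map φ) = Nat.card ↥A ∧
      (W.subgroupOf H).map φ ≤
        signalizerDelta p ((A.subgroupOf H).map φ) ∧
      ((W.subgroupOf H).map φ = ⊥ → W ≤ centralizer (L : Set G)) := by
  have hAH : A ≤ H := hH ▸ le_sup_right.trans le_sup_right
  have hWH : W ≤ H := hH ▸ le_sup_left.trans le_sup_right
  refine ⟨⟨⟨⟨?_⟩⟩, ?_⟩, ?_, ?_, ?_⟩
  · rintro ⟨_, u, hu, rfl⟩ ⟨_, v, hv, rfl⟩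
    refine Subtype.ext ?_
    show φ u * φ v = φ v * φ u
    rw [← map_mul, ← map_mul]
    exact congrArg φ (Subtype.ext (show (u : G) * v = v * u from
      congrArg Subtype.val (hA.1.is_comm.comm (⟨(u : G), hu⟩ : ↥A) ⟨(v : G), hv⟩)))
  · rintro _ ⟨u, hu, rfl⟩
    rw [← map_pow, show u ^ p = 1 from Subtype.ext (hA.2 u hu), map_one]
  · have hinj : Function.Injective (φ.comp (Subgroup.inclusion hAH)) := by
      rw [← MonoidHom.ker_eq_bot_iff, eq_bot_iff]
      intro u hu
      rw [MonoidHom.mem_ker, MonoidHom.comp_apply, ← MonoidHom.mem_ker, hker] at hu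
      rw [Subgroup.mem_bot]
      by_contra h1
      exact hfaith u u.2 (fun e => h1 (Subtype.ext e)) hu
    have e : (A.subgroupOf H).map φ = (φ.comp (Subgroup.inclusion hAH)).range := by
      ext y
      constructor
      · rintro ⟨u, hu, rfl⟩; exact ⟨⟨u, hu⟩, rfl⟩
      · rintro ⟨u, rfl⟩; exact ⟨Subgroup.inclusion hAH u, u.2, rfl⟩
    rw [e]
    exact (Nat.card_congr (MonoidHom.ofInjective hinj).toEquiv).symm
  · refine le_iInf ?_
    rintro ⟨b, ⟨u, hu, rfl⟩, hb1⟩
    have hu1 : (u : G) ≠ 1 := fun e => hb1 (by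
      rw [show u = 1 from Subtype.ext e, map_one])
    exact map_le_centralizerPPrimeCore hL hO hH (sup_le hWn' hAn)
      (fun v hv w hw => congrArg Subtype.val (hA.1.is_comm.comm ⟨v, hv⟩ ⟨w, hw⟩)) hu
      (orderOf_eq_prime (hA.2 u hu) hu1) (hW u hu hu1) hWn φ hφ hker u.2
  · intro h w hw
    rw [Subgroup.map_eq_bot_iff, hker] at h
    exact h (show (⟨w, hWH hw⟩ : ↥H) ∈ W.subgroupOf H from hw)

end Fin

end Cfsg.Agent.Lib.Components
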