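import Cfsg.Agent.Lib.KnownA.ClassicalEmbeddings
import Cfsg.Agent.Lib.Components.PComponent

/-!
The block `SL_m` in the centraliser of `diag(-1, …, -1, 1)`.
-/

set_option autoImplicit false

namespace Cfsg.Agent.Lib.Components

open Cfsg.Agent.Lib.KnownA

variable {F : Type*} [Field F]

theorem card_four_of_odd [Fintype F] (hodd : Odd (Fintype.card F)) (h3 : Fintype.card F ≠ 3) :
    4 ≤ Nat.card F := by
  rw [Nat.card_eq_fintype_card]
  have := Fintype.one_lt_card (α := F)
  obtain ⟨k, hk⟩ := hodd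
  omega

theorem two_ne_zero_of_odd [Fintype F] (hodd : Odd (Fintype.card F)) : (2 : F) ≠ 0 :=
  Ring.two_ne_zero fun h => by
    have : 2 ∣ Fintype.card F := by
      haveI : CharP F 2 := h ▸ inferInstance
      exact (Nat.dvd_iff_mod_eq_zero).mpr (by
        have := FiniteField.even_card_of_char_two h
        omega)
    obtain ⟨k, hk⟩ := hodd
    omega

theorem exists_sq_ne_one [Fintype F] (hF : 4 ≤ Nat.card F) : ∃ a : F, a ≠ 0 ∧ a ^ 2 ≠ 1 := by
  classical
  by_contra h
  push Not at h
  have hsub : (Finset.univ : Finset F) ⊆ {0, 1, -1} := fun x _ => by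
    by_cases hx : x = 0
    · simp [hx]
    · rcases sq_eq_one_iff.mp (h x hx) with h1 | h1 <;> simp [h1]
  have := (Finset.card_le_card hsub).trans Finset.card_le_three
  rw [Finset.card_univ, ← Nat.card_eq_fintype_card] at this
  omega

theorem isQuasisimple_SL [Fintype F] {m : ℕ} (hm : 2 ≤ m) (h2 : m = 2 → 4 ≤ Nat.card F) :
    IsQuasisimple (Matrix.SpecialLinearGroup (Fin m) F) := by
  have hperf : Group.IsPerfect (Matrix.SpecialLinearGroup (Fin m) F) := by
    refine ⟨?_⟩
    rcases hm.eq_or_lt with rfl | hm'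
    · obtain ⟨a, ha, ha2⟩ := exists_sq_ne_one (h2 rfl)
      exact Matrix.SL2.commutator_eq_top (a := a) ha ha2
    · exact Cfsg.Agent.Lib.Classical.commutator_SL_eq_top (by rw [Fintype.card_fin]; omega)
  haveI := Cfsg.Agent.Lib.Classical.isSimpleGroup_PSL_fin (F := F) hm h2
  refine isQuasisimple_of_quotient (N := Subgroup.center (Matrix.SpecialLinearGroup (Fin m) F)) le_rfl
    (isQuasisimple_of_simple (X := Matrix.ProjectiveSpecialLinearGroup (Fin m) F) fun h => ?_)
  haveI hp : Group.IsPerfect (Matrix.ProjectiveSpecialLinearGroup (Fin m) F) := inferInstance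
  haveI := h
  have hbot : commutator (Matrix.ProjectiveSpecialLinearGroup (Fin m) F) = ⊥ := by
    rw [commutator_def, Subgroup.commutator_eq_bot_iff_le_centralizer]
    exact fun x _ => Subgroup.mem_centralizer_iff.mpr fun y _ => h.is_comm.comm y x
  rw [hp.commutator_eq_top] at hbot
  exact bot_ne_top hbot.symm

variable {m : ℕ}

/-- The block embedding. -/
abbrev blkMat (m : ℕ) : Matrix (Fin m) (Fin m) F →* Matrix (Fin (m + 1)) (Fin (m + 1)) F :=
  blockMatHom (finSumFinEquiv (m := m) (n := 1))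

/-- `diag(c, …, c, d)`. -/
def cdMat (m : ℕ) (c d : F) : Matrix (Fin (m + 1)) (Fin (m + 1)) F :=
  Matrix.diagonal fun i : Fin (m + 1) => if (i : ℕ) + 1 = m + 1 then d else c

theorem blkMat_apply (A : Matrix (Fin m) (Fin m) F) (i j : Fin m ⊕ Fin 1) :
    blkMat m A (finSumFinEquiv i) (finSumFinEquiv j) = Matrix.fromBlocks A 0 0 1 i j := by
  simp [blockMatHom]

theorem cdMat_diag_of_ne (c d : F) {i : Fin (m + 1)} (h : (i : ℕ) + 1 ≠ m + 1) : cdMat m c d i i = c :=
  (Matrix.diagonal_apply_eq _ i).trans (if_neg h)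

theorem cdMat_diag_last (c d : F) : cdMat m c d (Fin.last m) (Fin.last m) = d :=
  (Matrix.diagonal_apply_eq _ _).trans (if_pos rfl)

theorem cdMat_offdiag (c d : F) {i j : Fin (m + 1)} (h : i ≠ j) : cdMat m c d i j = 0 :=
  Matrix.diagonal_apply_ne _ h

theorem cdMat_sq_neg_one : cdMat m (-1 : F) 1 * cdMat m (-1) 1 = 1 := by
  rw [cdMat, Matrix.diagonal_mul_diagonal, ← Matrix.diagonal_one]
  congr 1; funext i; split_ifs <;> simp

theorem cdMat_submatrix (c d : F) :
    (cdMat m c d).submatrix finSumFinEquiv finSumFinEquiv =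
      Matrix.fromBlocks (c • (1 : Matrix (Fin m) (Fin m) F)) 0 0 (d • (1 : Matrix (Fin 1) (Fin 1) F)) := by
  have e : cdMat m c d = Matrix.diagonal fun i : Fin (m + 1) => if (i : ℕ) + 1 = m + 1 then d else c :=
    rfl
  rw [e, Matrix.submatrix_diagonal_equiv, Matrix.smul_one_eq_diagonal, Matrix.smul_one_eq_diagonal,
    Matrix.fromBlocks_diagonal]
  congr 1
  funext i
  rcases i with i | i
  · have := i.isLt
    simp only [Function.comp_apply, finSumFinEquiv_apply_left, Fin.val_castAdd, Sum.elim_inl]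
    exact if_neg (fun hh => Nat.ne_of_lt this (Nat.succ_injective hh))
  · have hi : (i : ℕ) = 0 := by omega
    simp [hi]

theorem blkMat_submatrix (A : Matrix (Fin m) (Fin m) F) :
    (blkMat m A).submatrix finSumFinEquiv finSumFinEquiv = Matrix.fromBlocks A 0 0 1 := by
  ext i j
  exact blkMat_apply A i j

theorem commute_cdMat_blkMat (c d : F) (A : Matrix (Fin m) (Fin m) F) :
    Commute (cdMat m c d) (blkMat m A) := by
  apply (Matrix.reindex (finSumFinEquiv (m := m) (n := 1)).symm finSumFinEquiv.symm).injective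
  simp only [Matrix.reindex_apply, Equiv.symm_symm]
  rw [← Matrix.submatrix_mul_equiv _ _ _ finSumFinEquiv _, ← Matrix.submatrix_mul_equiv _ _ _ finSumFinEquiv _,
    cdMat_submatrix, blkMat_submatrix, Matrix.fromBlocks_multiply, Matrix.fromBlocks_multiply]
  simp

/-- Block shape of a matrix commuting with `diag(-1, …, -1, 1)`. -/
theorem blocks_of_commute (h2 : (2 : F) ≠ 0) {g : Matrix (Fin (m + 1)) (Fin (m + 1)) F}
    (hg : Commute g (cdMat m (-1) 1)) :
    g.submatrix finSumFinEquiv finSumFinEquiv = Matrix.fromBlocks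
      (g.submatrix finSumFinEquiv finSumFinEquiv).toBlocks₁₁ 0 0
      (g.submatrix finSumFinEquiv finSumFinEquiv).toBlocks₂₂ := by
  have h := congrArg (fun M : Matrix (Fin (m + 1)) (Fin (m + 1)) F => M.submatrix finSumFinEquiv finSumFinEquiv) hg.eq
  beta_reduce at h
  rw [← Matrix.submatrix_mul_equiv _ _ _ (finSumFinEquiv (m := m) (n := 1)) _,
    ← Matrix.submatrix_mul_equiv _ _ _ (finSumFinEquiv (m := m) (n := 1)) _, cdMat_submatrix,
    ← Matrix.fromBlocks_toBlocks (g.submatrix finSumFinEquiv finSumFinEquiv),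
    Matrix.fromBlocks_multiply, Matrix.fromBlocks_multiply] at h
  simp only [smul_neg, Matrix.mul_zero, Matrix.zero_mul, add_zero, zero_add, one_smul, Matrix.mul_one,
    Matrix.one_mul, neg_smul, Matrix.mul_neg, Matrix.neg_mul] at h
  obtain ⟨-, h12, h21, -⟩ := Matrix.fromBlocks_inj.mp h
  set X := g.submatrix finSumFinEquiv finSumFinEquiv with hX
  conv_lhs => rw [← Matrix.fromBlocks_toBlocks X]
  congr 1
  · ext i j
    have := congrFun (congrFun h12 i) j
    simp only [Matrix.neg_apply] at this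
    have h' : (2 : F) * X.toBlocks₁₂ i j = 0 := by linear_combination this
    exact (mul_eq_zero.mp h').resolve_left h2
  · ext i j
    have := congrFun (congrFun h21 i) j
    simp only [Matrix.neg_apply] at this
    have h' : (2 : F) * X.toBlocks₂₁ i j = 0 := by linear_combination -this
    exact (mul_eq_zero.mp h').resolve_left h2

/-- The block is normalised by the centraliser. -/
theorem conj_blk (h2 : (2 : F) ≠ 0) {g g' : Matrix (Fin (m + 1)) (Fin (m + 1)) F} (hgg : g * g' = 1)
    (hg : Commute g (cdMat m (-1) 1)) (hg' : Commute g' (cdMat m (-1) 1))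
    (A : Matrix (Fin m) (Fin m) F) :
    ∃ A' : Matrix (Fin m) (Fin m) F, A'.det = A.det ∧ g * blkMat m A * g' = blkMat m A' := by
  have hX := blocks_of_commute h2 hg
  have hY := blocks_of_commute h2 hg'
  set P := (g.submatrix finSumFinEquiv finSumFinEquiv).toBlocks₁₁
  set d := (g.submatrix finSumFinEquiv finSumFinEquiv).toBlocks₂₂
  set P' := (g'.submatrix finSumFinEquiv finSumFinEquiv).toBlocks₁₁
  set d' := (g'.submatrix finSumFinEquiv finSumFinEquiv).toBlocks₂₂
  have h1 := congrArg (fun M : Matrix (Fin (m + 1)) (Fin (m + 1)) F => M.submatrix finSumFinEquiv finSumFinEquiv) hgg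
  beta_reduce at h1
  rw [← Matrix.submatrix_mul_equiv _ _ _ (finSumFinEquiv (m := m) (n := 1)) _, hX, hY,
    Matrix.fromBlocks_multiply, Matrix.submatrix_one_equiv, ← Matrix.fromBlocks_one] at h1
  obtain ⟨hPP, -, -, hdd⟩ := Matrix.fromBlocks_inj.mp h1
  simp only [Matrix.mul_zero, Matrix.zero_mul, add_zero, zero_add] at hPP hdd
  refine ⟨P * A * P', ?_, ?_⟩
  · have := congrArg Matrix.det hPP
    rw [Matrix.det_mul, Matrix.det_one] at this
    rw [Matrix.det_mul, Matrix.det_mul, mul_right_comm, this, one_mul]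
  apply (Matrix.reindex (finSumFinEquiv (m := m) (n := 1)).symm finSumFinEquiv.symm).injective
  simp only [Matrix.reindex_apply, Equiv.symm_symm]
  rw [← Matrix.submatrix_mul_equiv _ _ _ finSumFinEquiv _, ← Matrix.submatrix_mul_equiv _ _ _ finSumFinEquiv _,
    blkMat_submatrix, blkMat_submatrix, hX, hY, Matrix.fromBlocks_multiply, Matrix.fromBlocks_multiply]
  simp only [Matrix.mul_zero, Matrix.zero_mul, add_zero, zero_add, Matrix.mul_one]
  rw [hdd]

/-- What commutes with the block is `diag(c, …, c, d)`. -/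
theorem eq_cdMat_of_commute (hm : 2 ≤ m) {M : Matrix (Fin (m + 1)) (Fin (m + 1)) F}
    (h : ∀ A : Matrix.SpecialLinearGroup (Fin m) F, Commute (blkMat m (A : Matrix (Fin m) (Fin m) F)) M) :
    ∃ c d : F, M = cdMat m c d := by
  set X := M.submatrix finSumFinEquiv finSumFinEquiv with hXdef
  have hA : ∀ t : Matrix.TransvectionStruct (Fin m) F,
      t.toMatrix * X.toBlocks₁₁ = X.toBlocks₁₁ * t.toMatrix ∧ t.toMatrix * X.toBlocks₁₂ = X.toBlocks₁₂ ∧
        X.toBlocks₂₁ = X.toBlocks₂₁ * t.toMatrix := by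
    intro t
    have h1 := congrArg (fun M : Matrix (Fin (m + 1)) (Fin (m + 1)) F => M.submatrix finSumFinEquiv finSumFinEquiv)
      (h ⟨t.toMatrix, t.det⟩).eq
    beta_reduce at h1
    rw [← Matrix.submatrix_mul_equiv _ _ _ (finSumFinEquiv (m := m) (n := 1)) _,
      ← Matrix.submatrix_mul_equiv _ _ _ (finSumFinEquiv (m := m) (n := 1)) _, blkMat_submatrix,
      ← hXdef, ← Matrix.fromBlocks_toBlocks X, Matrix.fromBlocks_multiply, Matrix.fromBlocks_multiply] at h1
    simp only [Matrix.mul_zero, Matrix.zero_mul, add_zero, zero_add, Matrix.mul_one, Matrix.one_mul] at h1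
    obtain ⟨a1, a2, a3, -⟩ := Matrix.fromBlocks_inj.mp h1
    exact ⟨a1, a2, a3⟩
  obtain ⟨c, hc⟩ := Matrix.mem_range_scalar_of_commute_transvectionStruct (M := X.toBlocks₁₁)
    fun t => (hA t).1
  haveI : Nontrivial (Fin m) := Fin.nontrivial_iff_two_le.mpr hm
  have h12 : X.toBlocks₁₂ = 0 := by
    ext j k
    obtain ⟨i, hij⟩ := exists_ne j
    have := congrFun (congrFun (hA ⟨i, j, hij, 1⟩).2.1 i) k
    simpa [Matrix.transvection, Matrix.add_mul] using this
  have h21 : X.toBlocks₂₁ = 0 := by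
    ext k i
    obtain ⟨j, hij⟩ := exists_ne i
    have := congrFun (congrFun (hA ⟨i, j, hij.symm, 1⟩).2.2 k) j
    simpa [Matrix.transvection, Matrix.mul_add] using this.symm
  refine ⟨c, X.toBlocks₂₂ 0 0, ?_⟩
  apply (Matrix.reindex (finSumFinEquiv (m := m) (n := 1)).symm finSumFinEquiv.symm).injective
  simp only [Matrix.reindex_apply, Equiv.symm_symm]
  rw [cdMat_submatrix, ← hXdef]
  conv_lhs => rw [← Matrix.fromBlocks_toBlocks X]
  rw [h12, h21, ← hc]
  congr 1
  · simp [Matrix.scalar_apply, Matrix.smul_one_eq_diagonal]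
  · ext i j
    rw [Subsingleton.elim i 0, Subsingleton.elim j 0]
    simp

end Cfsg.Agent.Lib.Components
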