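import Cfsg.Agent.Lib.Components.PComponent
/-!
# `p`-constraint
-/

set_option autoImplicit false

namespace Cfsg.Agent.Lib.Components

open Subgroup
open scoped commutatorElement

variable {G : Type*} [Group G]

theorem map_pPrimePCore (p : ℕ) :
    (pPrimePCore p G).map (QuotientGroup.mk' (pPrimeCore p G)) =
      pCore p (G ⧸ pPrimeCore p G) :=
  mk'_comap_eq p _

theorem pPrimeCore_le_pPrimePCore (p : ℕ) : pPrimeCore p G ≤ pPrimePCore p G := by
  intro x hx
  rw [pPrimePCore, Subgroup.mem_comap]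
  convert Subgroup.one_mem (pCore p (G ⧸ pPrimeCore p G))
  exact (QuotientGroup.eq_one_iff x).mpr hx

instance pPrimePCore_normal' (p : ℕ) : (pPrimePCore p G).Normal :=
  (inferInstance : (pCore p (G ⧸ pPrimeCore p G)).Normal).comap _

theorem isPGroup_inf_pPrimeCore_eq_bot [Finite G] {p : ℕ} [hp : Fact p.Prime] {P : Subgroup G}
    (hP : IsPGroup p ↥P) : P ⊓ pPrimeCore p G = ⊥ := by
  obtain ⟨n, hn⟩ := IsPGroup.iff_card.mp hP
  refine Subgroup.eq_bot_of_card_eq _ (Nat.dvd_one.mp ?_)
  rw [← ((pPrimeCore_coprime (G := G) p).symm.pow_left n).gcd_eq_one, ← hn]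
  exact Nat.dvd_gcd (Subgroup.card_dvd_of_le inf_le_left) (Subgroup.card_dvd_of_le inf_le_right)

/-- A Sylow `p`-subgroup of `O_{p',p}` covers `O_p` of the quotient. -/
theorem map_sylow_pPrimePCore [Finite G] (p : ℕ) [hp : Fact p.Prime]
    (P : Sylow p ↥(pPrimePCore p G)) :
    ((P : Subgroup ↥(pPrimePCore p G)).map (pPrimePCore p G).subtype).map
        (QuotientGroup.mk' (pPrimeCore p G)) = pCore p (G ⧸ pPrimeCore p G) := by
  revert P
  set U := pPrimePCore p G with hU
  intro P
  set q := QuotientGroup.mk' (pPrimeCore p G) with hq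
  set PG := (P : Subgroup ↥U).map U.subtype with hPG
  have hle : PG.map q ≤ pCore p (G ⧸ pPrimeCore p G) :=
    (map_mono (map_subtype_le _)).trans (map_pPrimePCore p).le
  refine Subgroup.eq_of_le_of_card_ge hle ?_
  obtain ⟨n, hn⟩ := IsPGroup.iff_card.mp (pCore_isPGroup (G := G ⧸ pPrimeCore p G) p)
  rw [hn]
  refine Nat.le_of_dvd Nat.card_pos ?_
  -- `p^n` divides `|U|`, hence `|P|`, and `P` embeds in the quotient
  have h1 : p ^ n ∣ Nat.card ↥U := by
    rw [← hn, ← map_pPrimePCore]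
    exact Subgroup.card_map_dvd _ _
  have h2 : p ^ n ∣ Nat.card ↥(P : Subgroup ↥U) := by
    rw [P.card_eq_multiplicity]
    exact pow_dvd_pow p ((hp.out.pow_dvd_iff_le_factorization Nat.card_pos.ne').mp h1)
  have h3 : Nat.card ↥(PG.map q) = Nat.card ↥(P : Subgroup ↥U) := by
    have h := card_eq_card_map_mul q PG
    have hbot : q.ker.subgroupOf PG = ⊥ := by
      rw [hq, QuotientGroup.ker_mk', eq_bot_iff]
      intro x hx
      have : (x : G) ∈ PG ⊓ pPrimeCore p G := ⟨x.2, hx⟩
      rw [isPGroup_inf_pPrimeCore_eq_bot (P.isPGroup'.map _)] at this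
      exact Subtype.ext (Subgroup.mem_bot.mp this)
    rw [hbot, Subgroup.card_bot, mul_one] at h
    rw [← h, hPG, Subgroup.card_map_of_injective U.subtype_injective]
  rwa [h3]

/-- The centralizer of a Sylow `p`-subgroup of `O_{p',p}` covers the centralizer of `O_p` of the
quotient (Frattini argument). -/
theorem comap_centralizer_pCore_quotient [Finite G] (p : ℕ) [hp : Fact p.Prime]
    (P : Sylow p ↥(pPrimePCore p G)) :
    (centralizer ((pCore p (G ⧸ pPrimeCore p G)) : Set (G ⧸ pPrimeCore p G))).comap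
        (QuotientGroup.mk' (pPrimeCore p G)) =
      centralizer (((P : Subgroup ↥(pPrimePCore p G)).map (pPrimePCore p G).subtype : Subgroup G) :
        Set G) ⊔ pPrimeCore p G := by
  revert P
  set U := pPrimePCore p G with hU
  intro P
  set q := QuotientGroup.mk' (pPrimeCore p G) with hq
  set PG := (P : Subgroup ↥U).map U.subtype with hPG
  refine le_antisymm ?_ (sup_le ?_ ?_)
  · intro g hg
    rw [Subgroup.mem_comap, mem_centralizer_iff] at hg
    -- `g` normalizes `W P`; move `P` back by an element of `W`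
    set V := pPrimeCore p G ⊔ PG with hV
    have hVU : V ≤ U := sup_le (pPrimeCore_le_pPrimePCore p) (map_subtype_le _)
    have hPV : PG ≤ V := le_sup_right
    have hgP : PG.map (MulAut.conj g).toMonoidHom ≤ V := by
      rintro _ ⟨x, hx, rfl⟩
      have hxq : q x ∈ pCore p (G ⧸ pPrimeCore p G) := by
        rw [← map_sylow_pPrimePCore p P]; exact Subgroup.mem_map_of_mem _ hx
      have h1 : g * x * g⁻¹ * x⁻¹ ∈ pPrimeCore p G := by
        rw [← QuotientGroup.eq_one_iff]
        have := hg (q x) hxq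
        change q (g * x * g⁻¹ * x⁻¹) = 1
        rw [map_mul, map_mul, map_mul, map_inv, map_inv, ← this]
        group
      have : g * x * g⁻¹ = g * x * g⁻¹ * x⁻¹ * x := by group
      simp only [MulEquiv.coe_toMonoidHom, MulAut.conj_apply]
      rw [this]
      exact mul_mem_sup h1 hx
    have hVeq : V.subgroupOf U ⊔ (P : Subgroup ↥U) = V.subgroupOf U := by
      refine sup_eq_left.mpr fun x hx => ?_
      exact hPV ⟨x, hx, rfl⟩
    -- Sylow conjugacy inside `V`
    let S1 : Sylow p ↥V :=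
      P.comapOfInjective (Subgroup.inclusion hVU) (Subgroup.inclusion_injective hVU) (by
        intro x hx
        exact ⟨⟨x, hPV ⟨x, hx, rfl⟩⟩, Subtype.ext rfl⟩)
    have hS1 : (S1 : Subgroup ↥V).map V.subtype = PG := by
      ext x
      constructor
      · rintro ⟨y, hy, rfl⟩
        exact ⟨Subgroup.inclusion hVU y, hy, rfl⟩
      · rintro ⟨y, hy, rfl⟩
        exact ⟨⟨y, hPV ⟨y, hy, rfl⟩⟩, hy, rfl⟩
    have hgp : IsPGroup p ↥((PG.map (MulAut.conj g).toMonoidHom).subgroupOf V) :=
      ((P.isPGroup'.map _).map _).of_equiv (Subgroup.subgroupOfEquivOfLe hgP).symm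
    obtain ⟨S2, hS2⟩ := hgp.exists_le_sylow
    obtain ⟨v, hv⟩ := MulAction.exists_smul_eq ↥V S1 S2
    -- `g P g⁻¹ = v P v⁻¹`
    have hvP : PG.map (MulAut.conj g).toMonoidHom = PG.map (MulAut.conj (v : G)).toMonoidHom := by
      refine Subgroup.eq_of_le_of_card_ge ?_ ?_
      · rintro y hy
        have h1 : (⟨y, hgP hy⟩ : ↥V) ∈ (S2 : Subgroup ↥V) := hS2 hy
        rw [← hv, Sylow.coe_subgroup_smul, Subgroup.mem_pointwise_smul_iff_inv_smul_mem] at h1
        have h2 : ((v⁻¹ * ⟨y, hgP hy⟩ * v : ↥V) : G) ∈ PG := by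
          rw [← hS1]
          refine ⟨v⁻¹ * ⟨y, hgP hy⟩ * v, ?_, rfl⟩
          simp [mul_assoc] at h1 ⊢; exact h1
        refine ⟨_, h2, ?_⟩
        simp [mul_assoc]
      · exact ((Subgroup.card_map_of_injective (MulAut.conj (v : G)).injective).trans
          (Subgroup.card_map_of_injective (MulAut.conj g).injective).symm).le
    have hv' : (v : G) ∈ ((pPrimeCore p G ⊔ PG : Subgroup G) : Set G) := v.2
    rw [coe_mul_of_right_le_normalizer_left _ _ le_normalizer_of_normal] at hv'
    obtain ⟨w, hw, x, hx, hwx⟩ := hv'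
    have hxP : PG.map (MulAut.conj x).toMonoidHom = PG :=
      mem_normalizer_iff_map_conj.mp (le_normalizer hx)
    have hn : w⁻¹ * g ∈ centralizer (PG : Set G) := by
      rw [mem_centralizer_iff]
      intro y hy
      have h1 : g * y * g⁻¹ ∈ PG.map (MulAut.conj (v : G)).toMonoidHom := hvP ▸ ⟨y, hy, rfl⟩
      obtain ⟨z, hz, hzy⟩ := h1
      simp only [MulEquiv.coe_toMonoidHom, MulAut.conj_apply] at hzy
      have hz' : x * z * x⁻¹ ∈ PG := hxP.le ⟨z, hz, rfl⟩
      -- `(w⁻¹ g) y (w⁻¹ g)⁻¹ y⁻¹ ∈ W ∩ P = 1`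
      have e1 : (w⁻¹ * g) * y * (w⁻¹ * g)⁻¹ = x * z * x⁻¹ := by
        calc (w⁻¹ * g) * y * (w⁻¹ * g)⁻¹ = w⁻¹ * (g * y * g⁻¹) * w := by group
          _ = w⁻¹ * ((v : G) * z * (v : G)⁻¹) * w := by rw [hzy]
          _ = x * z * x⁻¹ := by rw [← hwx]; group
      have hmem : (w⁻¹ * g) * y * (w⁻¹ * g)⁻¹ * y⁻¹ ∈ PG ⊓ pPrimeCore p G := by
        refine ⟨e1 ▸ PG.mul_mem hz' (PG.inv_mem hy), (QuotientGroup.eq_one_iff _).mp ?_⟩
        have hyq : q y ∈ pCore p (G ⧸ pPrimeCore p G) := by
          rw [← map_sylow_pPrimePCore p P]; exact Subgroup.mem_map_of_mem _ hy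
        have hwq : q w = 1 := (QuotientGroup.eq_one_iff w).mpr hw
        change q _ = 1
        simp only [map_mul, map_inv, hwq, inv_one, one_mul, mul_inv_rev]
        rw [← hg (q y) hyq]
        group
      rw [isPGroup_inf_pPrimeCore_eq_bot (P.isPGroup'.map _), Subgroup.mem_bot,
        mul_inv_eq_one, mul_inv_eq_iff_eq_mul] at hmem
      exact hmem.symm
    have : g = w * (w⁻¹ * g) := by group
    rw [this, sup_comm]
    exact mul_mem_sup hw hn
  · intro g hg
    rw [Subgroup.mem_comap, mem_centralizer_iff]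
    intro y hy
    rw [SetLike.mem_coe, ← map_sylow_pPrimePCore p P] at hy
    obtain ⟨x, hx, rfl⟩ := hy
    rw [← map_mul, ← map_mul, mem_centralizer_iff.mp hg x hx]
  · intro g hg
    rw [Subgroup.mem_comap, (QuotientGroup.eq_one_iff g).mpr hg |> fun h => (h : q g = 1)]
    exact one_mem _

/-- `p`-constraint means that the quotient by the `p'`-core has no component. -/
theorem isPConstrained_iff [Finite G] (p : ℕ) [hp : Fact p.Prime] :
    IsPConstrained p G ↔ pLayer p G = ⊥ := by
  rw [pLayer_eq_bot_iff, ← centralizer_fitting_le_iff,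
    fittingSubgroup_eq_pCore p (pPrimeCore_quotient_eq_bot p)]
  constructor
  · intro h
    obtain ⟨P⟩ : Nonempty (Sylow p ↥(pPrimePCore p G)) := inferInstance
    rw [← Subgroup.comap_le_comap_of_surjective (QuotientGroup.mk'_surjective (pPrimeCore p G)),
      comap_centralizer_pCore_quotient p P]
    exact sup_le (h P) (pPrimeCore_le_pPrimePCore p)
  · intro h P
    refine le_trans ?_ (Subgroup.comap_mono h :
      _ ≤ (pCore p (G ⧸ pPrimeCore p G)).comap (QuotientGroup.mk' (pPrimeCore p G)))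
    rw [comap_centralizer_pCore_quotient p P]
    exact le_sup_left

end Cfsg.Agent.Lib.Components
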