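import Cfsg.Prelude.Def_Balance
import Cfsg.Agent.Lib.Coprime.Generation
import Cfsg.Agent.Lib.Coprime.Action
/-!
# Elementary signalizer functor theory

Generation by centralizers of hyperplanes, the family of a signalizer functor, and the transitivity
theorem for maximal `q`-subgroups of the family.
-/

set_option autoImplicit false

namespace Cfsg.Agent.Lib.Components

open Subgroup

variable {G : Type*} [Group G] [Finite G] {p : ℕ} [hp : Fact p.Prime] {A : Subgroup G}

/-! ## Elementary abelian subgroups -/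

omit [Finite G] hp in
theorem elemAb_commute (hA : IsElementaryAbelian p A) {a b : G} (ha : a ∈ A) (hb : b ∈ A) :
    a * b = b * a :=
  congrArg Subtype.val (hA.1.is_comm.comm ⟨a, ha⟩ ⟨b, hb⟩)

omit [Finite G] hp in
theorem elemAb_mono (hA : IsElementaryAbelian p A) {B : Subgroup G} (hB : B ≤ A) :
    IsElementaryAbelian p B :=
  ⟨⟨⟨fun a b => Subtype.ext (elemAb_commute hA (hB a.2) (hB b.2))⟩⟩, fun a ha => hA.2 a (hB ha)⟩

omit [Finite G] hp in
theorem elemAb_isPGroup (hA : IsElementaryAbelian p A) : IsPGroup p ↥A :=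
  fun a => ⟨1, Subtype.ext (by simpa using hA.2 a a.2)⟩

omit [Finite G] in
theorem elemAb_orderOf (hA : IsElementaryAbelian p A) {a : G} (ha : a ∈ A) (ha1 : a ≠ 1) :
    orderOf a = p := orderOf_eq_prime_iff.mpr ⟨hA.2 a ha, ha1⟩

omit [Finite G] hp in
theorem elemAb_le_centralizer_singleton (hA : IsElementaryAbelian p A) {a : G} (ha : a ∈ A) :
    A ≤ centralizer ({a} : Set G) :=
  fun _ hb => mem_centralizer_singleton_iff.mpr (elemAb_commute hA hb ha)

omit [Finite G] in
theorem elemAb_card_le_of_isCyclic (hA : IsElementaryAbelian p A) (h : IsCyclic ↥A) :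
    Nat.card ↥A ≤ p := by
  obtain ⟨g, hg⟩ := IsCyclic.exists_generator (α := ↥A)
  rw [← orderOf_eq_card_of_forall_mem_zpowers hg]
  refine orderOf_le_of_pow_eq_one hp.out.pos (Subtype.ext ?_)
  simpa using hA.2 g g.2

omit [Finite G] in
theorem elemAb_not_isCyclic (hA : IsElementaryAbelian p A) (h2 : p ^ 2 ≤ Nat.card ↥A) :
    ¬ IsCyclic ↥A := fun h => by
  have h1 := h2.trans (elemAb_card_le_of_isCyclic hA h)
  have := hp.out.two_le
  nlinarith [h1]

theorem elemAb_ne_bot (hA : IsElementaryAbelian p A) (h2 : p ^ 2 ≤ Nat.card ↥A) : A ≠ ⊥ := by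
  rintro rfl
  rw [Subgroup.card_bot] at h2
  have := hp.out.two_le
  nlinarith

theorem coprime_card_of_not_dvd (hA : IsPGroup p ↥A) {K : Subgroup G} (hK : ¬ p ∣ Nat.card ↥K) :
    (Nat.card ↥A).Coprime (Nat.card ↥K) := by
  obtain ⟨n, hn⟩ := IsPGroup.iff_card.mp hA
  rw [hn]
  exact (hp.out.coprime_iff_not_dvd.mpr hK).pow_left n

/-- A subgroup of index bigger than `p` admits two independent elements outside it. -/
theorem exists_pair_not_mem (hA : IsElementaryAbelian p A) {D : Subgroup G} (hD : D ≤ A)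
    (h : p < D.relIndex A) :
    ∃ a ∈ A, ∃ b ∈ A, a ∉ D ∧ ∀ i j : ℤ, a ^ i * b ^ j ∈ D → (p : ℤ) ∣ i ∧ (p : ℤ) ∣ j := by
  have hne : ¬ A ≤ D := by
    intro hle
    rw [Subgroup.relIndex_eq_one.mpr hle] at h
    exact absurd h (not_lt.mpr hp.out.one_lt.le)
  obtain ⟨a, haA, haD⟩ := SetLike.not_le_iff_exists.mp hne
  set E := D ⊔ zpowers a with hE
  have hEA : E ≤ A := sup_le hD (zpowers_le.mpr haA)
  have hne2 : ¬ A ≤ E := by
    intro hle
    have hDn : D.relIndex E ≤ p := by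
      have hn : zpowers a ≤ normalizer (D : Set G) := by
        rw [zpowers_le, Subgroup.mem_normalizer_iff]
        intro x
        constructor
        · intro hx
          rwa [elemAb_commute hA haA (hD hx), mul_inv_cancel_right]
        · intro hx
          have hxA : x ∈ A := by
            have h1 := A.mul_mem (A.mul_mem (A.inv_mem haA) (hD hx)) haA
            simpa [mul_assoc] using h1
          rwa [elemAb_commute hA haA hxA, mul_inv_cancel_right] at hx
      rw [hE, Subgroup.relIndex]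
      have hc := Cfsg.Agent.Lib.Coprime.card_sup_mul_card_inf hn
      have hi := Cfsg.Agent.Lib.Coprime.relIndex_mul_card (le_sup_left : D ≤ D ⊔ zpowers a)
      have hz : Nat.card ↥(zpowers a) = p := by
        rw [Nat.card_zpowers, elemAb_orderOf hA haA (fun e => haD (e ▸ D.one_mem))]
      rw [hz, ← hi, mul_assoc] at hc
      have := Nat.eq_of_mul_eq_mul_left Nat.card_pos hc
      rw [← this]
      exact Nat.le_mul_of_pos_right _ Nat.card_pos
    rw [le_antisymm hEA hle] at hDn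
    exact absurd h (not_lt.mpr hDn)
  obtain ⟨b, hbA, hbE⟩ := SetLike.not_le_iff_exists.mp hne2
  refine ⟨a, haA, b, hbA, haD, fun i j hij => ?_⟩
  have key : ∀ (c : G) (S : Subgroup G), c ∈ A → c ∉ S → ∀ k : ℤ, c ^ k ∈ S → (p : ℤ) ∣ k := by
    intro c S hc hcS k hk
    by_contra hnd
    apply hcS
    obtain ⟨u, v, huv⟩ : IsCoprime (p : ℤ) k :=
      (Prime.coprime_iff_not_dvd (Nat.prime_iff_prime_int.mp hp.out)).mpr hnd
    have e : c = (c ^ k) ^ v := by
      calc c = c ^ (u * (p : ℤ) + v * k) := by rw [huv, zpow_one]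
        _ = (c ^ k) ^ v := by
          rw [zpow_add, mul_comm u, zpow_mul, zpow_natCast, hA.2 c hc, one_zpow, one_mul,
            mul_comm v, zpow_mul]
    rw [e]
    exact S.zpow_mem hk v
  have hj : (p : ℤ) ∣ j := key b E hbA hbE j (by
    have e : b ^ j = (a ^ i)⁻¹ * (a ^ i * b ^ j) := by group
    rw [e]
    exact E.mul_mem (E.inv_mem (E.zpow_mem (mem_sup_right (mem_zpowers a)) i)) (mem_sup_left hij))
  refine ⟨key a D haA haD i ?_, hj⟩
  obtain ⟨k, rfl⟩ := hj
  rwa [zpow_mul, zpow_natCast, hA.2 b hbA, one_zpow, mul_one] at hij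

/-! ## Generation by centralizers of hyperplanes -/

theorem centralizer_le_iSup_hyperplane (hA : IsElementaryAbelian p A) {K : Subgroup G}
    (hK : ¬ p ∣ Nat.card ↥K) (hAK : A ≤ normalizer (K : Set G)) {D : Subgroup G} (hD : D ≤ A) :
    K ⊓ centralizer (D : Set G) ≤
      ⨆ B : {B : Subgroup G // B ≤ A ∧ B.relIndex A ≤ p},
        K ⊓ centralizer ((B : Subgroup G) : Set G) := by
  induction hn : D.relIndex A using Nat.strong_induction_on generalizing D with
  | _ n ih =>
    subst hn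
    by_cases hle : D.relIndex A ≤ p
    · exact le_iSup_of_le (⟨D, hD, hle⟩ : {B : Subgroup G // B ≤ A ∧ B.relIndex A ≤ p}) le_rfl
    obtain ⟨a, ha, b, hb, haD, hind⟩ := exists_pair_not_mem hA hD (not_le.mp hle)
    set E := zpowers a ⊔ zpowers b with hE
    have hEA : E ≤ A := sup_le (zpowers_le.mpr ha) (zpowers_le.mpr hb)
    have : IsMulCommutative ↥E := (elemAb_mono hA hEA).1
    have hmemE : ∀ x ∈ E, ∃ i j : ℤ, x = a ^ i * b ^ j := by
      intro x hx
      obtain ⟨y, hy, z, hz, rfl⟩ :=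
        Cfsg.Agent.Lib.Coprime.exists_mul_of_mem_sup (N := zpowers a) (H := zpowers b) (by
          rw [zpowers_le]
          refine centralizer_le_normalizer _ ?_
          rw [mem_centralizer_iff]
          intro y hy
          exact elemAb_commute hA ((zpowers_le.mpr ha) hy) hb) hx
      obtain ⟨i, rfl⟩ := mem_zpowers_iff.mp hy
      obtain ⟨j, rfl⟩ := mem_zpowers_iff.mp hz
      exact ⟨i, j, rfl⟩
    have htriv : ∀ x ∈ E, x ∈ D → x = 1 := by
      intro x hx hxD
      obtain ⟨i, j, rfl⟩ := hmemE x hx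
      obtain ⟨⟨u, rfl⟩, v, rfl⟩ := hind i j hxD
      simp [zpow_mul, hA.2 a ha, hA.2 b hb]
    have hcyc : ¬ IsCyclic ↥E := by
      intro hc
      have hcard := elemAb_card_le_of_isCyclic (elemAb_mono hA hEA) hc
      have hza : Nat.card ↥(zpowers a) = p := by
        rw [Nat.card_zpowers, elemAb_orderOf hA ha (fun e => haD (e ▸ D.one_mem))]
      have hEa : zpowers a = E := Subgroup.eq_of_le_of_card_ge le_sup_left (hza ▸ hcard)
      have hbz : b ∈ zpowers a := hEa ▸ (mem_sup_right (mem_zpowers b) : b ∈ E)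
      obtain ⟨k, hk⟩ := mem_zpowers_iff.mp hbz
      obtain ⟨-, h1⟩ := hind k (-1) (by rw [← hk]; simp)
      have h2 := Int.le_of_dvd one_pos ((Int.dvd_neg).mp h1)
      have := hp.out.two_le
      omega
    set K₀ := K ⊓ centralizer (D : Set G) with hK₀
    have hEK : E ≤ normalizer (K₀ : Set G) := by
      intro e he
      have heC : e ∈ centralizer (D : Set G) := mem_centralizer_iff.mpr fun d hd =>
        elemAb_commute hA (hD hd) (hEA he)
      rw [Subgroup.mem_normalizer_iff]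
      intro x
      constructor
      · intro hx
        exact ⟨(Subgroup.mem_normalizer_iff.mp (hAK (hEA he)) x).mp hx.1,
          (centralizer (D : Set G)).mul_mem ((centralizer (D : Set G)).mul_mem heC hx.2)
            ((centralizer (D : Set G)).inv_mem heC)⟩
      · intro hx
        refine ⟨(Subgroup.mem_normalizer_iff.mp (hAK (hEA he)) x).mpr hx.1, ?_⟩
        have e1 : x = e⁻¹ * (e * x * e⁻¹) * e := by group
        rw [e1]
        exact (centralizer (D : Set G)).mul_mem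
          ((centralizer (D : Set G)).mul_mem ((centralizer (D : Set G)).inv_mem heC) hx.2) heC
    have hgen := Cfsg.Agent.Lib.Coprime.iSup_centralizer_eq hcyc hEK
      (coprime_card_of_not_dvd (elemAb_isPGroup (elemAb_mono hA hEA))
        (fun h => hK (h.trans (card_dvd_of_le inf_le_left))))
    rw [← hgen]
    refine iSup₂_le fun c hc => ?_
    obtain ⟨hcE, hc1⟩ := hc
    have hlt : D < D ⊔ zpowers c :=
      lt_of_le_of_ne le_sup_left fun e => hc1 (htriv c hcE (e ▸ mem_sup_right (mem_zpowers c)))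
    have hD' : D ⊔ zpowers c ≤ A := sup_le hD (zpowers_le.mpr (hEA hcE))
    refine le_trans ?_ (ih _ ?_ hD' rfl)
    · intro x hx
      refine ⟨hx.1.1, ?_⟩
      have hle2 : D ⊔ zpowers c ≤ centralizer ({x} : Set G) := by
        refine sup_le (fun d hd => ?_) (zpowers_le.mpr ?_)
        · exact mem_centralizer_singleton_iff.mpr (mem_centralizer_iff.mp hx.1.2 d hd)
        · exact mem_centralizer_singleton_iff.mpr (mem_centralizer_singleton_iff.mp hx.2).symm
      exact mem_centralizer_iff.mpr fun y hy => mem_centralizer_singleton_iff.mp (hle2 hy)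
    · have h1 := Cfsg.Agent.Lib.Coprime.relIndex_mul_card hD
      have h2 := Cfsg.Agent.Lib.Coprime.relIndex_mul_card hD'
      have h3 : Nat.card ↥D < Nat.card ↥(D ⊔ zpowers c) := by
        refine lt_of_not_ge fun hge => hlt.ne (Subgroup.eq_of_le_of_card_ge hlt.le hge)
      by_contra hge
      rw [not_lt] at hge
      have h4 : 0 < D.relIndex A := Nat.pos_of_ne_zero fun e => by simp [e] at hle
      nlinarith

/-- A coprimely acted group is generated by centralizers of hyperplanes. -/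
theorem eq_iSup_hyperplane (hA : IsElementaryAbelian p A) {K : Subgroup G}
    (hK : ¬ p ∣ Nat.card ↥K) (hAK : A ≤ normalizer (K : Set G)) :
    K = ⨆ B : {B : Subgroup G // B ≤ A ∧ B.relIndex A ≤ p},
        K ⊓ centralizer ((B : Subgroup G) : Set G) := by
  refine le_antisymm ?_ (iSup_le fun B => inf_le_left)
  refine le_trans ?_ (centralizer_le_iSup_hyperplane hA hK hAK bot_le)
  refine le_inf le_rfl fun x _ => ?_
  rw [mem_centralizer_iff]
  intro y hy
  rw [Subgroup.coe_bot, Set.mem_singleton_iff] at hy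
  simp [hy]

omit [Finite G] in
theorem centralizer_singleton_of_le {B : Subgroup G} {b : G} (hb : b ∈ B) :
    centralizer (B : Set G) ≤ centralizer ({b} : Set G) :=
  centralizer_le (Set.singleton_subset_iff.mpr hb)

/-- The intersection of two hyperplanes of a group of rank at least three is not trivial. -/
theorem exists_ne_one_mem_inf (hA : IsElementaryAbelian p A) (hA3 : p ^ 3 ≤ Nat.card ↥A)
    {B C : Subgroup G} (hB : B ≤ A) (hC : C ≤ A) (hBi : B.relIndex A ≤ p)
    (hCi : C.relIndex A ≤ p) : ∃ a ∈ B ⊓ C, a ≠ 1 := by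
  refine (Subgroup.bot_or_exists_ne_one _).resolve_left fun h => ?_
  have h1 := Cfsg.Agent.Lib.Coprime.relIndex_mul_card hB
  have h2 := Cfsg.Agent.Lib.Coprime.relIndex_mul_card hC
  have hn : C ≤ normalizer (B : Set G) :=
    (fun c hc => centralizer_le_normalizer _ (mem_centralizer_iff.mpr fun b hb =>
      elemAb_commute hA (hB hb) (hC hc)))
  have h3 := Cfsg.Agent.Lib.Coprime.card_sup_mul_card_inf hn
  rw [h, Subgroup.card_bot, mul_one] at h3
  have h4 : Nat.card ↥(B ⊔ C) ≤ Nat.card ↥A :=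
    Nat.le_of_dvd Nat.card_pos (card_dvd_of_le (sup_le hB hC))
  have h5 : Nat.card ↥A ≤ Nat.card ↥B * p := h1 ▸ Nat.mul_le_mul_left _ hBi
  have h6 : Nat.card ↥A ≤ Nat.card ↥C * p := h2 ▸ Nat.mul_le_mul_left _ hCi
  have h7 : Nat.card ↥A * Nat.card ↥A ≤ Nat.card ↥A * (p * p) := by
    calc Nat.card ↥A * Nat.card ↥A ≤ (Nat.card ↥B * p) * (Nat.card ↥C * p) := Nat.mul_le_mul h5 h6
      _ = Nat.card ↥(B ⊔ C) * (p * p) := by rw [h3]; ring
      _ ≤ Nat.card ↥A * (p * p) := Nat.mul_le_mul_right _ h4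
  have h8 := Nat.le_of_mul_le_mul_left h7 Nat.card_pos
  have h9 := hp.out.two_le
  nlinarith [hA3]

/-- Some hyperplane exists. -/
theorem exists_hyperplane_ge (hA : IsElementaryAbelian p A) {D : Subgroup G} (hD : D ≤ A)
    (hne : D ≠ A) : ∃ B : Subgroup G, D ≤ B ∧ B ≤ A ∧ B.relIndex A = p := by
  have hp' := elemAb_isPGroup hA
  obtain ⟨m, hm⟩ := IsPGroup.iff_card.mp hp'
  obtain ⟨k, hk⟩ := IsPGroup.iff_card.mp (elemAb_isPGroup (elemAb_mono hA hD))
  have hkm : k < m := by
    by_contra hge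
    exact hne (Subgroup.eq_of_le_of_card_ge hD
      (by rw [hm, hk]; exact Nat.pow_le_pow_right hp.out.pos (not_lt.mp hge)))
  obtain ⟨B, hB, hDB⟩ := Sylow.exists_subgroup_card_pow_prime_le p
    (G := ↥A) (n := k) (m := m - 1) (by rw [hm]; exact pow_dvd_pow p (Nat.sub_le m 1))
    (D.subgroupOf A) (by rw [Nat.card_congr (subgroupOfEquivOfLe hD).toEquiv, hk]) (by omega)
  refine ⟨B.map A.subtype, fun x hx => ⟨⟨x, hD hx⟩, hDB hx, rfl⟩, map_subtype_le _, ?_⟩
  rw [Subgroup.relIndex, subgroupOf, comap_map_eq_self_of_injective A.subtype_injective]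
  have := B.card_mul_index
  rw [hB, hm, show m = m - 1 + 1 by omega, pow_succ] at this
  simpa using Nat.eq_of_mul_eq_mul_left (pow_pos hp.out.pos _) this

/-! ## The family of a signalizer functor -/

section Family

variable {θ : G → Subgroup G} (hA : IsElementaryAbelian p A)
  (hθ : IsSolvableSignalizerFunctor p A θ)

omit [Finite G] hp in
theorem family_normalizer {X : Subgroup G} (hX : X ∈ signalizerFamily p A θ) :
    A ≤ normalizer (X : Set G) := by
  intro b hb
  rw [Subgroup.mem_normalizer_iff]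
  intro x
  refine ⟨hX.2.2.1 b hb x, fun h => ?_⟩
  have := hX.2.2.1 b⁻¹ (A.inv_mem hb) _ h
  simpa [mul_assoc] using this

omit hp in
theorem mem_family_of_le {X Y : Subgroup G} (hX : X ∈ signalizerFamily p A θ) (hY : Y ≤ X)
    (hAY : A ≤ normalizer (Y : Set G)) : Y ∈ signalizerFamily p A θ := by
  obtain ⟨h1, h2, h3, h4⟩ := hX
  refine ⟨have := h1; Group.isSolvable_of_isSolvable_injective (inclusion_injective hY), fun h =>
    h2 (h.trans (card_dvd_of_le hY)), fun b hb y hy => ?_, fun a ha ha1 =>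
      (inf_le_inf_right _ hY).trans (h4 a ha ha1)⟩
  exact (Subgroup.mem_normalizer_iff.mp (hAY hb) y).mp hy

omit [Finite G] hp in
include hθ in
theorem theta_mem_family {a : G} (ha : a ∈ A) (ha1 : a ≠ 1) :
    θ a ∈ signalizerFamily p A θ :=
  ⟨hθ.2 a ha ha1, hθ.1.2.1 a ha ha1, hθ.1.2.2.1 a ha ha1, fun b hb hb1 =>
    hθ.1.2.2.2 a ha ha1 b hb hb1⟩

omit [Finite G] hp in
theorem mem_signalizerInf {B : Subgroup G} {x : G} :
    x ∈ signalizerInf B θ ↔ ∀ b ∈ B, b ≠ 1 → x ∈ θ b := by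
  rw [signalizerInf, Subgroup.mem_iInf]
  exact ⟨fun h b hb hb1 => h ⟨b, hb, hb1⟩, fun h b => h b b.2.1 b.2.2⟩

omit [Finite G] hp in
theorem family_inf_centralizer_le {X B : Subgroup G} (hX : X ∈ signalizerFamily p A θ)
    (hB : B ≤ A) : X ⊓ centralizer (B : Set G) ≤ signalizerInf B θ := fun _ hx =>
  mem_signalizerInf.mpr fun b hb hb1 =>
    hX.2.2.2 b (hB hb) hb1 ⟨hx.1, centralizer_singleton_of_le hb hx.2⟩

omit [Finite G] hp in
include hθ in
theorem signalizerInf_le_centralizer {B : Subgroup G} (hB : B ≤ A) :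
    signalizerInf B θ ≤ centralizer (B : Set G) := by
  intro x hx
  rw [mem_centralizer_iff]
  intro b hb
  rcases eq_or_ne b 1 with rfl | hb1
  · simp
  · exact (mem_centralizer_singleton_iff.mp
      (hθ.1.1 b (hB hb) hb1 (mem_signalizerInf.mp hx b hb hb1))).symm

omit hp in
include hθ in
theorem signalizerInf_mem_family {B : Subgroup G} (hB : B ≤ A) (hne : B ≠ ⊥) :
    signalizerInf B θ ∈ signalizerFamily p A θ := by
  obtain ⟨b, hb, hb1⟩ := (Subgroup.bot_or_exists_ne_one B).resolve_left hne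
  refine mem_family_of_le (theta_mem_family hθ (hB hb) hb1)
    (fun x hx => mem_signalizerInf.mp hx b hb hb1) fun a ha => ?_
  rw [Subgroup.mem_normalizer_iff]
  intro x
  simp only [mem_signalizerInf]
  exact forall_congr' fun c => forall_congr' fun hc => forall_congr' fun hc1 =>
    Subgroup.mem_normalizer_iff.mp (family_normalizer (theta_mem_family hθ (hB hc) hc1) ha) x

include hA hθ in
/-- Fixed points in a product of an invariant member and a member normalizing it. -/
theorem sup_mem_family {X Y : Subgroup G} (hX : X ∈ signalizerFamily p A θ)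
    (hY : Y ∈ signalizerFamily p A θ) (hn : Y ≤ normalizer (X : Set G)) :
    X ⊔ Y ∈ signalizerFamily p A θ := by
  refine ⟨?_, ?_, ?_, fun a ha ha1 => ?_⟩
  · have hXn : (X.subgroupOf (X ⊔ Y)).Normal :=
      normal_subgroupOf_of_le_normalizer (sup_le le_normalizer hn)
    have hXs := hX.1
    have hYs := hY.1
    have h1 : Group.IsSolvable ↥(X.subgroupOf (X ⊔ Y)) :=
      Group.isSolvable_of_isSolvable_injective
        (f := (subgroupOfEquivOfLe (le_sup_left : X ≤ X ⊔ Y)).toMonoidHom) (MulEquiv.injective _)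
    let f : ↥Y →* ↥(X ⊔ Y) ⧸ X.subgroupOf (X ⊔ Y) :=
      (QuotientGroup.mk' _).comp (inclusion le_sup_right)
    have hf : Function.Surjective f := by
      intro q
      obtain ⟨⟨g, hg⟩, rfl⟩ := QuotientGroup.mk'_surjective _ q
      obtain ⟨x, hx, y, hy, rfl⟩ := Cfsg.Agent.Lib.Coprime.exists_mul_of_mem_sup hn hg
      refine ⟨⟨y, hy⟩, (QuotientGroup.eq.mpr ?_)⟩
      rw [mem_subgroupOf]
      simp only [Subgroup.coe_mul, Subgroup.coe_inv, Subgroup.coe_inclusion]
      have hy' : y⁻¹ ∈ normalizer (X : Set G) := inv_mem (hn hy)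
      have := (Subgroup.mem_normalizer_iff.mp hy' x).mp hx
      simpa [mul_assoc] using this
    have h2 : Group.IsSolvable (↥(X ⊔ Y) ⧸ X.subgroupOf (X ⊔ Y)) :=
      Group.isSolvable_of_surjective hf
    refine Group.isSolvable_of_ker_le_range (G' := ↥(X.subgroupOf (X ⊔ Y)))
      (G'' := ↥(X ⊔ Y) ⧸ X.subgroupOf (X ⊔ Y)) (X.subgroupOf (X ⊔ Y)).subtype
      (QuotientGroup.mk' _) ?_
    rw [QuotientGroup.ker_mk', range_subtype]
  · intro hd
    have h1 := Cfsg.Agent.Lib.Coprime.card_sup_mul_card_inf hn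
    rcases hp.out.dvd_mul.mp (dvd_trans hd ⟨_, h1.symm⟩) with h | h
    · exact hX.2.1 h
    · exact hY.2.1 h
  · intro b hb g hg
    obtain ⟨x, hx, y, hy, rfl⟩ := Cfsg.Agent.Lib.Coprime.exists_mul_of_mem_sup hn hg
    have e : b * (x * y) * b⁻¹ = (b * x * b⁻¹) * (b * y * b⁻¹) := by group
    rw [e]
    exact mul_mem_sup (hX.2.2.1 b hb x hx) (hY.2.2.1 b hb y hy)
  · rintro g ⟨hg, hga⟩
    obtain ⟨x, hx, y, hy, rfl⟩ := Cfsg.Agent.Lib.Coprime.exists_mul_of_mem_sup hn hg
    have hga' : x * y * a = a * (x * y) := mem_centralizer_singleton_iff.mp hga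
    have hnD : Y ≤ normalizer ((X ⊓ Y : Subgroup G) : Set G) := fun w hw => by
      rw [Subgroup.mem_normalizer_iff]
      intro z
      exact and_congr (Subgroup.mem_normalizer_iff.mp (hn hw) z)
        (Subgroup.mem_normalizer_iff.mp (le_normalizer hw) z)
    have haD : zpowers a ≤ normalizer ((X ⊓ Y : Subgroup G) : Set G) := zpowers_le.mpr (by
      rw [Subgroup.mem_normalizer_iff]
      intro z
      exact and_congr (Subgroup.mem_normalizer_iff.mp (family_normalizer hX ha) z)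
        (Subgroup.mem_normalizer_iff.mp (family_normalizer hY ha) z))
    have hfix : a * y * a⁻¹ * y⁻¹ ∈ X ⊓ Y := by
      refine ⟨?_, Y.mul_mem (hY.2.2.1 a ha y hy) (Y.inv_mem hy)⟩
      have e : a * y * a⁻¹ * y⁻¹ = (a * x * a⁻¹)⁻¹ * x := by
        calc a * y * a⁻¹ * y⁻¹ = a * x⁻¹ * (x * y) * a⁻¹ * y⁻¹ := by group
          _ = (a * x * a⁻¹)⁻¹ * (a * (x * y)) * a⁻¹ * y⁻¹ := by group
          _ = (a * x * a⁻¹)⁻¹ * (x * y * a) * a⁻¹ * y⁻¹ := by rw [hga']
          _ = (a * x * a⁻¹)⁻¹ * x := by group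
      rw [e]
      exact X.mul_mem (X.inv_mem (hX.2.2.1 a ha x hx)) hx
    have hall : ∀ c ∈ zpowers a, c * y * c⁻¹ * y⁻¹ ∈ X ⊓ Y := by
      intro c hc
      let S : Subgroup G :=
        { carrier := {c | c ∈ normalizer ((X ⊓ Y : Subgroup G) : Set G) ∧ c * y * c⁻¹ * y⁻¹ ∈ X ⊓ Y}
          one_mem' := ⟨one_mem _, by simp⟩
          mul_mem' := fun {c d} hc hd => ⟨mul_mem hc.1 hd.1, by
            have e : c * d * y * (c * d)⁻¹ * y⁻¹ =
                c * (d * y * d⁻¹ * y⁻¹) * c⁻¹ * (c * y * c⁻¹ * y⁻¹) := by group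
            rw [e]
            exact mul_mem ((Subgroup.mem_normalizer_iff.mp hc.1 _).mp hd.2) hc.2⟩
          inv_mem' := fun {c} hc => ⟨inv_mem hc.1, by
            have h1 := inv_mem ((Subgroup.mem_normalizer_iff.mp (inv_mem hc.1) _).mp hc.2)
            have e : c⁻¹ * y * c⁻¹⁻¹ * y⁻¹ =
                (c⁻¹ * (c * y * c⁻¹ * y⁻¹) * c⁻¹⁻¹)⁻¹ := by group
            rw [e]; exact h1⟩ }
      have : zpowers a ≤ S := zpowers_le.mpr ⟨haD (mem_zpowers a), hfix⟩
      exact (this hc).2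
    obtain ⟨n, hn', hyn⟩ := Cfsg.Agent.Lib.Coprime.exists_mem_centralizer_of_fixed_coset
      (A := zpowers a) (N := X ⊓ Y) haD
      (coprime_card_of_not_dvd ((elemAb_isPGroup hA).to_le (zpowers_le.mpr ha))
        (fun h => hX.2.1 (h.trans (card_dvd_of_le inf_le_left))))
      (Or.inl (Cfsg.Agent.Lib.Coprime.isSolvable_zpowers a)) (hnD hy) hall
    have hyn' : y * n ∈ centralizer ({a} : Set G) :=
      mem_centralizer_singleton_iff.mpr (mem_centralizer_iff.mp hyn a (mem_zpowers a)).symm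
    have e : x * y = (x * (y * n⁻¹ * y⁻¹)) * (y * n) := by group
    rw [e] at hga ⊢
    refine (θ a).mul_mem (hX.2.2.2 a ha ha1 ⟨X.mul_mem hx ?_, ?_⟩)
      (hY.2.2.2 a ha ha1 ⟨Y.mul_mem hy hn'.2, hyn'⟩)
    · exact ((Subgroup.mem_normalizer_iff.mp (hn hy) _).mp (X.inv_mem hn'.1))
    · have h2 := (centralizer ({a} : Set G)).mul_mem hga ((centralizer ({a} : Set G)).inv_mem hyn')
      simpa [mul_assoc] using h2

include hA in
/-- A member is generated by its intersections with the `θ(C(D))`, `D` running over hyperplanes. -/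
theorem family_eq_iSup {X B : Subgroup G} (hX : X ∈ signalizerFamily p A θ) (hB : B ≤ A)
    (hB2 : p ^ 2 ≤ Nat.card ↥B) :
    X = ⨆ D : {D : Subgroup G // D ≤ B ∧ D.relIndex B = p}, X ⊓ signalizerInf (D : Subgroup G) θ := by
  refine le_antisymm ?_ (iSup_le fun D => inf_le_left)
  conv_lhs => rw [eq_iSup_hyperplane (elemAb_mono hA hB) hX.2.1
    (hB.trans (family_normalizer hX))]
  refine iSup_le fun D => ?_
  obtain ⟨D, hD, hDi⟩ := D
  obtain ⟨D', hDD', hD'⟩ : ∃ D', D' ≤ D ∧ D' ≤ B ∧ D'.relIndex B = p := by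
    rcases eq_or_ne D B with rfl | hne
    · obtain ⟨C, -, hC, hCi⟩ := exists_hyperplane_ge (elemAb_mono hA hB) (bot_le : ⊥ ≤ D) (by
        intro e
        rw [← e, Subgroup.card_bot] at hB2
        have := hp.out.two_le
        nlinarith)
      exact ⟨C, hC, hC, hCi⟩
    · refine ⟨D, le_rfl, hD, ?_⟩
      have hdvd : D.relIndex B ∣ Nat.card ↥B := by
        rw [← Cfsg.Agent.Lib.Coprime.relIndex_mul_card hD]; exact dvd_mul_left _ _
      obtain ⟨n, hn⟩ := IsPGroup.iff_card.mp (elemAb_isPGroup (elemAb_mono hA hB))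
      rw [hn] at hdvd
      obtain ⟨i, -, hi⟩ := (Nat.dvd_prime_pow hp.out).mp hdvd
      rw [hi] at hDi ⊢
      rcases i with _ | _ | i
      · rw [pow_zero] at hi
        exact absurd (le_antisymm hD (Subgroup.relIndex_eq_one.mp hi)) hne
      · simp
      · exfalso
        have h9 : p ^ 2 ≤ p ^ (i + 1 + 1) := Nat.pow_le_pow_right hp.out.pos (by omega)
        have := hp.out.two_le
        nlinarith
  exact le_iSup_of_le (⟨D', hD'⟩ : {D : Subgroup G // D ≤ B ∧ D.relIndex B = p})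
    (le_inf inf_le_left ((inf_le_inf_left X (centralizer_le hDD')).trans
      (family_inf_centralizer_le hX (hD'.1.trans hB))))

include hθ in
/-- Conjugation by an element of `θ(C(A))` preserves the family. -/
theorem conj_mem_family {X : Subgroup G} (hX : X ∈ signalizerFamily p A θ) {c : G}
    (hc : c ∈ signalizerInf A θ) : X.map (MulAut.conj c).toMonoidHom ∈ signalizerFamily p A θ := by
  have hcA := signalizerInf_le_centralizer hθ le_rfl hc
  refine ⟨?_, ?_, ?_, fun a ha ha1 => ?_⟩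
  · have := hX.1
    exact Group.isSolvable_of_surjective (MonoidHom.subgroupMap_surjective (MulAut.conj c).toMonoidHom X)
  · rw [card_map_of_injective (MulAut.conj c).injective]; exact hX.2.1
  · rintro b hb _ ⟨x, hx, rfl⟩
    refine ⟨b * x * b⁻¹, hX.2.2.1 b hb x hx, ?_⟩
    have hbc : b * c = c * b := mem_centralizer_iff.mp hcA b hb
    simp only [MulEquiv.coe_toMonoidHom, MulAut.conj_apply]
    calc c * (b * x * b⁻¹) * c⁻¹ = (c * b) * x * (c * b)⁻¹ := by group
      _ = (b * c) * x * (b * c)⁻¹ := by rw [hbc]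
      _ = b * (c * x * c⁻¹) * b⁻¹ := by group
  · rintro _ ⟨⟨x, hx, rfl⟩, hxa⟩
    simp only [MulEquiv.coe_toMonoidHom, MulAut.conj_apply] at hxa ⊢
    have hca : c ∈ centralizer ({a} : Set G) := centralizer_singleton_of_le ha hcA
    have hxa' : x ∈ centralizer ({a} : Set G) := by
      have := mul_mem (mul_mem (inv_mem hca) hxa) hca
      simpa [mul_assoc] using this
    have hcθ := mem_signalizerInf.mp hc a ha ha1
    exact mul_mem (mul_mem hcθ (hX.2.2.2 a ha ha1 ⟨hx, hxa'⟩)) (inv_mem hcθ)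

/-! ## Maximal `q`-subgroups of the family -/

/-- `Q` is maximal among the `q`-subgroups of the family. -/
def IsMaxSignalizer (p : ℕ) (A : Subgroup G) (θ : G → Subgroup G) (q : ℕ) (Q : Subgroup G) : Prop :=
  Q ∈ signalizerFamily p A θ ∧ IsPGroup q ↥Q ∧
    ∀ R ∈ signalizerFamily p A θ, IsPGroup q ↥R → Q ≤ R → R = Q

omit hp in
theorem exists_isMaxSignalizer_ge {q : ℕ} {R : Subgroup G} (hR : R ∈ signalizerFamily p A θ)
    (hRq : IsPGroup q ↥R) : ∃ Q, R ≤ Q ∧ IsMaxSignalizer p A θ q Q := by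
  obtain ⟨Q, hle, hmax⟩ :=
    (Set.toFinite {S : Subgroup G | S ∈ signalizerFamily p A θ ∧ IsPGroup q ↥S}).exists_le_maximal
      ⟨hR, hRq⟩
  exact ⟨Q, hle, hmax.1.1, hmax.1.2, fun S hS hSq hQS => hmax.eq_of_ge ⟨hS, hSq⟩ hQS⟩

include hθ in
theorem IsMaxSignalizer.conj {q : ℕ} {Q : Subgroup G} (hQ : IsMaxSignalizer p A θ q Q) {c : G}
    (hc : c ∈ signalizerInf A θ) :
    IsMaxSignalizer p A θ q (Q.map (MulAut.conj c).toMonoidHom) := by
  refine ⟨conj_mem_family hθ hQ.1 hc, hQ.2.1.map _, fun R hR hRq hle => ?_⟩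
  have h1 : R.map (MulAut.conj c⁻¹).toMonoidHom = Q := by
    refine hQ.2.2 _ (conj_mem_family hθ hR (inv_mem hc)) (hRq.map _) fun x hx => ?_
    exact ⟨c * x * c⁻¹, hle ⟨x, hx, rfl⟩, by simp [mul_assoc]⟩
  rw [← h1, map_map]
  convert (map_id R).symm
  ext x
  simp [mul_assoc]

include hA hθ in
/-- The transitivity theorem. -/
theorem exists_conj_eq_of_isMaxSignalizer (hA3 : p ^ 3 ≤ Nat.card ↥A) {q : ℕ} [hq : Fact q.Prime]
    {Q₁ Q₂ : Subgroup G} (h₁ : IsMaxSignalizer p A θ q Q₁) (h₂ : IsMaxSignalizer p A θ q Q₂) :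
    ∃ c ∈ signalizerInf A θ, Q₁.map (MulAut.conj c).toMonoidHom = Q₂ := by
  induction hn : Nat.card G - Nat.card ↥(Q₁ ⊓ Q₂) using Nat.strong_induction_on
    generalizing Q₁ Q₂ with
  | _ n ih =>
    subst hn
    set D := Q₁ ⊓ Q₂ with hD
    by_cases e₁ : D = Q₁
    · refine ⟨1, one_mem _, ?_⟩
      rw [h₁.2.2 Q₂ h₂.1 h₂.2.1 (e₁ ▸ inf_le_right)]
      convert map_id Q₁
      ext x; simp
    by_cases e₂ : D = Q₂
    · refine ⟨1, one_mem _, ?_⟩
      rw [h₂.2.2 Q₁ h₁.1 h₁.2.1 (e₂ ▸ inf_le_left)]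
      convert map_id Q₂
      ext x; simp
    have hAD : A ≤ normalizer (D : Set G) := fun b hb => by
      rw [Subgroup.mem_normalizer_iff]
      intro z
      exact and_congr (Subgroup.mem_normalizer_iff.mp (family_normalizer h₁.1 hb) z)
        (Subgroup.mem_normalizer_iff.mp (family_normalizer h₂.1 hb) z)
    -- hyperplanes moving the normalizers out of `D`
    have step : ∀ Q : Subgroup G, IsMaxSignalizer p A θ q Q → D ≤ Q → D ≠ Q →
        ∃ B : Subgroup G, B ≤ A ∧ B.relIndex A ≤ p ∧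
          ¬ normalizer (D : Set G) ⊓ Q ⊓ centralizer (B : Set G) ≤ D := by
      intro Q hQ hDQ hne
      set N := normalizer (D : Set G) ⊓ Q with hN
      have := hQ.2.1.isNilpotent
      have hlt : D.subgroupOf Q < ⊤ := by
        rw [lt_top_iff_ne_top, Ne, subgroupOf_eq_top]
        exact fun h => hne (le_antisymm hDQ h)
      obtain ⟨y, hy, hyD⟩ := SetLike.exists_of_lt (Group.normalizerCondition_of_isNilpotent _ hlt)
      have hyN : (y : G) ∈ N := by
        refine ⟨?_, y.2⟩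
        change (y : G) ∈ normalizer (D : Set G)
        rw [Subgroup.mem_normalizer_iff]
        intro z
        constructor
        · intro hz
          exact (Subgroup.mem_normalizer_iff.mp hy ⟨z, hDQ hz⟩).mp hz
        · intro hz
          have hzQ : z ∈ Q := by
            have h1 := Q.mul_mem (Q.mul_mem (Q.inv_mem y.2) (hDQ hz)) y.2
            simpa [mul_assoc] using h1
          exact (Subgroup.mem_normalizer_iff.mp hy ⟨z, hzQ⟩).mpr hz
      by_contra hcon
      simp only [not_exists, not_and, not_not] at hcon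
      have hAN : A ≤ normalizer (N : Set G) := fun b hb => by
        rw [Subgroup.mem_normalizer_iff]
        intro z
        refine and_congr ?_ (Subgroup.mem_normalizer_iff.mp (family_normalizer hQ.1 hb) z)
        have hbD := hAD hb
        exact Subgroup.mem_normalizer_iff.mp (le_normalizer (H := normalizer (D : Set G)) hbD) z
      have hle : N ≤ D := by
        rw [eq_iSup_hyperplane hA (K := N)
          (fun h => hQ.1.2.1 (h.trans (card_dvd_of_le (inf_le_right : N ≤ Q)))) hAN]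
        exact iSup_le fun B => hcon B B.2.1 B.2.2
      exact hyD (hle hyN)
    obtain ⟨B₁, hB₁, hB₁i, hB₁D⟩ := step Q₁ h₁ inf_le_left e₁
    obtain ⟨B₂, hB₂, hB₂i, hB₂D⟩ := step Q₂ h₂ inf_le_right e₂
    obtain ⟨a, ⟨ha₁, ha₂⟩, ha1⟩ := exists_ne_one_mem_inf hA hA3 hB₁ hB₂ hB₁i hB₂i
    have haA : a ∈ A := hB₁ ha₁
    set U₁ := normalizer (D : Set G) ⊓ Q₁ ⊓ centralizer ({a} : Set G) with hU₁
    set U₂ := normalizer (D : Set G) ⊓ Q₂ ⊓ centralizer ({a} : Set G) with hU₂
    have hnU : ∀ Q : Subgroup G, IsMaxSignalizer p A θ q Q →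
        A ≤ normalizer ((normalizer (D : Set G) ⊓ Q ⊓ centralizer ({a} : Set G) : Subgroup G) :
          Set G) := fun Q hQ b hb => by
      rw [Subgroup.mem_normalizer_iff]
      intro z
      refine and_congr (and_congr ?_
        (Subgroup.mem_normalizer_iff.mp (family_normalizer hQ.1 hb) z)) ?_
      · exact Subgroup.mem_normalizer_iff.mp (le_normalizer (H := normalizer (D : Set G)) (hAD hb)) z
      · exact Subgroup.mem_normalizer_iff.mp
          (le_normalizer (H := centralizer ({a} : Set G)) (elemAb_le_centralizer_singleton hA haA hb)) z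
    set N := normalizer (D : Set G) ⊓ θ a with hN
    have hAN : A ≤ normalizer (N : Set G) := fun b hb => by
      rw [Subgroup.mem_normalizer_iff]
      intro z
      refine and_congr ?_
        (Subgroup.mem_normalizer_iff.mp (family_normalizer (theta_mem_family hθ haA ha1) hb) z)
      exact Subgroup.mem_normalizer_iff.mp (le_normalizer (H := normalizer (D : Set G)) (hAD hb)) z
    have hNmem : N ∈ signalizerFamily p A θ :=
      mem_family_of_le (theta_mem_family hθ haA ha1) inf_le_right hAN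
    have hUN : ∀ Q : Subgroup G, IsMaxSignalizer p A θ q Q →
        normalizer (D : Set G) ⊓ Q ⊓ centralizer ({a} : Set G) ≤ N := fun Q hQ x hx =>
      ⟨hx.1.1, hQ.1.2.2.2 a haA ha1 ⟨hx.1.2, hx.2⟩⟩
    have hcop := coprime_card_of_not_dvd (elemAb_isPGroup hA) hNmem.2.1
    obtain ⟨S₁, hS₁U, hS₁A⟩ := Cfsg.Agent.Lib.Coprime.exists_invariant_sylow_ge hAN hcop
      (Or.inr hNmem.1) q U₁ (hUN Q₁ h₁) (h₁.2.1.to_le (inf_le_left.trans inf_le_right)) (hnU Q₁ h₁)
    obtain ⟨S₂, hS₂U, hS₂A⟩ := Cfsg.Agent.Lib.Coprime.exists_invariant_sylow_ge hAN hcop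
      (Or.inr hNmem.1) q U₂ (hUN Q₂ h₂) (h₂.2.1.to_le (inf_le_left.trans inf_le_right)) (hnU Q₂ h₂)
    obtain ⟨c, hcC, hcS⟩ := Cfsg.Agent.Lib.Coprime.exists_centralizer_conj_sylow hAN hcop
      (Or.inr hNmem.1) S₁ S₂ hS₁A hS₂A
    have hcinf : (c : G) ∈ signalizerInf A θ :=
      family_inf_centralizer_le hNmem le_rfl ⟨c.2, hcC⟩
    set T₂ := (S₂ : Subgroup ↥N).map N.subtype with hT₂
    have hT₂N : T₂ ≤ N := map_subtype_le _
    have hT₂mem : T₂ ∈ signalizerFamily p A θ := mem_family_of_le hNmem hT₂N hS₂A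
    have hDmem : D ∈ signalizerFamily p A θ := mem_family_of_le h₁.1 inf_le_left hAD
    have hT₂D : T₂ ≤ normalizer (D : Set G) := hT₂N.trans inf_le_left
    have hRmem := sup_mem_family hA hθ hDmem hT₂mem hT₂D
    have hRq : IsPGroup q ↥(D ⊔ T₂) :=
      IsPGroup.to_sup_of_normal_left' (h₁.2.1.to_le inf_le_left) (S₂.isPGroup'.map _) hT₂D
    obtain ⟨Q₃, hle₃, h₃⟩ := exists_isMaxSignalizer_ge hRmem hRq
    have hlarge : ∀ Q U : Subgroup G, D ≤ Q → U ≤ Q → U ≤ Q₃ → ¬ U ≤ D →
        Nat.card ↥D < Nat.card ↥(Q ⊓ Q₃) := by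
      intro Q U hDQ hUQ hUQ₃ hUD
      refine lt_of_not_ge fun hge => hUD ?_
      have hle : D ≤ Q ⊓ Q₃ := le_inf hDQ (le_sup_left.trans hle₃)
      rw [Subgroup.eq_of_le_of_card_ge hle hge]
      exact le_inf hUQ hUQ₃
    have hUD₂ : ¬ U₂ ≤ D := fun h => hB₂D
      (le_trans (inf_le_inf_left _ (centralizer_singleton_of_le ha₂)) h)
    have hUD₁ : ¬ U₁ ≤ D := fun h => hB₁D
      (le_trans (inf_le_inf_left _ (centralizer_singleton_of_le ha₁)) h)
    -- `Q₂ ∼ Q₃`
    have hG : ∀ X : Subgroup G, Nat.card ↥X ≤ Nat.card G := fun X => card_le_card_group X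
    have hlt₂ := hlarge Q₂ U₂ inf_le_right (inf_le_left.trans inf_le_right)
      (hS₂U.trans (le_sup_right.trans hle₃)) hUD₂
    obtain ⟨d₂, hd₂, hd₂eq⟩ := ih (Nat.card G - Nat.card ↥(Q₂ ⊓ Q₃))
      (by have := hG (Q₂ ⊓ Q₃); omega) h₂ h₃ rfl
    -- `Q₁ ∼ Q₃`
    have hcD : (c : G) ∈ normalizer (D : Set G) := c.2.1
    have h₁' := IsMaxSignalizer.conj hθ h₁ hcinf
    have hDQ₁' : D ≤ Q₁.map (MulAut.conj (c : G)).toMonoidHom := fun x hx => by
      refine ⟨(c : G)⁻¹ * x * c, ?_, by simp [mul_assoc]⟩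
      exact (inf_le_left : D ≤ Q₁) ((Subgroup.mem_normalizer_iff''.mp hcD x).mp hx)
    have hU₁' : U₁.map (MulAut.conj (c : G)).toMonoidHom ≤ Q₃ := by
      refine le_trans ?_ (le_sup_right.trans hle₃)
      rw [hT₂, ← hcS, Cfsg.Agent.Lib.Coprime.sylow_map_conj_smul]
      exact map_mono hS₁U
    have hUD₁' : ¬ U₁.map (MulAut.conj (c : G)).toMonoidHom ≤ D := fun h => hUD₁ fun x hx => by
      have h1 := h ⟨x, hx, rfl⟩
      simp only [MulEquiv.coe_toMonoidHom, MulAut.conj_apply] at h1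
      exact (Subgroup.mem_normalizer_iff.mp hcD x).mpr h1
    have hlt₁ := hlarge _ _ hDQ₁' (map_mono (inf_le_left.trans inf_le_right)) hU₁' hUD₁'
    obtain ⟨d₁, hd₁, hd₁eq⟩ := ih
      (Nat.card G - Nat.card ↥(Q₁.map (MulAut.conj (c : G)).toMonoidHom ⊓ Q₃))
      (by have := hG (Q₁.map (MulAut.conj (c : G)).toMonoidHom ⊓ Q₃); omega) h₁' h₃ rfl
    refine ⟨d₂⁻¹ * d₁ * c, mul_mem (mul_mem (inv_mem hd₂) hd₁) hcinf, ?_⟩
    have hcomp : (MulAut.conj (d₂⁻¹ * d₁ * (c : G))).toMonoidHom =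
        (MulAut.conj d₂⁻¹).toMonoidHom.comp
          ((MulAut.conj d₁).toMonoidHom.comp (MulAut.conj (c : G)).toMonoidHom) := by
      ext x; simp [mul_assoc]
    rw [hcomp, ← map_map, ← map_map, hd₁eq, ← hd₂eq, map_map]
    convert map_id Q₂
    ext x; simp [mul_assoc]

end Family

end Cfsg.Agent.Lib.Components
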