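import Cfsg.Agent.Lib.Components.Local
import Cfsg.Agent.Lib.Components.Balance
import Cfsg.Agent.Lib.Components.Transport
import Cfsg.Agent.Lib.Components.Signalizer
import Cfsg.Prelude.Def_Balance

/-!
Equivariant solvable signalizer functors on a connected rank graph, relative to the solvable
signalizer functor theorem (passed as a hypothesis).
-/

set_option autoImplicit false

namespace Cfsg.Agent.Lib.Components

open Subgroup Cfsg
open scoped commutatorElement

variable {G : Type*} [Group G]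

/-- the hypothesis and the conclusion of the solvable signalizer functor theorem for `G` -/
def SignalizerTheoremHolds (p : ℕ) (G : Type*) [Group G] : Prop :=
  ∀ (A : Subgroup G), (∀ a ∈ A, ∀ b ∈ A, a * b = b * a) → (∀ a ∈ A, a ^ p = 1) →
    p ^ 3 ≤ Nat.card A → ∀ θ : G → Subgroup G,
    (∀ a ∈ A, a ≠ 1 → θ a ≤ Subgroup.centralizer {a}) →
    (∀ a ∈ A, a ≠ 1 → ¬ p ∣ Nat.card (θ a)) →
    (∀ a ∈ A, a ≠ 1 → ∀ b ∈ A, ∀ x ∈ θ a, b * x * b⁻¹ ∈ θ a) →
    (∀ a ∈ A, a ≠ 1 → Group.IsSolvable (θ a)) →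
    (∀ a ∈ A, a ≠ 1 → ∀ b ∈ A, b ≠ 1 → θ a ⊓ Subgroup.centralizer {b} ≤ θ b) →
    ¬ p ∣ Nat.card ↥(⨆ a : {a : G // a ∈ A ∧ a ≠ 1}, θ a) ∧
      ∀ a ∈ A, a ≠ 1 → (⨆ b : {a : G // a ∈ A ∧ a ≠ 1}, θ b) ⊓ Subgroup.centralizer {a} = θ a

section equivariant

variable [Finite G] {p : ℕ} [Fact p.Prime]

omit [Finite G] [Fact p.Prime] in
/-- the closure `⟨θ e | e ∈ E#⟩` -/
def signalizerClosure (θ : G → Subgroup G) (E : Subgroup G) : Subgroup G :=
  ⨆ e : {a : G // a ∈ E ∧ a ≠ 1}, θ e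

omit [Fact p.Prime] in
theorem not_pRankLE_centralizer_mono {S T : Set G} (h : S ⊆ T) {k : ℕ}
    (hT : ¬ PRankLE p k ↥(centralizer T)) : ¬ PRankLE p k ↥(centralizer S) := by
  intro hS
  refine hT fun B hB hBe => ?_
  have hle : centralizer T ≤ centralizer S := centralizer_le h
  have := hS (B.map (inclusion hle)) ?_ ?_
  · rwa [Subgroup.card_map_of_injective (inclusion_injective hle)] at this
  · haveI := hB; infer_instance
  · rintro _ ⟨b, hb, rfl⟩
    rw [← map_pow, hBe b hb, map_one]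

omit [Fact p.Prime] in
theorem not_pRankLE_centralizer_self {A : Subgroup G} (hA : IsElementaryAbelian p A) {k : ℕ}
    (hc : p ^ k < Nat.card ↥A) : ¬ PRankLE p k ↥(centralizer (A : Set G)) := by
  intro h
  have hle : A ≤ centralizer (A : Set G) := fun a ha =>
    mem_centralizer_iff.mpr fun b hb => elemAb_commute hA hb ha
  have := h (A.subgroupOf (centralizer (A : Set G))) ?_ ?_
  · rw [Nat.card_congr (subgroupOfEquivOfLe hle).toEquiv] at this
    omega
  · exact ⟨⟨fun a b => Subtype.ext (Subtype.ext (elemAb_commute hA a.2 b.2))⟩⟩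
  · intro a ha
    exact Subtype.ext (hA.2 _ ha)

omit [Fact p.Prime] in
theorem isElementaryAbelian_sup {E F : Subgroup G} (hE : IsElementaryAbelian p E)
    (hF : IsElementaryAbelian p F) (hc : ∀ a ∈ E, ∀ b ∈ F, a * b = b * a) :
    IsElementaryAbelian p (E ⊔ F : Subgroup G) := by
  have hEF : E ⊔ F ≤ centralizer ((E ⊔ F : Subgroup G) : Set G) := by
    have h1 : E ⊔ F ≤ centralizer (E : Set G) := sup_le
      (fun a ha => mem_centralizer_iff.mpr fun b hb => elemAb_commute hE hb ha)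
      (fun b hb => mem_centralizer_iff.mpr fun a ha => hc a ha b hb)
    have h2 : E ⊔ F ≤ centralizer (F : Set G) := sup_le
      (fun a ha => mem_centralizer_iff.mpr fun b hb => (hc a ha b hb).symm)
      (fun a ha => mem_centralizer_iff.mpr fun b hb => elemAb_commute hF hb ha)
    rw [le_centralizer_iff]
    exact sup_le (le_centralizer_iff.mp h1) (le_centralizer_iff.mp h2)
  refine ⟨⟨⟨fun a b => Subtype.ext ((mem_centralizer_iff.mp (hEF b.2) a a.2))⟩⟩, ?_⟩
  have hn : F ≤ normalizer (E : Set G) := fun b hb =>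
    centralizer_le_normalizer _ (mem_centralizer_iff.mpr fun a ha => hc a ha b hb)
  intro x hx
  obtain ⟨a, ha, b, hb, rfl⟩ := Cfsg.Agent.Lib.Coprime.exists_mul_of_mem_sup hn hx
  rw [Commute.mul_pow (hc a ha b hb), hE.2 a ha, hF.2 b hb, one_mul]

/-- An equivariant balanced solvable signalizer functor on a connected rank graph is trivial. -/
theorem equivariant_trivial (hSF : SignalizerTheoremHolds p G)
    (hO : pPrimeCore p G = ⊥) (hrk : ¬ PRankLE p 2 G)
    (hconn : IsRankGraphConnected p 2 G) (θ : G → Subgroup G)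
    (hC : ∀ a : G, (orderOf a = p ∧ ¬ PRankLE p 2 ↥(centralizer ({a} : Set G))) →
      θ a ≤ centralizer ({a} : Set G) ∧ ¬ p ∣ Nat.card ↥(θ a) ∧ Group.IsSolvable ↥(θ a))
    (heq : ∀ a g : G, (orderOf a = p ∧ ¬ PRankLE p 2 ↥(centralizer ({a} : Set G))) →
      θ (g * a * g⁻¹) = (θ a).map (MulAut.conj g).toMonoidHom)
    (hbal : ∀ a b : G, (orderOf a = p ∧ ¬ PRankLE p 2 ↥(centralizer ({a} : Set G))) →
      (orderOf b = p ∧ ¬ PRankLE p 2 ↥(centralizer ({b} : Set G))) →
      a * b = b * a → θ a ⊓ centralizer {b} ≤ θ b)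
    (a : G) (ha : orderOf a = p ∧ ¬ PRankLE p 2 ↥(centralizer ({a} : Set G))) : θ a = ⊥ := by
  have hpp := (Fact.out : p.Prime)
  set W := signalizerClosure θ with hW
  -- members of a vertex are admissible
  have hadm : ∀ E : Subgroup G, IsRankGraphVertex p 2 E → ∀ e ∈ E, e ≠ 1 →
      (orderOf e = p ∧ ¬ PRankLE p 2 ↥(centralizer ({e} : Set G))) := fun E hE e he he1 =>
    ⟨elemAb_orderOf hE.1 he he1,
      not_pRankLE_centralizer_mono (Set.singleton_subset_iff.mpr he) hE.2.2⟩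
  have hvert : ∀ A : Subgroup G, IsElementaryAbelian p A → p ^ 2 < Nat.card ↥A →
      IsRankGraphVertex p 2 A := fun A hA hc => ⟨hA, hc.le, not_pRankLE_centralizer_self hA hc⟩
  have hcard3 : ∀ A : Subgroup G, IsElementaryAbelian p A → p ^ 2 < Nat.card ↥A →
      p ^ 3 ≤ Nat.card ↥A := by
    intro A hA hc
    obtain ⟨n, hn⟩ := IsPGroup.iff_card.mp (elemAb_isPGroup hA)
    rw [hn] at hc ⊢
    exact Nat.pow_le_pow_right hpp.pos ((Nat.pow_lt_pow_iff_right hpp.one_lt).mp hc)
  have hinv : ∀ A : Subgroup G, IsRankGraphVertex p 2 A → ∀ e ∈ A, e ≠ 1 → ∀ b ∈ A, ∀ x ∈ θ e,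
      b * x * b⁻¹ ∈ θ e := by
    intro A hA e he he1 b hb x hx
    have h := heq e b (hadm A hA e he he1)
    rw [← elemAb_commute hA.1 he hb, mul_inv_cancel_right] at h
    rw [h]
    exact ⟨x, hx, rfl⟩
  have hSF' : ∀ A : Subgroup G, IsElementaryAbelian p A → p ^ 2 < Nat.card ↥A →
      ¬ p ∣ Nat.card ↥(W A) ∧ ∀ e ∈ A, e ≠ 1 → W A ⊓ centralizer {e} = θ e := by
    intro A hA hc
    have hv := hvert A hA hc
    exact hSF A (fun x hx y hy => elemAb_commute hA hx hy) hA.2 (hcard3 A hA hc) θ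
      (fun e he he1 => (hC e (hadm A hv e he he1)).1)
      (fun e he he1 => (hC e (hadm A hv e he he1)).2.1)
      (hinv A hv)
      (fun e he he1 => (hC e (hadm A hv e he he1)).2.2)
      (fun e he he1 f hf hf1 =>
        hbal e f (hadm A hv e he he1) (hadm A hv f hf hf1) (elemAb_commute hA he hf))
  -- `W` of a vertex contained in a group of rank three
  have hWsub : ∀ E A : Subgroup G, E ≤ A → p ^ 2 ≤ Nat.card ↥E → IsElementaryAbelian p A →
      p ^ 2 < Nat.card ↥A → W E = W A := by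
    intro E A hEA hEc hA hc
    obtain ⟨hp', hfix⟩ := hSF' A hA hc
    have hn : E ≤ normalizer (W A : Set G) := by
      intro b hb
      have key : ∀ b ∈ A, ∀ x ∈ W A, b * x * b⁻¹ ∈ W A := by
        intro b hb x hx
        suffices h : (W A).map (MulAut.conj b).toMonoidHom ≤ W A from h ⟨x, hx, rfl⟩
        rw [hW, signalizerClosure, Subgroup.map_iSup]
        refine iSup_mono fun e => ?_
        rintro _ ⟨y, hy, rfl⟩
        exact hinv A (hvert A hA hc) e e.2.1 e.2.2 b hb y hy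
      rw [Subgroup.mem_normalizer_iff]
      exact fun x => ⟨key b (hEA hb) x, fun h => by
        simpa [mul_assoc] using key b⁻¹ (inv_mem (hEA hb)) _ h⟩
    have hEa : IsElementaryAbelian p E := elemAb_mono hA hEA
    haveI : IsMulCommutative ↥E := hEa.1
    have hgen := Cfsg.Agent.Lib.Coprime.iSup_centralizer_eq (K := W A)
      (elemAb_not_isCyclic hEa hEc) hn (coprime_card_of_not_dvd (elemAb_isPGroup hEa) hp')
    refine le_antisymm (iSup_le fun e => le_iSup_of_le (⟨e.1, hEA e.2.1, e.2.2⟩ :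
      {a : G // a ∈ A ∧ a ≠ 1}) le_rfl) ?_
    rw [← hgen]
    refine iSup₂_le fun e he => ?_
    rw [hfix e (hEA he.1) he.2]
    exact le_iSup_of_le (⟨e, he⟩ : {a : G // a ∈ E ∧ a ≠ 1}) le_rfl
  -- adjacent vertices
  have hadj : ∀ E F : Subgroup G, IsRankGraphVertex p 2 E → IsRankGraphVertex p 2 F →
      (∀ a ∈ E, ∀ b ∈ F, a * b = b * a) → W E = W F := by
    intro E F hE hF hc
    have hA := isElementaryAbelian_sup hE.1 hF.1 hc
    by_cases h3 : p ^ 2 < Nat.card ↥(E ⊔ F : Subgroup G)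
    · rw [hWsub E _ le_sup_left hE.2.1 hA h3, hWsub F _ le_sup_right hF.2.1 hA h3]
    · rw [not_lt] at h3
      rw [Subgroup.eq_of_le_of_card_ge (le_sup_left : E ≤ E ⊔ F) (h3.trans hE.2.1)]
      exact congrArg W
        (Subgroup.eq_of_le_of_card_ge (le_sup_right : F ≤ E ⊔ F) (h3.trans hF.2.1)).symm
  have hall : ∀ E F : Subgroup G, IsRankGraphVertex p 2 E → IsRankGraphVertex p 2 F →
      W E = W F := by
    intro E F hE hF
    have h := hconn E F hE hF
    clear hF
    induction h with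
    | refl => rfl
    | tail _ hbc ih => exact ih.trans (hadj _ _ hbc.1 hbc.2.1 hbc.2.2)
  -- a subgroup of rank three
  obtain ⟨A, hA, hAc⟩ : ∃ A : Subgroup G, IsElementaryAbelian p A ∧ p ^ 2 < Nat.card ↥A := by
    simp only [PRankLE, not_forall, not_le] at hrk
    obtain ⟨A, h1, h2, h3⟩ := hrk
    exact ⟨A, ⟨h1, h2⟩, h3⟩
  obtain ⟨hp', -⟩ := hSF' A hA hAc
  have hN : (W A).Normal := by
    refine ⟨fun x hx g => ?_⟩
    generalize hB : A.map (MulAut.conj g).toMonoidHom = B
    have hBel : IsElementaryAbelian p B := by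
      subst hB
      refine ⟨⟨⟨?_⟩⟩, ?_⟩
      · rintro ⟨_, u, hu, rfl⟩ ⟨_, v, hv, rfl⟩
        exact Subtype.ext ((map_mul _ u v).symm.trans ((congrArg _ (elemAb_commute hA hu hv)).trans (map_mul _ v u)))
      · rintro _ ⟨u, hu, rfl⟩
        rw [← map_pow, hA.2 u hu, map_one]
    have hBc : p ^ 2 < Nat.card ↥B := by
      rw [← hB, Subgroup.card_map_of_injective (MulAut.conj g).injective]; exact hAc
    rw [hall A B (hvert A hA hAc) (hvert B hBel hBc)]
    suffices h : (W A).map (MulAut.conj g).toMonoidHom ≤ W B from h ⟨x, hx, rfl⟩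
    rw [hW, signalizerClosure, Subgroup.map_iSup]
    refine iSup_le fun e => ?_
    rw [← heq e g (hadm A (hvert A hA hAc) e e.2.1 e.2.2)]
    refine le_iSup_of_le (⟨g * e * g⁻¹, hB ▸ ⟨e, e.2.1, rfl⟩, fun h => e.2.2 ?_⟩ :
      {a : G // a ∈ B ∧ a ≠ 1}) le_rfl
    exact conj_eq_one_iff.mp h
  have hbot : W A = ⊥ := by
    rw [eq_bot_iff, ← hO]
    exact le_pPrimeCore hN (hpp.coprime_iff_not_dvd.mpr hp').symm
  -- `a` lies in a vertex
  obtain ⟨B, hB, hBc⟩ : ∃ B : Subgroup ↥(centralizer ({a} : Set G)),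
      (IsMulCommutative ↥B ∧ ∀ b ∈ B, b ^ p = 1) ∧ p ^ 2 < Nat.card ↥B := by
    have h := ha.2
    simp only [PRankLE, not_forall, not_le] at h
    obtain ⟨B, h1, h2, h3⟩ := h
    exact ⟨B, ⟨h1, h2⟩, h3⟩
  generalize hB' : B.map (centralizer ({a} : Set G)).subtype = B'
  have hB'el : IsElementaryAbelian p B' := by
    subst hB'
    haveI := hB.1
    refine ⟨inferInstance, ?_⟩
    rintro _ ⟨b, hb, rfl⟩
    rw [← map_pow, hB.2 b hb, map_one]
  have hael : IsElementaryAbelian p (zpowers a) := by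
    refine ⟨inferInstance, fun x hx => ?_⟩
    obtain ⟨k, rfl⟩ := mem_zpowers_iff.mp hx
    rw [← zpow_natCast, ← zpow_mul, mul_comm, zpow_mul, zpow_natCast, ← ha.1,
      pow_orderOf_eq_one, one_zpow]
  have hc : ∀ x ∈ B', ∀ y ∈ zpowers a, x * y = y * x := by
    subst hB'
    rintro _ ⟨b, hb, rfl⟩ y hy
    obtain ⟨k, rfl⟩ := mem_zpowers_iff.mp hy
    exact Commute.zpow_right (mem_centralizer_singleton_iff.mp b.2) k
  have hEel := isElementaryAbelian_sup hB'el hael hc
  have hEc : p ^ 2 < Nat.card ↥(B' ⊔ zpowers a : Subgroup G) := by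
    refine lt_of_lt_of_le hBc (le_trans (le_of_eq ?_) (Nat.le_of_dvd Nat.card_pos
      (card_dvd_of_le (le_sup_left : B' ≤ _))))
    rw [← hB', Subgroup.card_map_of_injective (subtype_injective _)]
  have hEW := hall (B' ⊔ zpowers a) A (hvert _ hEel hEc) (hvert A hA hAc)
  rw [hbot] at hEW
  rw [eq_bot_iff, ← hEW]
  exact le_iSup_of_le (⟨a, mem_sup_right (mem_zpowers a), fun h => hpp.one_lt.ne
    (by rw [← ha.1, h, orderOf_one])⟩ : {x : G // x ∈ B' ⊔ zpowers a ∧ x ≠ 1}) le_rfl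

/-- Trivial `p`-layers in centralizers of connected rank at least three give `F*(C(a)) = O_p(C(a))`. -/
theorem genFitting_centralizer_eq_pCore (hSF : SignalizerTheoremHolds p G)
    (hO : pPrimeCore p G = ⊥) (hrk : ¬ PRankLE p 2 G)
    (hconn : IsRankGraphConnected p 2 G)
    (hL : ∀ a : G, (orderOf a = p ∧ ¬ PRankLE p 2 ↥(centralizer ({a} : Set G))) →
      pLayer p ↥(centralizer ({a} : Set G)) = ⊥ ∧ Group.IsSolvable ↥(centralizerPPrimeCore p a))
    (a : G) (ha : orderOf a = p ∧ ¬ PRankLE p 2 ↥(centralizer ({a} : Set G))) :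
    generalizedFittingSubgroup ↥(centralizer ({a} : Set G)) =
      pCore p ↥(centralizer ({a} : Set G)) := by
  have hpp := (Fact.out : p.Prime)
  have hle : ∀ x : G, centralizerPPrimeCore p x ≤ centralizer ({x} : Set G) :=
    fun x => map_subtype_le _
  have hbot := equivariant_trivial hSF hO hrk hconn (centralizerPPrimeCore p)
    (fun x hx => ⟨hle x, hpp.coprime_iff_not_dvd.mp (coprime_card_centralizerPPrimeCore x).symm,
      (hL x hx).2⟩)
    (fun x g _ => (map_centralizerPPrimeCore_conj p g x).symm)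
    (fun x y hx hy hxy => ?_) a ha
  · have hO' : pPrimeCore p ↥(centralizer ({a} : Set G)) = ⊥ :=
      (Subgroup.map_eq_bot_iff_of_injective _ (subtype_injective _)).mp hbot
    refine genFitting_eq_pCore_of hO' (layer_eq_bot_iff.mpr fun K hK => ?_)
    exact IsComponent.ne_bot hK (le_bot_iff.mp ((hL a ha).1 ▸
      IsPComponent.le_pLayer (IsComponent.isPComponent hK (IsComponent.dvd_card hK p hO'))))
  -- balance
  intro w hw
  obtain ⟨hwx, hwy⟩ := hw
  set H := centralizer ({y} : Set G) with hH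
  have hxH : x ∈ H := mem_centralizer_singleton_iff.mpr hxy
  set X : H := ⟨x, hxH⟩ with hX
  have hP : IsPGroup p ↥(zpowers X) := IsPGroup.of_card (n := 1) (by
    rw [Nat.card_zpowers, ← Subgroup.orderOf_coe, pow_one]; exact hx.1)
  have hcore := pPrimeCore_centralizer_le (hL y hy).1 hP
  set C := centralizer ((zpowers X : Subgroup ↥H) : Set ↥H) with hC
  set M := (centralizerPPrimeCore p x).comap (H.subtype.comp C.subtype) with hM
  have hCx : ∀ c : C, ((c : H) : G) ∈ centralizer ({x} : Set G) := fun c => by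
    rw [mem_centralizer_singleton_iff]
    exact (congrArg Subtype.val (mem_centralizer_iff.mp c.2 X (mem_zpowers X))).symm
  have hMn : M.Normal := ⟨fun m hm c => by
    exact (Subgroup.mem_normalizer_iff.mp
      (centralizer_le_normalizer_centralizerPPrimeCore x (hCx c)) _).mp hm⟩
  have hMc : (Nat.card ↥M).Coprime p := by
    refine (coprime_card_centralizerPPrimeCore x).coprime_dvd_left ?_
    rw [hM, ← Subgroup.card_map_of_injective (f := H.subtype.comp C.subtype)
      (H.subtype_injective.comp C.subtype_injective)]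
    exact card_dvd_of_le (map_comap_le _ _)
  have hwX : (⟨w, hwy⟩ : H) ∈ C := by
    rw [hC, mem_centralizer_iff]
    intro z hz
    obtain ⟨k, rfl⟩ := mem_zpowers_iff.mp hz
    refine (Commute.zpow_left ?_ k).eq
    exact Subtype.ext (mem_centralizer_singleton_iff.mp (hle x hwx)).symm
  have hwM : (⟨⟨w, hwy⟩, hwX⟩ : C) ∈ M := hwx
  exact ⟨⟨w, hwy⟩, hcore ⟨⟨⟨w, hwy⟩, hwX⟩, le_pPrimeCore hMn hMc hwM, rfl⟩, rfl⟩

end equivariant

end Cfsg.Agent.Lib.Components
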