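import Cfsg.Prelude.Def_Balance
import Cfsg.Agent.Lib.Solvable.Nilpotent
import Cfsg.Agent.Lib.Frobenius.UniqueSubgroup
import Cfsg.Agent.S0126

/-!
A `p`-group of `p`-rank at least three has a normal elementary abelian subgroup of order `p²`, and the
commuting graph on such subgroups.
-/

set_option autoImplicit false

namespace Cfsg.Agent.Lib.Components

open Subgroup Cfsg

universe u

variable {P : Type u} [Group P]

theorem eab_commute {p : ℕ} {A : Subgroup P} (hA : IsElementaryAbelian p A) {a b : P} (ha : a ∈ A)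
    (hb : b ∈ A) : a * b = b * a := by
  haveI := hA.1
  exact congrArg Subtype.val (mul_comm' (⟨a, ha⟩ : A) ⟨b, hb⟩)

theorem eab_of_commute {p : ℕ} {A : Subgroup P} (hc : ∀ a ∈ A, ∀ b ∈ A, a * b = b * a)
    (he : ∀ a ∈ A, a ^ p = 1) : IsElementaryAbelian p A :=
  ⟨⟨⟨fun a b => Subtype.ext (hc a a.2 b b.2)⟩⟩, he⟩

variable [Finite P] {p : ℕ} [hp : Fact p.Prime]

/-- inside an elementary abelian normal subgroup of order at least `p²` there is a normal one of order `p²` -/
theorem exists_normal_sq_le (hP : IsPGroup p P) {N : Subgroup P} [N.Normal]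
    (hN : IsElementaryAbelian p N) (hcard : p < Nat.card N) :
    ∃ U : Subgroup P, U.Normal ∧ U ≤ N ∧ IsElementaryAbelian p U ∧ Nat.card U = p ^ 2 := by
  have hpp := hp.out
  haveI : Group.IsNilpotent P := hP.isNilpotent
  have hNne : N ≠ ⊥ := fun h => by
    rw [h, Subgroup.card_bot] at hcard
    exact absurd hcard (not_lt.mpr hpp.one_lt.le)
  obtain ⟨z, hz, hz1⟩ :=
    (bot_or_exists_ne_one _).resolve_left (Cfsg.Agent.Lib.Solvable.inf_center_ne_bot hNne)
  have hzp : orderOf z = p := orderOf_eq_prime (hN.2 z hz.1) hz1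
  haveI : (zpowers z).Normal := ⟨fun a ha g => by
    obtain ⟨k, rfl⟩ := mem_zpowers_iff.mp ha
    rw [mem_center_iff.mp (Subgroup.zpow_mem (center P) hz.2 k) g, mul_inv_cancel_right]
    exact zpow_mem (mem_zpowers z) k⟩
  let π := QuotientGroup.mk' (zpowers z)
  haveI : (N.map π).Normal := Normal.map inferInstance _ (QuotientGroup.mk'_surjective _)
  haveI : Group.IsNilpotent (P ⧸ zpowers z) := (hP.to_quotient _).isNilpotent
  have hmap : N.map π ≠ ⊥ := by
    rw [Ne, Subgroup.map_eq_bot_iff, QuotientGroup.ker_mk']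
    intro h
    have := Subgroup.card_le_of_le h
    rw [Nat.card_zpowers, hzp] at this
    omega
  obtain ⟨w, hw, hw1⟩ :=
    (bot_or_exists_ne_one _).resolve_left (Cfsg.Agent.Lib.Solvable.inf_center_ne_bot hmap)
  obtain ⟨y, hy, rfl⟩ := hw.1
  let U : Subgroup P :=
    { carrier := {x | x ∈ N ∧ π x ∈ zpowers (π y)}
      mul_mem' := fun {a b} ha hb => ⟨mul_mem ha.1 hb.1, by rw [map_mul]; exact mul_mem ha.2 hb.2⟩
      one_mem' := ⟨one_mem _, by rw [map_one]; exact one_mem _⟩
      inv_mem' := fun {a} ha => ⟨inv_mem ha.1, by rw [map_inv]; exact inv_mem ha.2⟩ }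
  have hUn : U.Normal := ⟨fun a ha g => ⟨‹N.Normal›.conj_mem a ha.1 g, by
    obtain ⟨k, hk⟩ := mem_zpowers_iff.mp ha.2
    rw [map_mul, map_mul, map_inv, ← hk, mem_center_iff.mp (Subgroup.zpow_mem (center _) hw.2 k) (π g), mul_inv_cancel_right]
    exact zpow_mem (mem_zpowers _) k⟩⟩
  refine ⟨U, hUn, fun x hx => hx.1, eab_of_commute (fun a ha b hb => eab_commute hN ha.1 hb.1)
    (fun a ha => hN.2 a ha.1), ?_⟩
  have hker : zpowers z ≤ U := by
    rw [zpowers_le]
    refine ⟨hz.1, ?_⟩
    rw [show π z = 1 from (QuotientGroup.eq_one_iff z).mpr (mem_zpowers z)]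
    exact one_mem _
  have himg : U.map π = zpowers (π y) := by
    refine le_antisymm (map_le_iff_le_comap.mpr fun x hx => hx.2) ?_
    rw [zpowers_le]
    exact ⟨y, ⟨hy, mem_zpowers _⟩, rfl⟩
  have hord : orderOf (π y) = p := orderOf_eq_prime (by rw [← map_pow, hN.2 y hy, map_one]) hw1
  have h1 := Nat.card_congr (QuotientGroup.quotientInfEquivProdNormalQuotient U (zpowers z)).toEquiv
  have h2 := Subgroup.card_eq_card_quotient_mul_card_subgroup ((zpowers z).subgroupOf U)
  rw [Nat.card_congr (Subgroup.subgroupOfEquivOfLe hker).toEquiv, Nat.card_zpowers, hzp] at h2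
  have h3 : Nat.card (↥U ⧸ (zpowers z).subgroupOf U) = p := by
    have e : (π.comp U.subtype).ker = (zpowers z).subgroupOf U := by
      rw [← MonoidHom.comap_ker, QuotientGroup.ker_mk']
      rfl
    rw [← e, Nat.card_congr (QuotientGroup.quotientKerEquivRange (π.comp U.subtype)).toEquiv]
    rw [show (π.comp U.subtype).range = U.map π by rw [MonoidHom.range_comp, range_subtype], himg,
      Nat.card_zpowers, hord]
  rw [h2, h3, pow_two]

theorem exists_normal_four_of_rank (hP : IsPGroup 2 P) {E : Subgroup P} (hE : IsElementaryAbelian 2 E)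
    (hc : 2 ^ 2 < Nat.card E) :
    ∃ U : Subgroup P, U.Normal ∧ IsElementaryAbelian 2 U ∧ Nat.card U = 2 ^ 2 := by
  classical
  haveI : Fact (Nat.Prime 2) := ⟨Nat.prime_two⟩
  obtain ⟨A, ⟨hAn, hAc⟩, hAmax⟩ := Set.Finite.exists_maximal
    (s := {A : Subgroup P | A.Normal ∧ ∀ x ∈ A, ∀ y ∈ A, x * y = y * x}) (Set.toFinite _)
    ⟨⊥, inferInstance, by simp⟩
  haveI := hAn
  -- `A` is its own centraliser
  have hCA : centralizer (A : Set P) ≤ A := by
    by_contra hcon
    haveI : Group.IsNilpotent P := hP.isNilpotent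
    haveI : (centralizer (A : Set P)).Normal := inferInstance
    haveI : ((centralizer (A : Set P)).map (QuotientGroup.mk' A)).Normal :=
      Normal.map inferInstance _ (QuotientGroup.mk'_surjective A)
    haveI : Group.IsNilpotent (P ⧸ A) := (hP.to_quotient A).isNilpotent
    have hne : (centralizer (A : Set P)).map (QuotientGroup.mk' A) ≠ ⊥ := by
      rw [Ne, Subgroup.map_eq_bot_iff, QuotientGroup.ker_mk']
      exact hcon
    obtain ⟨w, hw, hw1⟩ :=
      (bot_or_exists_ne_one _).resolve_left (Cfsg.Agent.Lib.Solvable.inf_center_ne_bot hne)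
    obtain ⟨y, hy, rfl⟩ := hw.1
    let B : Subgroup P := (zpowers ((QuotientGroup.mk' A) y)).comap (QuotientGroup.mk' A)
    have hBn : B.Normal := ⟨fun a ha g => by
      obtain ⟨k, hk⟩ := mem_zpowers_iff.mp ha
      change _ ∈ zpowers _
      rw [map_mul, map_mul, map_inv, ← hk, mem_center_iff.mp (Subgroup.zpow_mem (center _) hw.2 k) _, mul_inv_cancel_right]
      exact zpow_mem (mem_zpowers _) k⟩
    have hrep : ∀ x ∈ B, ∃ (k : ℤ) (c : P), c ∈ A ∧ x = y ^ k * c := by
      intro x hx
      obtain ⟨k, hk⟩ := mem_zpowers_iff.mp hx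
      refine ⟨k, (y ^ k)⁻¹ * x, ?_, by rw [mul_inv_cancel_left]⟩
      rw [← QuotientGroup.eq_one_iff (N := A)]
      change QuotientGroup.mk' A ((y ^ k)⁻¹ * x) = 1
      rw [map_mul, map_inv, map_zpow, hk, inv_mul_cancel]
    have hBc : ∀ x ∈ B, ∀ x' ∈ B, x * x' = x' * x := by
      intro x hx x' hx'
      obtain ⟨k, c, hc, rfl⟩ := hrep x hx
      obtain ⟨l, d, hd, rfl⟩ := hrep x' hx'
      have h1 : Commute c (y ^ l) := mem_centralizer_iff.mp (zpow_mem hy l) c hc
      have h2 : Commute d (y ^ k) := mem_centralizer_iff.mp (zpow_mem hy k) d hd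
      have h3 : Commute c d := hAc c hc d hd
      exact (((Commute.refl y).zpow_zpow k l).mul_left h1).mul_right (h2.symm.mul_left h3) |>.eq
    have hAB : A ≤ B := fun a ha => by
      change QuotientGroup.mk' A a ∈ zpowers _
      rw [show QuotientGroup.mk' A a = 1 from (QuotientGroup.eq_one_iff a).mpr ha]
      exact one_mem _
    have hBA := hAmax ⟨hBn, hBc⟩ hAB
    exact hw1 ((QuotientGroup.eq_one_iff y).mpr (hBA (mem_zpowers ((QuotientGroup.mk' A) y))))
  -- non-cyclic case
  by_cases huniq : ∀ x ∈ A, ∀ y ∈ A, x * x = 1 → x ≠ 1 → y * y = 1 → y ≠ 1 → x = y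
  swap
  · push Not at huniq
    obtain ⟨x, hx, y, hy, hx2, hx1, hy2, hy1, hxy⟩ := huniq
    let W : Subgroup P :=
      { carrier := {a | a ∈ A ∧ a * a = 1}
        mul_mem' := fun {a b} ha hb => ⟨mul_mem ha.1 hb.1, by
          rw [mul_assoc, ← mul_assoc b a b, hAc b hb.1 a ha.1, mul_assoc a b b, hb.2, mul_one, ha.2]⟩
        one_mem' := ⟨one_mem _, one_mul 1⟩
        inv_mem' := fun {a} ha => ⟨inv_mem ha.1, by rw [← mul_inv_rev, ha.2, inv_one]⟩ }
    haveI : W.Normal := ⟨fun a ha g => ⟨hAn.conj_mem a ha.1 g, by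
      rw [show g * a * g⁻¹ * (g * a * g⁻¹) = g * (a * a) * g⁻¹ by group, ha.2, mul_one, mul_inv_cancel]⟩⟩
    have hW : IsElementaryAbelian 2 W :=
      eab_of_commute (fun a ha b hb => hAc a ha.1 b hb.1) (fun a ha => by rw [pow_two]; exact ha.2)
    have hcW : 2 < Nat.card W := by
      haveI : Fintype W := Fintype.ofFinite W
      rw [Nat.card_eq_fintype_card, Fintype.two_lt_card_iff]
      exact ⟨1, ⟨x, hx, hx2⟩, ⟨y, hy, hy2⟩, fun e => hx1 (congrArg Subtype.val e).symm,
        fun e => hy1 (congrArg Subtype.val e).symm, fun e => hxy (congrArg Subtype.val e)⟩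
    obtain ⟨U, hUn, -, hU, hUc⟩ := exists_normal_sq_le hP hW hcW
    exact ⟨U, hUn, hU, hUc⟩
  -- cyclic case
  have hAcyc : IsCyclic A := by
    refine Cfsg.Agent.Lib.Frobenius.isCyclic_of_commute_of_prime_roots (fun x y => Subtype.ext (hAc x x.2 y y.2)) fun q hq => ?_
    haveI : Fact q.Prime := ⟨hq⟩
    haveI : Fintype {x : A // x ^ q = 1} := Fintype.ofFinite _
    rw [Nat.card_eq_fintype_card]
    by_contra hlt
    obtain ⟨b₁, b₂, b₃, h12, h13, h23⟩ := Fintype.two_lt_card_iff.mp (lt_of_le_of_lt hq.two_le (not_le.mp hlt))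
    -- two of them are distinct non-identity roots
    have hq2 : ∀ b : {x : A // x ^ q = 1}, b.1 ≠ 1 → q = 2 := by
      intro b hb
      have hob : orderOf b.1 = q := orderOf_eq_prime b.2 hb
      obtain ⟨k, hk⟩ := (IsPGroup.iff_orderOf.mp hP) (b.1 : P)
      rw [Subgroup.orderOf_coe, hob] at hk
      exact (Nat.prime_dvd_prime_iff_eq hq Nat.prime_two).mp (hq.dvd_of_dvd_pow (dvd_of_eq hk))
    have key : ∀ b b' : {x : A // x ^ q = 1}, b.1 ≠ 1 → b'.1 ≠ 1 → b = b' := by
      intro b b' hb hb'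
      have e := hq2 b hb
      subst e
      refine Subtype.ext (Subtype.ext (huniq _ b.1.2 _ b'.1.2 ?_ ?_ ?_ ?_))
      · have h := congrArg Subtype.val b.2; rwa [Subgroup.coe_pow, pow_two] at h
      · exact fun h => hb (Subtype.ext h)
      · have h := congrArg Subtype.val b'.2; rwa [Subgroup.coe_pow, pow_two] at h
      · exact fun h => hb' (Subtype.ext h)
    by_cases h1 : b₁.1 = 1
    · exact h23 (key b₂ b₃ (fun h => h12 (Subtype.ext (h1.trans h.symm))) (fun h => h13 (Subtype.ext (h1.trans h.symm))))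
    · by_cases h2 : b₂.1 = 1
      · exact h13 (key b₁ b₃ h1 (fun h => h23 (Subtype.ext (h2.trans h.symm))))
      · exact h12 (key b₁ b₂ h1 h2)
  obtain ⟨a, ha⟩ := (Subgroup.isCyclic_iff_exists_zpowers_eq_top A).mp hAcyc
  have haA : a ∈ A := ha ▸ mem_zpowers a
  have hgenA : ∀ x ∈ A, ∃ i : ℤ, a ^ i = x := fun x hx => mem_zpowers_iff.mp (ha.symm ▸ hx)
  have hCa : ∀ x : P, x * a = a * x → x ∈ A := fun x hx => hCA (mem_centralizer_iff.mpr fun b hb => by
    obtain ⟨i, rfl⟩ := hgenA b hb
    exact ((show Commute x a from hx).zpow_right i).symm.eq)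
  have hEA : ∀ x ∈ E, ∀ y ∈ E, x ∈ A → y ∈ A → x ≠ 1 → y ≠ 1 → x = y := fun x hx y hy hxA hyA hx1 hy1 =>
    huniq x hxA y hyA (by rw [← pow_two]; exact hE.2 x hx) hx1 (by rw [← pow_two]; exact hE.2 y hy) hy1
  have hEinv : ∀ x ∈ E, x⁻¹ = x := fun x hx => inv_eq_of_mul_eq_one_right (by rw [← pow_two]; exact hE.2 x hx)
  -- the commutator with `a`
  set τ : P → P := fun x => x * a * x⁻¹ * a⁻¹ with hτ
  set σ : P → P := fun x => x * a * x⁻¹ * a with hσ
  have hτA : ∀ x, τ x ∈ A := fun x => mul_mem (hAn.conj_mem a haA x) (inv_mem haA)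
  have hσA : ∀ x, σ x ∈ A := fun x => mul_mem (hAn.conj_mem a haA x) haA
  have hE4 : 8 ≤ Nat.card E := by
    obtain ⟨k, hk⟩ := IsPGroup.iff_card.mp (hP.to_subgroup E)
    rw [hk] at hc ⊢
    calc 8 = 2 ^ 3 := rfl
      _ ≤ 2 ^ k := Nat.pow_le_pow_right (by norm_num) ((Nat.pow_lt_pow_iff_right (by norm_num)).mp hc)
  obtain ⟨n, hn⟩ := (IsPGroup.iff_orderOf.mp hP) a
  -- an element of `E` outside `A` whose commutator with `a` is an involution
  have hpair : ∀ x ∈ E, τ x * τ x ≠ 1 → σ x * σ x = 1 := by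
    intro x hx hne
    by_contra hne2
    obtain ⟨u, hu⟩ := hgenA _ (hAn.conj_mem a haA x)
    have hx2 : x * x = 1 := by rw [← pow_two]; exact hE.2 x hx
    have huu : a ^ (u * u) = a := by
      have h1 : x * (x * a * x⁻¹) * x⁻¹ = a := by
        calc x * (x * a * x⁻¹) * x⁻¹ = (x * x) * a * (x * x)⁻¹ := by group
          _ = a := by rw [hx2]; group
      rw [← hu, ← conj_zpow, ← hu, ← zpow_mul] at h1
      exact h1
    have hdvd : (orderOf a : ℤ) ∣ (u - 1) * (u + 1) := by
      rw [orderOf_dvd_iff_zpow_eq_one, show (u - 1) * (u + 1) = u * u - 1 by ring, zpow_sub, zpow_one, huu,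
        mul_inv_cancel]
    have hA' : ¬ (orderOf a : ℤ) ∣ 2 * (u - 1) := by
      intro h
      apply hne
      rw [orderOf_dvd_iff_zpow_eq_one, mul_comm, zpow_mul, zpow_two, zpow_sub, zpow_one, hu] at h
      exact h
    have hB' : ¬ (orderOf a : ℤ) ∣ 2 * (u + 1) := by
      intro h
      apply hne2
      rw [orderOf_dvd_iff_zpow_eq_one, mul_comm, zpow_mul, zpow_two, zpow_add, zpow_one, hu] at h
      exact h
    rw [hn] at hdvd hA' hB'
    push_cast at hdvd hA' hB'
    rcases Int.even_or_odd u with ⟨v, hv⟩ | ⟨v, hv⟩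
    · have hc1 : IsCoprime ((2 : ℤ) ^ n) (u + 1) := by
        refine IsCoprime.pow_left ⟨-v, 1, ?_⟩
        rw [hv]; ring
      exact hA' (dvd_mul_of_dvd_right (hc1.dvd_of_dvd_mul_right hdvd) 2)
    · rcases Int.even_or_odd v with ⟨w, hw⟩ | ⟨w, hw⟩
      · -- `u + 1 = 2 * odd`
        have hc1 : IsCoprime ((2 : ℤ) ^ n) (v + 1) := by
          refine IsCoprime.pow_left ⟨-w, 1, ?_⟩
          rw [hw]; ring
        refine hA' (hc1.dvd_of_dvd_mul_right ?_)
        rwa [show (u - 1) * (u + 1) = 2 * (u - 1) * (v + 1) by rw [hv]; ring] at hdvd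
      · have hc1 : IsCoprime ((2 : ℤ) ^ n) v := by
          refine IsCoprime.pow_left ⟨-w, 1, ?_⟩
          rw [hw]; ring
        refine hB' (hc1.dvd_of_dvd_mul_right ?_)
        rwa [show (u - 1) * (u + 1) = 2 * (u + 1) * v by rw [hv]; ring] at hdvd
  have hτmul : ∀ x x', τ (x * x') = x * τ x' * x⁻¹ * τ x := fun x x' => by simp only [hτ]; group
  have hsmall : ∀ {x c : P}, c ∈ A → c * c = 1 → (x * c * x⁻¹) * (x * c * x⁻¹) = 1 := fun {x c} _ h2 => by
    rw [show x * c * x⁻¹ * (x * c * x⁻¹) = x * (c * c) * x⁻¹ by group, h2, mul_one, mul_inv_cancel]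
  have hfix : ∀ {x c : P}, c ∈ A → c * c = 1 → x * c * x⁻¹ = c := by
    intro x c hc h2
    by_cases h1 : c = 1
    · rw [h1]; group
    · exact huniq _ (hAn.conj_mem c hc x) c hc (hsmall hc h2)
        (fun e => h1 (conj_eq_one_iff.mp e)) h2 h1
  have hmulA : ∀ {b c : P}, b ∈ A → c ∈ A → b * b = 1 → c * c = 1 → b * c * (b * c) = 1 := fun {b c} hb hc h h' => by
    rw [mul_assoc, ← mul_assoc c b c, hAc c hc b hb, mul_assoc b c c, h', mul_one, h]
  obtain ⟨e, heE, heA, heτ⟩ : ∃ e ∈ E, e ∉ A ∧ τ e * τ e = 1 := by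
    let K : Subgroup P :=
      { carrier := {x | x ∈ E ∧ τ x * τ x = 1}
        mul_mem' := fun {x y} hx hy => ⟨mul_mem hx.1 hy.1, by
          rw [hτmul, hfix (hτA y) hy.2]
          exact hmulA (hτA y) (hτA x) hy.2 hx.2⟩
        one_mem' := ⟨one_mem _, by simp [hτ]⟩
        inv_mem' := fun {x} hx => ⟨inv_mem hx.1, by rw [hEinv x hx.1]; exact hx.2⟩ }
    have hidx : Nat.card E ≤ Nat.card K * 2 := by
      by_cases hall : ∀ x ∈ E, τ x * τ x = 1
      · have hle : E ≤ K := fun x hx => ⟨hx, hall x hx⟩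
        have := Subgroup.card_le_of_le hle
        omega
      · push Not at hall
        obtain ⟨x₀, hx₀, hx₀τ⟩ := hall
        -- `E = K ∪ x₀ K`
        have hcov : ∀ x ∈ E, x ∈ K ∨ x₀ * x ∈ K := by
          intro x hx
          by_cases h : τ x * τ x = 1
          · exact Or.inl ⟨hx, h⟩
          refine Or.inr ⟨mul_mem hx₀ hx, ?_⟩
          have h1 := hpair x hx h
          have h2 := hpair x₀ hx₀ hx₀τ
          have e : τ (x₀ * x) = (x₀ * σ x * x₀⁻¹) * (σ x₀)⁻¹ := by
            have e1 : τ (x₀ * x) = (x₀ * σ x * x₀⁻¹) * (x₀ * a⁻¹ * x₀⁻¹) * a⁻¹ := by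
              simp only [hτ, hσ]; group
            have e2 : (x₀ * a⁻¹ * x₀⁻¹) * a⁻¹ = (σ x₀)⁻¹ := by
              rw [hσ]
              simp only [mul_inv_rev, inv_inv]
              rw [hAc _ (inv_mem haA) (x₀ * (a⁻¹ * x₀⁻¹))
                (by rw [← mul_assoc]; exact hAn.conj_mem _ (inv_mem haA) x₀)]
              group
            rw [e1, mul_assoc, e2]
          rw [e]
          exact hmulA (hAn.conj_mem _ (hσA x) x₀) (inv_mem (hσA x₀)) (hsmall (hσA x) h1)
            (by rw [← mul_inv_rev, h2, inv_one])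
        let f : K × Bool → {x // x ∈ E} := fun p =>
          if p.2 then ⟨x₀⁻¹ * p.1, mul_mem (inv_mem hx₀) p.1.2.1⟩ else ⟨p.1, p.1.2.1⟩
        have hf : Function.Surjective f := by
          rintro ⟨x, hx⟩
          rcases hcov x hx with h | h
          · exact ⟨(⟨x, h⟩, false), by simp [f]⟩
          · exact ⟨(⟨x₀ * x, h⟩, true), by simp [f]⟩
        have := Nat.card_le_card_of_surjective f hf
        rw [Nat.card_prod, Nat.card_eq_fintype_card (α := Bool), Fintype.card_bool] at this
        exact this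
    by_contra hcon
    push Not at hcon
    have hKA : ∀ x ∈ K, x ∈ A := fun x hx => by_contra fun h => hcon x hx.1 h hx.2
    have hK2 : Nat.card K ≤ 2 := by
      haveI : Fintype K := Fintype.ofFinite K
      rw [Nat.card_eq_fintype_card]
      by_contra hlt
      obtain ⟨b₁, b₂, b₃, h12, h13, h23⟩ := Fintype.two_lt_card_iff.mp (not_le.mp hlt)
      have key : ∀ b b' : K, (b : P) ≠ 1 → (b' : P) ≠ 1 → b = b' := fun b b' hb hb' =>
        Subtype.ext (hEA _ b.2.1 _ b'.2.1 (hKA _ b.2) (hKA _ b'.2) hb hb')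
      by_cases h1 : (b₁ : P) = 1
      · exact h23 (key b₂ b₃ (fun h => h12 (Subtype.ext (h1.trans h.symm)))
          (fun h => h13 (Subtype.ext (h1.trans h.symm))))
      · by_cases h2 : (b₂ : P) = 1
        · exact h13 (key b₁ b₃ h1 (fun h => h23 (Subtype.ext (h2.trans h.symm))))
        · exact h12 (key b₁ b₂ h1 h2)
    omega
  -- `z`, the involution of `A`
  set z := τ e with hz
  have hzA : z ∈ A := hτA e
  have hz1 : z ≠ 1 := fun h => heA (hCa e (by
    rw [hz] at h
    simp only [hτ] at h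
    rwa [mul_inv_eq_one, mul_inv_eq_iff_eq_mul] at h))
  have hzc : ∀ g : P, g * z = z * g := fun g => by
    have h := hfix (x := g) hzA heτ
    exact mul_inv_eq_iff_eq_mul.mp h
  have hconj : e * a * e⁻¹ = z * a := by rw [hz]; simp only [hτ]; group
  -- `a` has order at least eight
  have ha4 : ¬ a ^ 4 = 1 := by
    intro h4
    -- then every commutator is an involution, so `E` acts through a group of order two
    have hall : ∀ x ∈ E, τ x * τ x = 1 := by
      intro x hx
      by_contra hne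
      have h1 := hpair x hx hne
      have hττ : τ x * τ x = σ x * σ x * (a ^ 4)⁻¹ := by
        have hc1 : Commute (x * a * x⁻¹) a⁻¹ := hAc _ (hAn.conj_mem a haA x) _ (inv_mem haA)
        have hc2 : Commute (x * a * x⁻¹) a := hAc _ (hAn.conj_mem a haA x) _ haA
        simp only [hτ, hσ]
        rw [← pow_two, ← pow_two, hc1.mul_pow, hc2.mul_pow]
        group
      exact hne (by rw [hττ, h1, h4, inv_one, mul_one])
    have hin : ∀ x ∈ E, x ∈ A ∨ x * e ∈ A := by
      intro x hx
      by_cases h : τ x = 1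
      · left
        refine hCa x ?_
        simp only [hτ] at h
        rwa [mul_inv_eq_one, mul_inv_eq_iff_eq_mul] at h
      · right
        refine hCa (x * e) ?_
        have e1 : τ x = z := huniq _ (hτA x) z hzA (hall x hx) h heτ hz1
        have e2 : τ (x * e) = 1 := by
          rw [hτmul, ← hz, hzc x, mul_inv_cancel_right, e1]
          exact heτ
        simp only [hτ] at e2
        rwa [mul_inv_eq_one, mul_inv_eq_iff_eq_mul] at e2
    haveI : Fintype E := Fintype.ofFinite E
    -- four values at most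
    let f : E → Bool × Bool := fun x =>
      (decide ((x : P) ∈ A), decide ((x : P) = 1 ∨ (x : P) * e = 1))
    have hf : Function.Injective f := by
      intro x y hxy
      simp only [f, Prod.mk.injEq, decide_eq_decide] at hxy
      apply Subtype.ext
      by_cases hxA : (x : P) ∈ A
      · have hyA := hxy.1.mp hxA
        by_cases hx1 : (x : P) = 1
        · rcases hxy.2.mp (Or.inl hx1) with h | h
          · rw [hx1, h]
          · exact absurd (by
              rw [eq_inv_of_mul_eq_one_left h] at hyA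
              simpa using inv_mem hyA) heA
        · by_cases hy1 : (y : P) = 1
          · rcases hxy.2.mpr (Or.inl hy1) with h | h
            · exact absurd h hx1
            · exact absurd (by
                rw [eq_inv_of_mul_eq_one_left h] at hxA
                simpa using inv_mem hxA) heA
          · exact hEA _ x.2 _ y.2 hxA hyA hx1 hy1
      · have hyA : (y : P) ∉ A := fun h => hxA (hxy.1.mpr h)
        have hx' := (hin _ x.2).resolve_left hxA
        have hy' := (hin _ y.2).resolve_left hyA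
        by_cases hx1 : (x : P) * e = 1
        · rcases hxy.2.mp (Or.inr hx1) with h | h
          · exact absurd (h ▸ one_mem A) hyA
          · exact mul_right_cancel (hx1.trans h.symm)
        · by_cases hy1 : (y : P) * e = 1
          · rcases hxy.2.mpr (Or.inr hy1) with h | h
            · exact absurd (h ▸ one_mem A) hxA
            · exact absurd h hx1
          · exact mul_right_cancel (hEA _ (mul_mem x.2 heE) _ (mul_mem y.2 heE) hx' hy' hx1 hy1)
    have := Fintype.card_le_of_injective f hf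
    rw [← Nat.card_eq_fintype_card, Fintype.card_prod, Fintype.card_bool] at this
    omega
  have hWm : ∀ x : P, τ x * τ x = 1 → x ∈ A ∨ x * e ∈ A := by
    intro x hx
    by_cases h : τ x = 1
    · left
      refine hCa x ?_
      simp only [hτ] at h
      rwa [mul_inv_eq_one, mul_inv_eq_iff_eq_mul] at h
    · right
      refine hCa (x * e) ?_
      have e1 : τ x = z := huniq _ (hτA x) z hzA hx h heτ hz1
      have e2 : τ (x * e) = 1 := by
        rw [hτmul, ← hz, hzc x, mul_inv_cancel_right, e1]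
        exact heτ
      simp only [hτ] at e2
      rwa [mul_inv_eq_one, mul_inv_eq_iff_eq_mul] at e2
  have he2 : e * e = 1 := by rw [← pow_two]; exact hE.2 e heE
  -- the normal four-group
  have hU : ∀ x : P, x * x = 1 → τ x * τ x = 1 → x = 1 ∨ x = z ∨ x = e ∨ x = z * e := by
    intro x hx2 hxτ
    rcases hWm x hxτ with h | h
    · by_cases h1 : x = 1
      · exact Or.inl h1
      · exact Or.inr (Or.inl (huniq x h z hzA hx2 h1 heτ hz1))
    · obtain ⟨i, hi⟩ := hgenA _ h
      have hxi : x = a ^ i * e := by rw [hi, mul_assoc, he2, mul_one]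
      have hca : e * a ^ i * e⁻¹ = z ^ i * a ^ i := by
        rw [← conj_zpow, hconj, (show Commute z a from (hzc a).symm).mul_zpow]
      have hsq : z ^ i * a ^ (2 * i) = 1 := by
        rw [← hx2, hxi]
        calc z ^ i * a ^ (2 * i) = z ^ i * (a ^ i * a ^ i) := by rw [two_mul, zpow_add]
          _ = a ^ i * (z ^ i * a ^ i) := by
            rw [← mul_assoc (a ^ i), hAc (a ^ i) (zpow_mem haA i) (z ^ i) (zpow_mem hzA i), mul_assoc]
          _ = a ^ i * (e * a ^ i * e⁻¹) := by rw [hca]
          _ = a ^ i * e * (a ^ i * e) := by rw [inv_eq_of_mul_eq_one_right he2]; group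
      rcases Int.even_or_odd i with ⟨j, hj⟩ | ⟨j, hj⟩
      · have hzi : z ^ i = 1 := by rw [hj, ← two_mul, zpow_mul, zpow_two, heτ, one_zpow]
        rw [hzi, one_mul, two_mul, zpow_add] at hsq
        by_cases h1 : a ^ i = 1
        · exact Or.inr (Or.inr (Or.inl (by rw [hxi, h1, one_mul])))
        · exact Or.inr (Or.inr (Or.inr (by
            rw [hxi, huniq _ (zpow_mem haA i) z hzA hsq h1 heτ hz1])))
      · exfalso
        have hzi : z ^ i = z := by
          rw [hj, zpow_add, zpow_mul, zpow_two, heτ, one_zpow, one_mul, zpow_one]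
        rw [hzi] at hsq
        have h4 : a ^ (4 * i) = 1 := by
          have h' : a ^ (2 * i) = z⁻¹ := eq_inv_of_mul_eq_one_right hsq
          rw [show (4 : ℤ) * i = 2 * i + 2 * i by ring, zpow_add, h', ← mul_inv_rev, heτ, inv_one]
        have hd : (orderOf a : ℤ) ∣ 4 * i := orderOf_dvd_iff_zpow_eq_one.mpr h4
        rw [hn] at hd
        push_cast at hd
        have hco : IsCoprime ((2 : ℤ) ^ n) i := IsCoprime.pow_left ⟨-j, 1, by rw [hj]; ring⟩
        have hd4 : (orderOf a : ℤ) ∣ 4 := by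
          rw [hn]; push_cast
          exact hco.dvd_of_dvd_mul_right hd
        rw [orderOf_dvd_iff_zpow_eq_one] at hd4
        exact ha4 (by exact_mod_cast hd4)
  have hez : e * z = z * e := hzc e
  let U : Subgroup P :=
    { carrier := {x | x * x = 1 ∧ τ x * τ x = 1}
      mul_mem' := fun {x y} hx hy => by
        refine ⟨?_, by rw [hτmul, hfix (hτA y) hy.2]; exact hmulA (hτA y) (hτA x) hy.2 hx.2⟩
        have hcomm : ∀ u v : P, (u = 1 ∨ u = z ∨ u = e ∨ u = z * e) → (v = 1 ∨ v = z ∨ v = e ∨ v = z * e) →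
            Commute u v := by
          have c : ∀ u : P, Commute u z := fun u => hzc u
          intro u v hu hv
          have cu : Commute u e := by
            rcases hu with rfl | rfl | rfl | rfl
            · exact Commute.one_left e
            · exact (c e).symm
            · exact Commute.refl _
            · exact Commute.mul_left (c e).symm (Commute.refl e)
          rcases hv with rfl | rfl | rfl | rfl
          · exact Commute.one_right u
          · exact c u
          · exact cu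
          · exact (c u).mul_right cu
        have h := hcomm x y (hU x hx.1 hx.2) (hU y hy.1 hy.2)
        rw [mul_assoc, ← mul_assoc y x y, ← h.eq, mul_assoc x y y, hy.1, mul_one, hx.1]
      one_mem' := ⟨one_mul 1, by simp [hτ]⟩
      inv_mem' := fun {x} hx => by
        rw [inv_eq_of_mul_eq_one_right hx.1]; exact hx }
  refine ⟨U, ⟨fun x hx g => ⟨?_, ?_⟩⟩, eab_of_commute (fun x hx y hy => ?_) (fun x hx => ?_), ?_⟩
  · rw [show g * x * g⁻¹ * (g * x * g⁻¹) = g * (x * x) * g⁻¹ by group, hx.1, mul_one, mul_inv_cancel]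
  · obtain ⟨i, hi⟩ := hgenA _ (hAn.conj_mem a haA g⁻¹)
    rw [inv_inv] at hi
    have h1 : τ (g * x * g⁻¹) = g * (x * a ^ i * x⁻¹ * (a ^ i)⁻¹) * g⁻¹ := by
      rw [hi]; simp only [hτ]; group
    rw [h1]
    refine hsmall (mul_mem (hAn.conj_mem _ (zpow_mem haA i) x) (inv_mem (zpow_mem haA i))) ?_
    have hc1 : Commute (x * a * x⁻¹) a⁻¹ := hAc _ (hAn.conj_mem a haA x) _ (inv_mem haA)
    have h2 : x * a ^ i * x⁻¹ * (a ^ i)⁻¹ = τ x ^ i := by
      simp only [hτ]
      rw [hc1.mul_zpow, conj_zpow, inv_zpow]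
    rw [h2, ← (Commute.refl (τ x)).mul_zpow, hx.2, one_zpow]
  · have h : y * x = x * y := by
      have hxy : x * y * (x * y) = 1 := (mul_mem (show x ∈ U from hx) (show y ∈ U from hy) : x * y ∈ U).1
      rw [← inv_eq_of_mul_eq_one_right hxy, mul_inv_rev, inv_eq_of_mul_eq_one_right hy.1,
        inv_eq_of_mul_eq_one_right hx.1]
    exact h.symm
  · rw [pow_two]; exact hx.1
  · haveI : Fintype U := Fintype.ofFinite U
    have heU : e ∈ U := ⟨he2, heτ⟩
    have hzU : z ∈ U := ⟨heτ, by
      have : τ z = 1 := by simp only [hτ]; rw [← hzc a]; group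
      rw [this, one_mul]⟩
    rw [Nat.card_eq_fintype_card, ← Finset.card_univ,
      show (Finset.univ : Finset U) = {1, ⟨z, hzU⟩, ⟨e, heU⟩, ⟨z * e, mul_mem hzU heU⟩} by
        ext ⟨x, hx⟩
        simp only [Finset.mem_univ, Finset.mem_insert, Finset.mem_singleton, true_iff, Subtype.mk_eq_mk]
        rcases hU x hx.1 hx.2 with h | h | h | h
        · exact Or.inl (Subtype.ext h)
        · exact Or.inr (Or.inl h)
        · exact Or.inr (Or.inr (Or.inl h))
        · exact Or.inr (Or.inr (Or.inr h))]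
    have he1 : e ≠ 1 := fun h => heA (h ▸ one_mem A)
    have hzeA : z ≠ e := fun h => heA (h ▸ hzA)
    have hze1 : z * e ≠ 1 := fun h => heA (by
      rw [eq_inv_of_mul_eq_one_right h]; exact inv_mem hzA)
    rw [Finset.card_insert_of_notMem, Finset.card_insert_of_notMem, Finset.card_pair]
    · norm_num
    · exact fun h => hz1 (mul_eq_right.mp (congrArg Subtype.val h).symm)
    · simp only [Finset.mem_insert, Finset.mem_singleton, Subtype.mk_eq_mk, not_or]
      exact ⟨hzeA, fun h => he1 (mul_eq_left.mp h.symm)⟩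
    · simp only [Finset.mem_insert, Finset.mem_singleton, not_or]
      exact ⟨fun h => hz1 (congrArg Subtype.val h).symm, fun h => he1 (congrArg Subtype.val h).symm,
        fun h => hze1 (congrArg Subtype.val h).symm⟩

/-- normal elementary abelian subgroup of order `p²` -/
theorem exists_normal_sq (hP : IsPGroup p P) (hrk : ¬ PRankLE p 2 P) :
    ∃ U : Subgroup P, U.Normal ∧ IsElementaryAbelian p U ∧ Nat.card U = p ^ 2 := by
  simp only [PRankLE, not_forall, not_le] at hrk
  obtain ⟨E, hEc, hEe, hE⟩ := hrk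
  by_cases h2 : p = 2
  · subst h2
    exact exists_normal_four_of_rank hP ⟨hEc, hEe⟩ hE
  · refine Cfsg.Agent.S0126.result h2 hP fun hcyc => ?_
    haveI := hcyc
    have hEcyc : IsCyclic E := inferInstance
    obtain ⟨x, hx⟩ := hEcyc.exists_generator
    have h1 : Nat.card E = orderOf x := (orderOf_eq_card_of_forall_mem_zpowers hx).symm
    have h2 : orderOf x ∣ p := orderOf_dvd_of_pow_eq_one (Subtype.ext (hEe x x.2))
    rw [h1] at hE
    have h3 := Nat.le_of_dvd hp.out.pos h2
    have : p ≤ p ^ 2 := Nat.le_self_pow two_ne_zero p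
    omega

/-- an elementary abelian subgroup loses at most a factor `p` in the centraliser of a normal one of order
`p²` -/
theorem card_le_inf_centralizer_mul (hP : IsPGroup p P) {U E : Subgroup P} [U.Normal]
    (hU : Nat.card U = p ^ 2) :
    Nat.card E ≤ Nat.card (E ⊓ centralizer (U : Set P) : Subgroup P) * p := by
  classical
  have hpp := hp.out
  haveI : Group.IsNilpotent P := hP.isNilpotent
  have hUne : U ≠ ⊥ := fun h => by
    rw [h, Subgroup.card_bot] at hU
    exact (Nat.one_lt_pow two_ne_zero hpp.one_lt).ne hU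
  obtain ⟨z, hz, hz1⟩ :=
    (bot_or_exists_ne_one _).resolve_left (Cfsg.Agent.Lib.Solvable.inf_center_ne_bot hUne)
  -- an element of `U` outside `⟨z⟩`, or `z` generates
  by_cases hall : ∀ y ∈ U, y ∈ zpowers z
  · have hle : E ≤ E ⊓ centralizer (U : Set P) := fun x hx => ⟨hx, mem_centralizer_iff.mpr fun y hy => by
      obtain ⟨k, rfl⟩ := mem_zpowers_iff.mp (hall y hy)
      exact (mem_center_iff.mp (Subgroup.zpow_mem (center P) hz.2 k) x).symm⟩
    exact (Subgroup.card_le_of_le hle).trans (Nat.le_mul_of_pos_right _ hpp.pos)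
  push Not at hall
  obtain ⟨y, hy, hyz⟩ := hall
  have hgen : closure ({z, y} : Set P) = U := by
    have hle : closure ({z, y} : Set P) ≤ U := (closure_le _).mpr (by
      rintro x (rfl | rfl)
      · exact hz.1
      · exact hy)
    refine Subgroup.eq_of_le_of_card_ge hle ?_
    obtain ⟨i, hi⟩ := IsPGroup.iff_card.mp (hP.to_subgroup (closure ({z, y} : Set P)))
    have hlt : Nat.card (zpowers z) < Nat.card (closure ({z, y} : Set P)) := by
      by_contra h
      have e := Subgroup.eq_of_le_of_card_ge (zpowers_le.mpr (subset_closure (Set.mem_insert z _)))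
        (not_lt.mp h)
      exact hyz (e.symm ▸ subset_closure (Set.mem_insert_of_mem _ rfl))
    obtain ⟨j, hj⟩ := (IsPGroup.iff_orderOf.mp hP) z
    rw [Nat.card_zpowers, hj, hi, Nat.pow_lt_pow_iff_right hpp.one_lt] at hlt
    have hj1 : j ≠ 0 := fun h => hz1 (orderOf_eq_one_iff.mp (by rw [hj, h, pow_zero]))
    rw [hi, hU]
    exact Nat.pow_le_pow_right hpp.pos (by omega)
  haveI : Fintype E := Fintype.ofFinite E
  let K : Subgroup E := (centralizer (U : Set P)).subgroupOf E
  have hKc : Nat.card K = Nat.card (E ⊓ centralizer (U : Set P) : Subgroup P) := by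
    rw [show K = (E ⊓ centralizer (U : Set P) : Subgroup P).subgroupOf E by ext x; simp [K, mem_subgroupOf]]
    exact Nat.card_congr (Subgroup.subgroupOfEquivOfLe inf_le_left).toEquiv
  let f : E ⧸ K → {w : U // w ≠ 1} := fun c => ⟨⟨(c.out : P) * y * (c.out : P)⁻¹,
    ‹U.Normal›.conj_mem y hy _⟩, fun h => hyz (by
      have h' : (c.out : P) * y * (c.out : P)⁻¹ = 1 := congrArg Subtype.val h
      have : y = 1 := conj_eq_one_iff.mp h'
      exact this ▸ one_mem _)⟩
  have hf : Function.Injective f := by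
    intro c d h
    have h' : (c.out : P) * y * (c.out : P)⁻¹ = (d.out : P) * y * (d.out : P)⁻¹ :=
      congrArg (fun w : {w : U // w ≠ 1} => ((w : U) : P)) h
    rw [← QuotientGroup.out_eq' c, ← QuotientGroup.out_eq' d, QuotientGroup.eq]
    change ((c.out⁻¹ * d.out : E) : P) ∈ centralizer (U : Set P)
    rw [← hgen, mem_centralizer_iff]
    intro w hw
    refine closure_induction (fun v hv => ?_) (by simp) (fun a b _ _ ha hb => ?_) (fun a _ ha => ?_) hw
    · rcases hv with rfl | rfl
      · exact (mem_center_iff.mp hz.2 _).symm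
      · rw [Subgroup.coe_mul, Subgroup.coe_inv]
        calc v * ((c.out : P)⁻¹ * d.out) = (c.out : P)⁻¹ * ((c.out : P) * v * (c.out : P)⁻¹) * d.out := by group
          _ = (c.out : P)⁻¹ * ((d.out : P) * v * (d.out : P)⁻¹) * d.out := by rw [h']
          _ = _ := by group
    · rw [mul_assoc, hb, ← mul_assoc, ha, mul_assoc]
    · exact ((show Commute a _ from ha).inv_left).eq
  haveI : Fintype U := Fintype.ofFinite U
  have hq : Nat.card (E ⧸ K) ≤ p ^ 2 - 1 := by
    refine (Nat.card_le_card_of_injective f hf).trans ?_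
    rw [Nat.card_eq_fintype_card, Fintype.card_subtype_compl, Fintype.card_subtype_eq,
      ← Nat.card_eq_fintype_card, hU]
  have hqp : Nat.card (E ⧸ K) ≤ p := by
    obtain ⟨i, hi⟩ := ((hP.to_subgroup E).index K)
    rw [Subgroup.index] at hi
    rw [hi] at hq ⊢
    have h1 : 0 < p ^ 2 := Nat.pow_pos hpp.pos
    have : p ^ i < p ^ 2 := by omega
    rw [Nat.pow_lt_pow_iff_right hpp.one_lt] at this
    calc p ^ i ≤ p ^ 1 := Nat.pow_le_pow_right hpp.pos (by omega)
      _ = p := pow_one p
  calc Nat.card E = Nat.card (E ⧸ K) * Nat.card K := Subgroup.card_eq_card_quotient_mul_card_subgroup K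
    _ ≤ p * Nat.card K := Nat.mul_le_mul_right _ hqp
    _ = _ := by rw [hKc, mul_comm]

/-- the join of commuting elementary abelian subgroups -/
theorem eab_sup {X Y : Subgroup P} (hX : IsElementaryAbelian p X) (hY : IsElementaryAbelian p Y)
    (hc : ∀ a ∈ X, ∀ b ∈ Y, a * b = b * a) : IsElementaryAbelian p (X ⊔ Y : Subgroup P) := by
  have hXc : X ⊔ Y ≤ centralizer (X : Set P) := sup_le
    (fun a ha => mem_centralizer_iff.mpr fun b hb => eab_commute hX hb ha)
    (fun b hb => mem_centralizer_iff.mpr fun a ha => hc a ha b hb)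
  have hYc : X ⊔ Y ≤ centralizer (Y : Set P) := sup_le
    (fun a ha => mem_centralizer_iff.mpr fun b hb => (hc a ha b hb).symm)
    (fun b hb => mem_centralizer_iff.mpr fun a ha => eab_commute hY ha hb)
  have hc2 : ∀ a ∈ X ⊔ Y, ∀ b ∈ X ⊔ Y, a * b = b * a := fun a ha b hb => by
    have hle : X ⊔ Y ≤ centralizer ((X ⊔ Y : Subgroup P) : Set P) := by
      rw [le_centralizer_iff]
      exact sup_le (le_centralizer_iff.mp hXc) (le_centralizer_iff.mp hYc)
    exact mem_centralizer_iff.mp (hle hb) a ha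
  refine eab_of_commute hc2 fun a ha => ?_
  rw [sup_eq_closure] at ha
  refine closure_induction (fun v hv => ?_) (one_pow p) (fun u v hu hv h1 h2 => ?_) (fun u _ h1 => ?_) ha
  · rcases hv with hv | hv
    · exact hX.2 v hv
    · exact hY.2 v hv
  · rw [← sup_eq_closure] at hu hv
    rw [Commute.mul_pow (hc2 u hu v hv), h1, h2, one_mul]
  · rw [inv_pow, h1, inv_one]

end Cfsg.Agent.Lib.Components
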