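import Cfsg.Agent.Lib.Components.PRank
import Mathlib.GroupTheory.Commutator.Basic
import Mathlib.Data.Nat.Choose.Dvd

/-!
For odd `p` a `p`-group of rank at least four has a normal elementary abelian subgroup of order at least
`p⁴`; connectivity of the commuting graph for `p = 3`.
-/

set_option autoImplicit false

namespace Cfsg.Agent.Lib.Components

open Subgroup Cfsg
open scoped commutatorElement

universe u

variable {G : Type u} [Group G]

theorem mul_pow_class_two {a b d : G} (hd : ∀ x : G, x = a ∨ x = b → Commute d x)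
    (h : b * a = d * (a * b)) (n : ℕ) : (a * b) ^ n = d ^ n.choose 2 * (a ^ n * b ^ n) := by
  have hda : Commute d a := hd a (Or.inl rfl)
  have hdb : Commute d b := hd b (Or.inr rfl)
  have hb : ∀ m : ℕ, b ^ m * a = d ^ m * (a * b ^ m) := by
    intro m
    induction m with
    | zero => simp
    | succ m ih =>
      calc b ^ (m + 1) * a = b * (b ^ m * a) := by rw [pow_succ', mul_assoc]
        _ = (b * d ^ m) * (a * b ^ m) := by rw [ih, mul_assoc]
        _ = d ^ m * ((b * a) * b ^ m) := by rw [← (hdb.pow_left m).eq]; simp only [mul_assoc]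
        _ = d ^ m * (d * (a * b) * b ^ m) := by rw [h]
        _ = d ^ (m + 1) * (a * b ^ (m + 1)) := by rw [pow_succ d, pow_succ' b]; simp only [mul_assoc]
  induction n with
  | zero => simp
  | succ n ih =>
    have hda' : Commute (d ^ n) (a ^ n) := hda.pow_pow n n
    calc (a * b) ^ (n + 1) = d ^ n.choose 2 * (a ^ n * ((b ^ n * a) * b)) := by
          rw [pow_succ, ih]; simp only [mul_assoc]
      _ = d ^ n.choose 2 * ((a ^ n * d ^ n) * (a * b ^ n * b)) := by rw [hb]; simp only [mul_assoc]
      _ = d ^ n.choose 2 * ((d ^ n * a ^ n) * (a * b ^ n * b)) := by rw [hda'.eq]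
      _ = d ^ (n.choose 2 + n) * (a ^ (n + 1) * b ^ (n + 1)) := by
          rw [pow_add, pow_succ a, pow_succ b]; simp only [mul_assoc]
      _ = _ := by rw [Nat.choose_succ_succ, Nat.choose_one_right, add_comm]

theorem mul_pow_eq_one_of_class_two {p : ℕ} (hp : p.Prime) (hodd : p ≠ 2) {a b d : G}
    (hd : ∀ x : G, x = a ∨ x = b → Commute d x) (h : b * a = d * (a * b)) (hdp : d ^ p = 1)
    (ha : a ^ p = 1) (hb : b ^ p = 1) : (a * b) ^ p = 1 := by
  have h2 : 2 < p := lt_of_le_of_ne hp.two_le (Ne.symm hodd)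
  obtain ⟨k, hk⟩ := hp.dvd_choose_self two_ne_zero h2
  rw [mul_pow_class_two hd h p, ha, hb, hk, pow_mul, hdp, one_pow, one_mul, one_mul]

variable [Finite G] {p : ℕ} [hp : Fact p.Prime]

/-- an element of order `p` outside a central subgroup can be chosen with all commutators inside it -/
theorem exists_low_element (hodd : p ≠ 2) (hG : IsPGroup p G) {N : Subgroup G} (hNc : N ≤ center G)
    {m₀ : G} (hm₀ : m₀ ^ p = 1) (hm₀N : m₀ ∉ N) :
    ∃ m : G, m ^ p = 1 ∧ m ∉ N ∧ ∀ g : G, ⁅m, g⁆ ∈ N := by
  classical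
  have hpp := hp.out
  haveI : Group.IsNilpotent G := hG.isNilpotent
  obtain ⟨n, hn⟩ := Subgroup.nilpotent_iff_lowerCentralSeries.mp ‹Group.IsNilpotent G›
  set γ := fun i => (⊤ : Subgroup G).lowerCentralSeries i with hγ
  let good : ℕ → Prop := fun j => ∃ m ∈ γ j, m ^ p = 1 ∧ m ∉ N
  have hbound : ∀ j, good j → j < n := by
    rintro j ⟨m, hm, -, hmN⟩
    by_contra hle
    apply hmN
    have hanti : ∀ i, γ (n + i) = ⊥ := by
      intro i
      induction i with
      | zero => exact hn
      | succ i ih => change ⁅γ (n + i), _⁆ = ⊥; rw [ih]; exact commutator_bot_left _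
    rw [show j = n + (j - n) by omega, hanti, mem_bot] at hm
    exact hm ▸ one_mem _
  have h0 : good 0 := ⟨m₀, mem_top _, hm₀, hm₀N⟩
  let j := Nat.findGreatest good n
  have hj : good j := Nat.findGreatest_spec (P := good) (Nat.zero_le n) h0
  have hnext : ¬ good (j + 1) := by
    intro h
    have := Nat.le_findGreatest (P := good) (hbound _ h).le h
    omega
  obtain ⟨m, hm, hmp, hmN⟩ := hj
  have hlow : ∀ c ∈ γ (j + 1), c ^ p = 1 → c ∈ N := fun c hc hcp =>
    by_contra fun h => hnext ⟨c, hc, hcp, h⟩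
  have hcomm1 : ∀ g : G, ⁅m, g⁆ ∈ γ (j + 1) := fun g => commutator_mem_commutator hm (mem_top g)
  have hcomm2 : ∀ i, ∀ g ∈ γ i, ⁅m, g⁆ ∈ γ (i + 1) := fun i g hg => by
    rw [← commutatorElement_inv]
    exact inv_mem (commutator_mem_commutator hg (mem_top m))
  have key : ∀ i k, i + k = n → ∀ g ∈ γ i, ⁅m, g⁆ ^ p = 1 := by
    intro i k
    induction k generalizing i with
    | zero =>
      intro hi g hg
      rw [add_zero] at hi
      subst hi
      change g ∈ γ i at hg
      rw [hγ] at hg
      simp only at hg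
      rw [hn, mem_bot] at hg
      rw [hg, commutatorElement_one_right, one_pow]
    | succ k ih =>
      intro hi g hg
      set c := ⁅m, g⁆ with hc
      have hd1 : ⁅m, c⁆ ^ p = 1 := ih (i + 1) (by omega) c (hcomm2 i g hg)
      have hdN : ⁅m, c⁆ ∈ N := hlow _ (hcomm1 c) hd1
      have hcen : ∀ x : G, Commute ⁅m, c⁆ x := fun x => (mem_center_iff.mp (hNc hdN) x).symm
      -- `c = m * (g * m⁻¹ * g⁻¹)`
      have h1 : c = m * (g * m⁻¹ * g⁻¹) := by rw [hc, commutatorElement_def]; group
      have hb : (g * m⁻¹ * g⁻¹) ^ p = 1 := by rw [conj_pow, inv_pow, hmp, inv_one, mul_one, mul_inv_cancel]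
      rw [h1]
      refine mul_pow_eq_one_of_class_two hpp hodd (d := ⁅m, c⁆⁻¹) (fun x _ => (hcen x).inv_left) ?_
        (by rw [inv_pow, hd1, inv_one]) hmp hb
      have hb' : g * m⁻¹ * g⁻¹ = m⁻¹ * c := by rw [h1]; group
      rw [hb']
      calc m⁻¹ * c * m = m⁻¹ * (⁅m, c⁆⁻¹ * (m * c)) := by rw [commutatorElement_def]; group
        _ = ⁅m, c⁆⁻¹ * (m⁻¹ * (m * c)) := by rw [← mul_assoc, ← ((hcen m⁻¹).inv_left).eq, mul_assoc]
        _ = _ := by group
  refine ⟨m, hmp, hmN, fun g => hlow _ (hcomm1 g) (key 0 n (zero_add n) g (mem_top g))⟩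

/-- a maximal normal elementary abelian subgroup contains all elements of order `p` of its centraliser -/
theorem mem_of_pow_eq_one (hodd : p ≠ 2) (hG : IsPGroup p G) {N : Subgroup G} [N.Normal]
    (hN : IsElementaryAbelian p N)
    (hmax : ∀ M : Subgroup G, M.Normal → IsElementaryAbelian p M → N ≤ M → M = N)
    {c : G} (hc : c ∈ centralizer (N : Set G)) (hcp : c ^ p = 1) : c ∈ N := by
  classical
  have hpp := hp.out
  by_contra hcN
  set C := centralizer (N : Set G) with hC
  have hNC : N ≤ C := fun x hx => mem_centralizer_iff.mpr fun y hy => eab_commute hN hy hx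
  have hcen : N.subgroupOf C ≤ center C := fun x hx => mem_center_iff.mpr fun g => Subtype.ext
    (mem_centralizer_iff.mp g.2 (x : G) (mem_subgroupOf.mp hx)).symm
  obtain ⟨m, hmp, hmN, hmc⟩ := exists_low_element hodd (hG.to_subgroup C) hcen (m₀ := ⟨c, hc⟩)
    (Subtype.ext hcp) (fun h => hcN (mem_subgroupOf.mp h))
  have hcomm : ∀ a : G, a ∈ N → ∀ g ∈ C, a * g = g * a := fun a ha g hg => mem_centralizer_iff.mp hg a ha
  let R : Subgroup G :=
    { carrier := {a | a ∈ C ∧ a ^ p = 1 ∧ ∀ g ∈ C, ⁅a, g⁆ ∈ N}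
      mul_mem' := by
        rintro a b ⟨ha, hap, hac⟩ ⟨hb, hbp, hbc⟩
        refine ⟨mul_mem ha hb, ?_, fun g hg => ?_⟩
        · have hd : ⁅b, a⁆ ∈ N := hbc a ha
          refine mul_pow_eq_one_of_class_two hpp hodd (d := ⁅b, a⁆) ?_ (by rw [commutatorElement_def]; group)
            (hN.2 _ hd) hap hbp
          rintro x (rfl | rfl)
          · exact hcomm _ hd _ ha
          · exact hcomm _ hd _ hb
        · have h1 : ⁅a * b, g⁆ = a * ⁅b, g⁆ * a⁻¹ * ⁅a, g⁆ := by simp only [commutatorElement_def]; group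
          rw [h1]
          exact mul_mem (‹N.Normal›.conj_mem _ (hbc g hg) a) (hac g hg)
      one_mem' := ⟨one_mem _, one_pow p, fun g _ => by rw [commutatorElement_one_left]; exact one_mem _⟩
      inv_mem' := by
        rintro a ⟨ha, hap, hac⟩
        refine ⟨inv_mem ha, by rw [inv_pow, hap, inv_one], fun g hg => ?_⟩
        have h1 : ⁅a⁻¹, g⁆ = a⁻¹ * ⁅a, g⁆⁻¹ * a⁻¹⁻¹ := by simp only [commutatorElement_def]; group
        rw [h1]
        exact ‹N.Normal›.conj_mem _ (inv_mem (hac g hg)) a⁻¹ }
  haveI : C.Normal := Subgroup.normal_centralizer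
  haveI : R.Normal := ⟨fun a ha g => ⟨‹C.Normal›.conj_mem a ha.1 g, by
    rw [conj_pow, ha.2.1, mul_one, mul_inv_cancel], fun x hx => by
    have h1 : ⁅g * a * g⁻¹, x⁆ = g * ⁅a, g⁻¹ * x * g⁻¹⁻¹⁆ * g⁻¹ := by simp only [commutatorElement_def]; group
    rw [h1]
    exact ‹N.Normal›.conj_mem _ (ha.2.2 _ (‹C.Normal›.conj_mem x hx g⁻¹)) g⟩⟩
  have hNR : N ≤ R := fun a ha => ⟨hNC ha, hN.2 a ha, fun g hg => by
    rw [commutatorElement_eq_one_iff_commute.mpr (hcomm a ha g hg)]; exact one_mem _⟩
  have hmR : (m : G) ∈ R := ⟨m.2, congrArg Subtype.val hmp, fun g hg => hmc ⟨g, hg⟩⟩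
  haveI : Group.IsNilpotent (G ⧸ N) := (hG.to_quotient N).isNilpotent
  haveI : (R.map (QuotientGroup.mk' N)).Normal := Normal.map inferInstance _ (QuotientGroup.mk'_surjective N)
  have hne : R.map (QuotientGroup.mk' N) ≠ ⊥ := by
    rw [Ne, Subgroup.map_eq_bot_iff, QuotientGroup.ker_mk']
    exact fun h => hmN (mem_subgroupOf.mpr (h hmR))
  obtain ⟨w, hw, hw1⟩ :=
    (bot_or_exists_ne_one _).resolve_left (Cfsg.Agent.Lib.Solvable.inf_center_ne_bot hne)
  obtain ⟨r, hr, rfl⟩ := hw.1
  let B : Subgroup G := R ⊓ (zpowers (QuotientGroup.mk' N r)).comap (QuotientGroup.mk' N)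
  haveI : ((zpowers (QuotientGroup.mk' N r)).comap (QuotientGroup.mk' N)).Normal := ⟨fun a ha g => by
    obtain ⟨k, hk⟩ := mem_zpowers_iff.mp ha
    rw [mem_comap, map_mul, map_mul, map_inv, ← hk,
      mem_center_iff.mp (Subgroup.zpow_mem (center _) hw.2 k) _, mul_inv_cancel_right]
    exact zpow_mem (mem_zpowers _) k⟩
  have hrep : ∀ x ∈ B, ∃ (k : ℤ) (d : G), d ∈ N ∧ x = r ^ k * d := by
    intro x hx
    obtain ⟨k, hk⟩ := mem_zpowers_iff.mp hx.2
    refine ⟨k, (r ^ k)⁻¹ * x, ?_, by rw [mul_inv_cancel_left]⟩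
    rw [← QuotientGroup.eq_one_iff (N := N)]
    change QuotientGroup.mk' N ((r ^ k)⁻¹ * x) = 1
    rw [map_mul, map_inv, map_zpow, hk, inv_mul_cancel]
  have hB : IsElementaryAbelian p B := eab_of_commute (fun x hx y hy => by
    obtain ⟨k, d, hd, rfl⟩ := hrep x hx
    obtain ⟨l, e, he, rfl⟩ := hrep y hy
    have h1 : Commute d (r ^ l) := hcomm d hd _ (zpow_mem hr.1 l)
    have h2 : Commute e (r ^ k) := hcomm e he _ (zpow_mem hr.1 k)
    exact ((((Commute.refl r).zpow_zpow k l).mul_left h1).mul_right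
      (h2.symm.mul_left (eab_commute hN hd he))).eq) (fun x hx => hx.1.2.1)
  have hNB : N ≤ B := fun x hx => ⟨hNR hx, by
    change QuotientGroup.mk' N x ∈ zpowers (QuotientGroup.mk' N r)
    rw [show QuotientGroup.mk' N x = 1 from (QuotientGroup.eq_one_iff x).mpr hx]
    exact one_mem _⟩
  have hBN := hmax B inferInstance hB hNB
  have hrB : r ∈ B := ⟨hr, mem_zpowers _⟩
  rw [hBN] at hrB
  exact hw1 ((QuotientGroup.eq_one_iff r).mpr hrB)

/-- a map with the commutator rule on an abelian subgroup is a homomorphism -/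
theorem card_le_of_three {N K : Subgroup G} (δ : G → G) (hδ : ∀ a ∈ N, δ a ∈ N)
    (hmul : ∀ a ∈ N, ∀ b ∈ N, δ (a * b) = δ a * δ b) (hker : ∀ a ∈ N, δ a = 1 → a ∈ K)
    (h3 : ∀ a ∈ N, δ (δ (δ a)) = 1) : Nat.card N ≤ Nat.card K ^ 3 := by
  classical
  let f : N →* N := MonoidHom.mk' (fun a => ⟨δ a, hδ a a.2⟩) fun a b => Subtype.ext (hmul a a.2 b b.2)
  have hk : Nat.card f.ker ≤ Nat.card K := Nat.card_le_card_of_injective
    (fun a => (⟨((a : N) : G), hker _ (a : N).2 (congrArg Subtype.val (MonoidHom.mem_ker.mp a.2))⟩ : K))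
    fun a b h => Subtype.ext (Subtype.ext (congrArg (fun x : K => (x : G)) h))
  have hstep : ∀ H : Subgroup N, Nat.card H ≤ Nat.card K * Nat.card (H.map f) := by
    intro H
    let g := f.comp H.subtype
    have h1 : Nat.card H = Nat.card (H ⧸ g.ker) * Nat.card g.ker := Subgroup.card_eq_card_quotient_mul_card_subgroup _
    rw [Nat.card_congr (QuotientGroup.quotientKerEquivRange g).toEquiv,
      show g.range = H.map f by rw [MonoidHom.range_comp, range_subtype], mul_comm] at h1
    rw [h1]
    refine Nat.mul_le_mul_right _ (le_trans ?_ hk)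
    exact Nat.card_le_card_of_injective
      (fun a => (⟨((a : H) : N), MonoidHom.mem_ker.mpr (MonoidHom.mem_ker.mp a.2 : f ((a : H) : N) = 1)⟩ : f.ker))
      fun a b h => Subtype.ext (Subtype.ext (congrArg (fun x : f.ker => (x : N)) h))
  have hlast : (((⊤ : Subgroup N).map f).map f).map f = ⊥ := by
    rw [eq_bot_iff]
    rintro x ⟨y, ⟨z, ⟨w, -, rfl⟩, rfl⟩, rfl⟩
    exact mem_bot.mpr (Subtype.ext (h3 w w.2))
  have e1 := hstep ⊤
  have e2 := hstep ((⊤ : Subgroup N).map f)
  have e3 := hstep (((⊤ : Subgroup N).map f).map f)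
  rw [hlast, Subgroup.card_bot, mul_one] at e3
  rw [Subgroup.card_top] at e1
  calc Nat.card N ≤ _ := e1
    _ ≤ Nat.card K * (Nat.card K * Nat.card K) :=
        Nat.mul_le_mul_left _ (e2.trans (Nat.mul_le_mul_left _ e3))
    _ = _ := by ring

/-- existence of a large normal elementary abelian subgroup -/
theorem exists_normal_four_odd (hodd : p ≠ 2) (hG : IsPGroup p G) {E₀ : Subgroup G}
    (hE₀ : IsElementaryAbelian p E₀) (hE₀c : p ^ 4 ≤ Nat.card E₀) :
    ∃ M : Subgroup G, M.Normal ∧ IsElementaryAbelian p M ∧ p ^ 4 ≤ Nat.card M := by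
  classical
  have hpp := hp.out
  haveI : Group.IsNilpotent G := hG.isNilpotent
  by_contra hcon
  push Not at hcon
  obtain ⟨N, ⟨hNn, hN⟩, hNmax⟩ := Set.exists_max_image {M : Subgroup G | M.Normal ∧ IsElementaryAbelian p M}
    (fun M => Nat.card M) (Set.toFinite _) ⟨⊥, inferInstance,
      eab_of_commute (fun a ha b hb => by rw [mem_bot.mp ha, mem_bot.mp hb])
        (fun a ha => by rw [mem_bot.mp ha, one_pow])⟩
  haveI := hNn
  have hmax : ∀ M : Subgroup G, M.Normal → IsElementaryAbelian p M → N ≤ M → M = N := fun M h1 h2 h3 =>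
    (Subgroup.eq_of_le_of_card_ge h3 (hNmax M ⟨h1, h2⟩)).symm
  have hNlt := hcon N hNn hN
  obtain ⟨i, hi⟩ := IsPGroup.iff_card.mp (hG.to_subgroup N)
  have hi3 : i ≤ 3 := by
    rw [hi, Nat.pow_lt_pow_iff_right hpp.one_lt] at hNlt
    omega
  -- `N` contains a normal subgroup of order `p²`
  have hrk : ¬ PRankLE p 2 G := by
    intro h
    have := h E₀ hE₀.1 hE₀.2
    have h24 : p ^ 2 < p ^ 4 := Nat.pow_lt_pow_right hpp.one_lt (by omega)
    omega
  obtain ⟨U₀, hU₀n, hU₀, hU₀c⟩ := exists_normal_sq hG hrk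
  have hNp : p < Nat.card N := by
    have h1 := hNmax U₀ ⟨hU₀n, hU₀⟩
    rw [hU₀c] at h1
    have : p < p ^ 2 := by
      calc p = p ^ 1 := (pow_one p).symm
        _ < p ^ 2 := Nat.pow_lt_pow_right hpp.one_lt (by omega)
    omega
  obtain ⟨U, hUn, hUN, hU, hUc⟩ := exists_normal_sq_le hG hN hNp
  haveI := hUn
  have hUne : U ≠ ⊥ := fun h => by
    rw [h, Subgroup.card_bot] at hUc
    exact (Nat.one_lt_pow two_ne_zero hpp.one_lt).ne hUc
  obtain ⟨z, hz, hz1⟩ :=
    (bot_or_exists_ne_one _).resolve_left (Cfsg.Agent.Lib.Solvable.inf_center_ne_bot hUne)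
  have hzc : ∀ g : G, g * z = z * g := fun g => mem_center_iff.mp hz.2 g
  have hsub : ∀ {H : Subgroup G}, ∃ j : ℕ, Nat.card H = p ^ j := fun {H} => IsPGroup.iff_card.mp (hG.to_subgroup H)
  have hzp : Nat.card (zpowers z) = p := by rw [Nat.card_zpowers, orderOf_eq_prime (hU.2 z hz.1) hz1]
  have hlt23 : p ^ 2 < p ^ 3 := Nat.pow_lt_pow_right hpp.one_lt (by omega)
  -- structure of any elementary abelian subgroup of order at least `p⁴`
  have hE : ∀ E : Subgroup G, IsElementaryAbelian p E → p ^ 4 ≤ Nat.card E →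
      U ≤ E ∧ E ≤ centralizer (U : Set G) ∧ E ⊓ N = U ∧ Nat.card E = p ^ 4 ∧ Nat.card N = p ^ 3 := by
    intro E hE hEc
    set C := centralizer (N : Set G)
    set D := E ⊓ N with hD
    have hEC : E ⊓ C ≤ D := fun x hx => ⟨hx.1, mem_of_pow_eq_one hodd hG hN hmax hx.2 (hE.2 x hx.1)⟩
    set E₁ := E ⊓ centralizer (U : Set G) with hE₁
    have hE₁c := card_le_inf_centralizer_mul hG (E := E) hUc
    by_cases hNU : Nat.card N ≤ p ^ 2
    · exfalso
      have hNe : U = N := Subgroup.eq_of_le_of_card_ge hUN (by omega)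
      have h1 : E₁ ≤ U := by
        intro x hx
        have : x ∈ E ⊓ C := ⟨hx.1, by rw [show C = centralizer (U : Set G) by rw [hNe]]; exact hx.2⟩
        exact hNe ▸ (hEC this).2
      have h2 := Subgroup.card_le_of_le h1
      rw [hUc] at h2
      have h3 : p ^ 4 ≤ p ^ 3 := by
        calc p ^ 4 ≤ Nat.card E := hEc
          _ ≤ Nat.card E₁ * p := hE₁c
          _ ≤ p ^ 2 * p := Nat.mul_le_mul_right _ h2
          _ = p ^ 3 := by ring
      exact absurd h3 (not_le.mpr (Nat.pow_lt_pow_right hpp.one_lt (by omega)))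
    have hN3 : Nat.card N = p ^ 3 := by
      rw [hi] at hNU ⊢
      rw [not_le, Nat.pow_lt_pow_iff_right hpp.one_lt] at hNU
      rw [show i = 3 by omega]
    -- `N = ⟨U, n⟩`
    obtain ⟨n₀, hn₀, hn₀U⟩ : ∃ n ∈ N, n ∉ U := by
      by_contra h
      push Not at h
      have := Subgroup.card_le_of_le (show N ≤ U from h)
      omega
    have hgen : ∀ n ∈ N, n ∉ U → closure (insert n (U : Set G)) = N := by
      intro n hn hnU
      refine Subgroup.eq_of_le_of_card_ge ((closure_le _).mpr ?_) ?_
      · rintro x (rfl | hx)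
        · exact hn
        · exact hUN hx
      · obtain ⟨j, hj⟩ := hsub (H := closure (insert n (U : Set G)))
        have hlt : Nat.card U < Nat.card (closure (insert n (U : Set G))) := by
          by_contra h
          have e := Subgroup.eq_of_le_of_card_ge (fun x hx => subset_closure (Set.mem_insert_of_mem n hx))
            (not_lt.mp h)
          exact hnU (e.symm ▸ subset_closure (Set.mem_insert n _))
        rw [hUc, hj, Nat.pow_lt_pow_iff_right hpp.one_lt] at hlt
        rw [hN3, hj]
        exact Nat.pow_le_pow_right hpp.pos (by omega)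
    have hcent : ∀ n ∈ N, n ∉ U → ∀ x : G, x ∈ centralizer (U : Set G) → x * n * x⁻¹ = n → x ∈ C := by
      intro n hn hnU x hxU hxn
      have h : closure (insert n (U : Set G)) ≤ centralizer ({x} : Set G) := (closure_le _).mpr (by
        rintro y (rfl | hy)
        · exact mem_centralizer_singleton_iff.mpr (mul_inv_eq_iff_eq_mul.mp hxn).symm
        · exact mem_centralizer_singleton_iff.mpr (mem_centralizer_iff.mp hxU y hy))
      rw [hgen n hn hnU] at h
      exact mem_centralizer_iff.mpr fun y hy => mem_centralizer_singleton_iff.mp (h hy)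
    -- `N / U` is central
    have hw : ∀ x : G, ∀ n ∈ N, x * n * x⁻¹ * n⁻¹ ∈ U := by
      intro x n hn
      by_cases hnU : n ∈ U
      · exact mul_mem (hUn.conj_mem n hnU x) (inv_mem hnU)
      haveI : (N.map (QuotientGroup.mk' U)).Normal :=
        Normal.map inferInstance _ (QuotientGroup.mk'_surjective U)
      haveI : Group.IsNilpotent (G ⧸ U) := (hG.to_quotient U).isNilpotent
      have hne : N.map (QuotientGroup.mk' U) ≠ ⊥ := by
        rw [Ne, Subgroup.map_eq_bot_iff, QuotientGroup.ker_mk']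
        exact fun h => hn₀U (h hn₀)
      obtain ⟨w, hw, hw1⟩ :=
        (bot_or_exists_ne_one _).resolve_left (Cfsg.Agent.Lib.Solvable.inf_center_ne_bot hne)
      obtain ⟨m, hm, rfl⟩ := hw.1
      have hmU : m ∉ U := fun h => hw1 ((QuotientGroup.eq_one_iff m).mpr h)
      have h : ∀ y ∈ closure (insert m (U : Set G)), QuotientGroup.mk' U y ∈ center (G ⧸ U) := by
        intro y hy
        have : closure (insert m (U : Set G)) ≤ (center (G ⧸ U)).comap (QuotientGroup.mk' U) :=
          (closure_le _).mpr (by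
            rintro v (rfl | hv)
            · exact hw.2
            · rw [SetLike.mem_coe, mem_comap, show QuotientGroup.mk' U v = 1 from (QuotientGroup.eq_one_iff v).mpr hv]
              exact one_mem _)
        exact this hy
      have hc := h n ((hgen m hm hmU).symm ▸ hn)
      rw [← QuotientGroup.eq_one_iff (N := U)]
      change QuotientGroup.mk' U (x * n * x⁻¹ * n⁻¹) = 1
      rw [map_mul, map_mul, map_mul, map_inv, map_inv, mem_center_iff.mp hc, mul_inv_cancel_right,
        mul_inv_cancel]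
    -- `E₁` acts on `N` through translations into `U`
    have himg : ∀ (T : Subgroup G), T ≤ U → (∀ e ∈ E₁, e * n₀ * e⁻¹ * n₀⁻¹ ∈ T) →
        Nat.card E₁ ≤ Nat.card T * Nat.card D := by
      intro T hT hTe
      let g : E₁ →* T := MonoidHom.mk' (fun e => ⟨(e : G) * n₀ * (e : G)⁻¹ * n₀⁻¹, hTe e e.2⟩) fun e f => by
        apply Subtype.ext
        change (e : G) * f * n₀ * ((e : G) * f)⁻¹ * n₀⁻¹ =
          (e : G) * n₀ * (e : G)⁻¹ * n₀⁻¹ * ((f : G) * n₀ * (f : G)⁻¹ * n₀⁻¹)
        have hu : (f : G) * n₀ * (f : G)⁻¹ * n₀⁻¹ ∈ U := hw f n₀ hn₀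
        have he : (e : G) * n₀ * (e : G)⁻¹ * n₀⁻¹ ∈ U := hw e n₀ hn₀
        calc (e : G) * f * n₀ * ((e : G) * f)⁻¹ * n₀⁻¹
            = ((e : G) * ((f : G) * n₀ * (f : G)⁻¹ * n₀⁻¹) * (e : G)⁻¹) * ((e : G) * n₀ * (e : G)⁻¹ * n₀⁻¹) := by
              group
          _ = ((f : G) * n₀ * (f : G)⁻¹ * n₀⁻¹) * ((e : G) * n₀ * (e : G)⁻¹ * n₀⁻¹) := by
              rw [← mem_centralizer_iff.mp e.2.2 _ hu, mul_inv_cancel_right]
          _ = _ := eab_commute hU hu he
      have h1 : Nat.card E₁ = Nat.card (E₁ ⧸ g.ker) * Nat.card g.ker := Subgroup.card_eq_card_quotient_mul_card_subgroup _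
      rw [Nat.card_congr (QuotientGroup.quotientKerEquivRange g).toEquiv] at h1
      rw [h1]
      refine Nat.mul_le_mul (Subgroup.card_le_card_group _) ?_
      refine Nat.card_le_card_of_injective (fun x => (⟨((x : E₁) : G), ?_⟩ : D))
        fun a b h => Subtype.ext (Subtype.ext (congrArg (fun v : D => (v : G)) h))
      refine hEC ⟨(x : E₁).2.1, hcent n₀ hn₀ hn₀U _ (x : E₁).2.2 ?_⟩
      have := congrArg Subtype.val (MonoidHom.mem_ker.mp x.2)
      exact mul_inv_eq_one.mp this
    obtain ⟨d, hd⟩ := hsub (H := D)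
    have hd3 : d ≤ 3 := by
      have := Subgroup.card_le_of_le (show D ≤ N from inf_le_right)
      rw [hd, hN3, Nat.pow_le_pow_iff_right hpp.one_lt] at this
      exact this
    -- `E` centralises `U`
    have hEU : E ≤ centralizer (U : Set G) := by
      by_contra hnot
      obtain ⟨f, hf, hfU⟩ := SetLike.not_le_iff_exists.mp hnot
      -- elements of `U` fixed by `f` lie in `⟨z⟩`
      have hfix : ∀ u ∈ U, f * u * f⁻¹ = u → u ∈ zpowers z := by
        intro u hu hfu
        by_contra huz
        apply hfU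
        rw [mem_centralizer_iff]
        have hcl : closure ({z, u} : Set G) = U := by
          refine Subgroup.eq_of_le_of_card_ge ((closure_le _).mpr (by
            rintro x (rfl | rfl)
            · exact hz.1
            · exact hu)) ?_
          obtain ⟨j, hj⟩ := hsub (H := closure ({z, u} : Set G))
          have hlt : Nat.card (zpowers z) < Nat.card (closure ({z, u} : Set G)) := by
            by_contra h
            have e := Subgroup.eq_of_le_of_card_ge (zpowers_le.mpr (subset_closure (Set.mem_insert z _)))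
              (not_lt.mp h)
            exact huz (e.symm ▸ subset_closure (Set.mem_insert_of_mem _ rfl))
          rw [hzp, hj] at hlt
          rw [hUc, hj]
          refine Nat.pow_le_pow_right hpp.pos ?_
          by_contra h
          have : p ^ j ≤ p ^ 1 := Nat.pow_le_pow_right hpp.pos (by omega)
          rw [pow_one] at this
          omega
        intro y hy
        have h : closure ({z, u} : Set G) ≤ centralizer ({f} : Set G) := (closure_le _).mpr (by
          rintro v (rfl | rfl)
          · exact mem_centralizer_singleton_iff.mpr (hzc f).symm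
          · exact mem_centralizer_singleton_iff.mpr (mul_inv_eq_iff_eq_mul.mp hfu).symm)
        rw [hcl] at h
        exact mem_centralizer_singleton_iff.mp (h hy)
      have hT : ∀ e ∈ E₁, ∀ n ∈ N, e * n * e⁻¹ * n⁻¹ ∈ zpowers z := by
        intro e he n hn
        set w := e * n * e⁻¹ * n⁻¹ with hwdef
        have hwU : w ∈ U := hw e n hn
        refine hfix w hwU ?_
        set v := f * n * f⁻¹ * n⁻¹ with hvdef
        have hvU : v ∈ U := hw f n hn
        have hev : e * v * e⁻¹ = v := by rw [← mem_centralizer_iff.mp he.2 v hvU, mul_inv_cancel_right]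
        have hef : e * f = f * e := eab_commute hE he.1 hf
        have key : f * (e * n * e⁻¹) * f⁻¹ = e * (f * n * f⁻¹) * e⁻¹ := by
          calc f * (e * n * e⁻¹) * f⁻¹ = (f * e) * n * (f * e)⁻¹ := by group
            _ = (e * f) * n * (e * f)⁻¹ := by rw [hef]
            _ = _ := by group
        have h1 : e * n * e⁻¹ = w * n := by rw [hwdef]; group
        have h2 : f * n * f⁻¹ = v * n := by rw [hvdef]; group
        rw [h1, h2] at key
        have h3 : f * w * f⁻¹ * (v * n) = v * (w * n) := by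
          calc f * w * f⁻¹ * (v * n) = f * (w * n) * f⁻¹ := by rw [← h2]; group
            _ = e * (v * n) * e⁻¹ := key
            _ = (e * v * e⁻¹) * (e * n * e⁻¹) := by group
            _ = v * (w * n) := by rw [hev, h1]
        have h4 : f * w * f⁻¹ * v = w * v := by
          rw [eab_commute hU hwU hvU]
          refine mul_right_cancel (b := n) ?_
          calc f * w * f⁻¹ * v * n = f * w * f⁻¹ * (v * n) := mul_assoc _ _ _
            _ = v * (w * n) := h3
            _ = v * w * n := (mul_assoc _ _ _).symm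
        exact mul_right_cancel h4
      have hD2 : ∀ x ∈ D, x ∈ U → x ∈ zpowers z := fun x hx hxU => hfix x hxU (by
        rw [eab_commute hE hf hx.1, mul_inv_cancel_right])
      by_cases hDN : D = N
      · have h0 : U ≤ zpowers z := fun x hx => hD2 x (hDN.symm ▸ hUN hx) hx
        have := Subgroup.card_le_of_le h0
        rw [hUc, hzp] at this
        have : p < p ^ 2 := by
          calc p = p ^ 1 := (pow_one p).symm
            _ < p ^ 2 := Nat.pow_lt_pow_right hpp.one_lt (by omega)
        omega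
      have hd2 : d ≤ 2 := by
        by_contra h
        refine hDN (Subgroup.eq_of_le_of_card_ge inf_le_right ?_)
        rw [hd, hN3]
        exact Nat.pow_le_pow_right hpp.pos (by omega)
      have h1 := himg (zpowers z) (zpowers_le.mpr hz.1) (fun e he => hT e he n₀ hn₀)
      rw [hzp, hd] at h1
      have h4 : p ^ 4 ≤ p ^ (d + 2) := by
        calc p ^ 4 ≤ Nat.card E := hEc
          _ ≤ Nat.card E₁ * p := hE₁c
          _ ≤ p * p ^ d * p := Nat.mul_le_mul_right _ h1
          _ = p ^ (d + 2) := by ring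
      rw [Nat.pow_le_pow_iff_right hpp.one_lt] at h4
      -- an element of `D` outside `U` is fixed by `E₁`
      obtain ⟨n, hnD, hnU⟩ : ∃ n ∈ D, n ∉ U := by
        by_contra h
        push Not at h
        have := Subgroup.card_le_of_le (show D ≤ zpowers z from fun x hx => hD2 x hx (h x hx))
        rw [hd, hzp] at this
        have h5 : p ^ d ≤ p ^ 1 := by rwa [pow_one]
        rw [Nat.pow_le_pow_iff_right hpp.one_lt] at h5
        omega
      have h5 : E₁ ≤ D := fun e he => hEC ⟨he.1, hcent n hnD.2 hnU e he.2 (by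
        rw [eab_commute hE he.1 hnD.1, mul_inv_cancel_right])⟩
      have h6 := Subgroup.card_le_of_le h5
      have h7 : p ^ 4 ≤ p ^ (d + 1) := by
        calc p ^ 4 ≤ Nat.card E := hEc
          _ ≤ Nat.card E₁ * p := hE₁c
          _ ≤ p ^ d * p := Nat.mul_le_mul_right _ (hd ▸ h6)
          _ = p ^ (d + 1) := by ring
      rw [Nat.pow_le_pow_iff_right hpp.one_lt] at h7
      omega
    have hE₁E : E₁ = E := inf_eq_left.mpr hEU
    -- `D ≤ U`
    have hDU : D ≤ U := by
      by_contra hnot
      obtain ⟨n, hnD, hnU⟩ := SetLike.not_le_iff_exists.mp hnot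
      have h5 : E ≤ D := fun e he => hEC ⟨he, hcent n hnD.2 hnU e (hEU he) (by
        rw [eab_commute hE he hnD.1, mul_inv_cancel_right])⟩
      have h6 := Subgroup.card_le_of_le h5
      rw [hd] at h6
      have h7 := hEc.trans h6
      rw [Nat.pow_le_pow_iff_right hpp.one_lt] at h7
      omega
    have hDc : p ^ d ≤ p ^ 2 := by
      rw [← hd, ← hUc]; exact Subgroup.card_le_of_le hDU
    have h1 := himg U le_rfl (fun e _ => hw e n₀ hn₀)
    rw [hE₁E, hUc, hd] at h1
    have h2 : p ^ 4 ≤ p ^ (2 + d) := by rw [pow_add]; exact hEc.trans h1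
    rw [Nat.pow_le_pow_iff_right hpp.one_lt] at h2
    rw [Nat.pow_le_pow_iff_right hpp.one_lt] at hDc
    have hd' : d = 2 := by omega
    have hDeq : D = U := Subgroup.eq_of_le_of_card_ge hDU (by rw [hd, hd', hUc])
    refine ⟨hDeq ▸ inf_le_left, hEU, hDeq, le_antisymm ?_ hEc, hN3⟩
    rw [hd', ← pow_add] at h1
    exact h1
  -- an elementary abelian subgroup of order `p⁴` is normal
  obtain ⟨hU0, hE0C, hE0D, hE0c, hN3⟩ := hE E₀ hE₀ hE₀c
  have hnormal : E₀.Normal := by
    by_contra hnn
    set M := normalizer (E₀ : Set G) with hM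
    have hMne : M ≠ ⊤ := fun h => hnn (Subgroup.normalizer_eq_top_iff.mp h)
    obtain ⟨g, hg, hgM⟩ : ∃ g, g ∈ normalizer (M : Set G) ∧ g ∉ M := by
      have := normalizerCondition_of_isNilpotent (G := G) M (lt_top_iff_ne_top.mpr hMne)
      exact SetLike.exists_of_lt this
    set E' := E₀.map (MulAut.conj g).toMonoidHom with hE'
    have hE'e : IsElementaryAbelian p E' := eab_of_commute
      (by
        rintro _ ⟨a, ha, rfl⟩ _ ⟨b, hb, rfl⟩
        rw [← map_mul, ← map_mul, eab_commute hE₀ ha hb])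
      (by rintro _ ⟨a, ha, rfl⟩; rw [← map_pow, hE₀.2 a ha, map_one])
    have hE'c : Nat.card E' = p ^ 4 := by
      rw [hE', Subgroup.card_map_of_injective (MulAut.conj g).injective, hE0c]
    have hE'ne : E' ≠ E₀ := by
      intro h
      apply hgM
      rw [hM, mem_normalizer_iff]
      intro x
      constructor
      · intro hx
        have : g * x * g⁻¹ ∈ E' := ⟨x, hx, rfl⟩
        rw [h] at this; exact this
      · intro hx
        rw [← h] at hx
        obtain ⟨y, hy, hyx⟩ := hx
        have : y = x := by simpa using hyx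
        exact this ▸ hy
    have hE'M : E' ≤ M := by
      rintro _ ⟨a, ha, rfl⟩
      exact (mem_normalizer_iff.mp hg a).mp (le_normalizer ha)
    have hnorm : ∀ a ∈ E₀, ∀ b ∈ E', b * a * b⁻¹ ∈ E₀ ∧ a * b * a⁻¹ ∈ E' := by
      intro a ha b hb
      refine ⟨(mem_normalizer_iff.mp (hE'M hb) a).mp ha, ?_⟩
      obtain ⟨b₀, hb₀, rfl⟩ := hb
      have ha' : g⁻¹ * a * g ∈ M := by
        have := (mem_normalizer_iff.mp (Subgroup.inv_mem _ hg) a).mp (le_normalizer ha)
        rwa [inv_inv] at this
      refine ⟨(g⁻¹ * a * g) * b₀ * (g⁻¹ * a * g)⁻¹, (mem_normalizer_iff.mp ha' b₀).mp hb₀, ?_⟩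
      simp [MulAut.conj_apply, mul_assoc]
    obtain ⟨hU', hE'C, hE'D, -, -⟩ := hE E' hE'e hE'c.ge
    set D' := E₀ ⊓ E' with hD'
    set H := E₀ ⊔ E' with hH
    have hcD : ∀ d ∈ D', ∀ x ∈ H, d * x = x * d := by
      intro d hd x hx
      have : H ≤ centralizer ({d} : Set G) := sup_le
        (fun a ha => mem_centralizer_singleton_iff.mpr (eab_commute hE₀ hd.1 ha).symm)
        (fun a ha => mem_centralizer_singleton_iff.mpr (eab_commute hE'e hd.2 ha).symm)
      exact (mem_centralizer_singleton_iff.mp (this hx)).symm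
    have hnH : E₀ ≤ normalizer (E' : Set G) := by
      have h : ∀ a ∈ E₀, ∀ b ∈ E', a * b * a⁻¹ ∈ E' := fun a ha b hb => (hnorm a ha b hb).2
      intro a ha
      rw [mem_normalizer_iff]
      refine fun b => ⟨h a ha b, fun hb => ?_⟩
      have := h a⁻¹ (inv_mem ha) _ hb
      simpa [mul_assoc] using this
    have hHexp : ∀ x ∈ H, x ^ p = 1 := by
      intro x hx
      rw [hH, sup_comm] at hx
      obtain ⟨b, hb, a, ha, rfl⟩ := Cfsg.Agent.Lib.Coprime.exists_mul_of_mem_sup hnH hx
      have hdD : ⁅a, b⁆ ∈ D' := by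
        rw [commutatorElement_def]
        constructor
        · have h1 := mul_mem ha (hnorm a⁻¹ (inv_mem ha) b hb).1
          simpa [mul_assoc] using h1
        · exact Subgroup.mul_mem _ (hnorm a ha b hb).2 (Subgroup.inv_mem _ hb)
      refine mul_pow_eq_one_of_class_two hpp hodd (d := ⁅a, b⁆) ?_ (by rw [commutatorElement_def]; group)
        (hE₀.2 _ hdD.1) (hE'e.2 b hb) (hE₀.2 a ha)
      rintro y (rfl | rfl)
      · exact hcD _ hdD _ (mem_sup_right hb)
      · exact hcD _ hdD _ (mem_sup_left ha)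
    have hHU : H ≤ centralizer (U : Set G) := sup_le hE0C hE'C
    -- the order of `H`
    obtain ⟨n₀, hn₀, hn₀U⟩ : ∃ n ∈ N, n ∉ U := by
      by_contra h
      push Not at h
      have := Subgroup.card_le_of_le (show N ≤ U from h)
      omega
    obtain ⟨j, hj⟩ := hsub (H := D')
    -- `|H| = |E₀| |E'| / |D'|`
    have hHc : Nat.card H * Nat.card D' = p ^ 8 := by
      haveI : (E'.subgroupOf E₀).Normal := Subgroup.normal_subgroupOf_of_le_normalizer hnH
      haveI : (E'.subgroupOf (E₀ ⊔ E')).Normal := Subgroup.normal_subgroupOf_of_le_normalizer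
        (sup_le hnH le_normalizer)
      have h1 := Nat.card_congr (QuotientGroup.quotientInfEquivProdNormalizerQuotient E₀ E' hnH).toEquiv
      have h2 := Subgroup.card_eq_card_quotient_mul_card_subgroup (E'.subgroupOf E₀)
      have h3 := Subgroup.card_eq_card_quotient_mul_card_subgroup (E'.subgroupOf (E₀ ⊔ E'))
      have h4 : Nat.card (E'.subgroupOf E₀) = Nat.card D' := by
        rw [show E'.subgroupOf E₀ = D'.subgroupOf E₀ by ext x; simp [D', mem_subgroupOf]]
        exact Nat.card_congr (Subgroup.subgroupOfEquivOfLe inf_le_left).toEquiv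
      rw [Nat.card_congr (Subgroup.subgroupOfEquivOfLe (le_sup_right : E' ≤ E₀ ⊔ E')).toEquiv, hE'c] at h3
      rw [hE0c, h4] at h2
      rw [h3, ← h1, show p ^ 8 = p ^ 4 * p ^ 4 by ring]
      nth_rewrite 2 [h2]
      ring
    -- `H` maps into translations
    have hHle : Nat.card H ≤ p ^ 5 ∧ (Nat.card H = p ^ 5 → N ≤ H) := by
      have hmem : ∀ x ∈ H, x * n₀ * x⁻¹ * n₀⁻¹ ∈ N := fun x _ => mul_mem (hNn.conj_mem n₀ hn₀ x) (inv_mem hn₀)
      have hw : ∀ x ∈ H, x * n₀ * x⁻¹ * n₀⁻¹ ∈ U := by
        intro x _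
        haveI : (N.map (QuotientGroup.mk' U)).Normal :=
          Normal.map inferInstance _ (QuotientGroup.mk'_surjective U)
        haveI : Group.IsNilpotent (G ⧸ U) := (hG.to_quotient U).isNilpotent
        have hne : N.map (QuotientGroup.mk' U) ≠ ⊥ := by
          rw [Ne, Subgroup.map_eq_bot_iff, QuotientGroup.ker_mk']
          exact fun h => hn₀U (h hn₀)
        have hcardmap : Nat.card (N.map (QuotientGroup.mk' U)) = p := by
          have h1 := Subgroup.card_eq_card_quotient_mul_card_subgroup (U.subgroupOf N)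
          rw [Nat.card_congr (Subgroup.subgroupOfEquivOfLe hUN).toEquiv, hUc, hN3] at h1
          have e : ((QuotientGroup.mk' U).comp N.subtype).ker = U.subgroupOf N := by
            rw [← MonoidHom.comap_ker, QuotientGroup.ker_mk']
            rfl
          rw [← e, Nat.card_congr (QuotientGroup.quotientKerEquivRange _).toEquiv, MonoidHom.range_comp,
            range_subtype, show p ^ 3 = p * p ^ 2 by ring] at h1
          exact (Nat.eq_of_mul_eq_mul_right (pow_pos hpp.pos 2) h1).symm
        obtain ⟨v, hv, hv1⟩ :=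
          (bot_or_exists_ne_one _).resolve_left (Cfsg.Agent.Lib.Solvable.inf_center_ne_bot hne)
        have hall : N.map (QuotientGroup.mk' U) ≤ center (G ⧸ U) := by
          have e : zpowers v = N.map (QuotientGroup.mk' U) := Subgroup.eq_of_le_of_card_ge
            (zpowers_le.mpr hv.1) (by
              rw [hcardmap, Nat.card_zpowers]
              have hd := (Subgroup.orderOf_dvd_natCard _ hv.1)
              rw [hcardmap] at hd
              rcases (Nat.dvd_prime hpp).mp hd with h | h
              · exact absurd (orderOf_eq_one_iff.mp h) hv1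
              · rw [h])
          rw [← e, zpowers_le]
          exact hv.2
        rw [← QuotientGroup.eq_one_iff (N := U)]
        change QuotientGroup.mk' U (x * n₀ * x⁻¹ * n₀⁻¹) = 1
        rw [map_mul, map_mul, map_mul, map_inv, map_inv, mem_center_iff.mp (hall ⟨n₀, hn₀, rfl⟩),
          mul_inv_cancel_right, mul_inv_cancel]
      let f : H →* U := MonoidHom.mk' (fun e => ⟨(e : G) * n₀ * (e : G)⁻¹ * n₀⁻¹, hw e e.2⟩) fun e v => by
        apply Subtype.ext
        change (e : G) * v * n₀ * ((e : G) * v)⁻¹ * n₀⁻¹ =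
          (e : G) * n₀ * (e : G)⁻¹ * n₀⁻¹ * ((v : G) * n₀ * (v : G)⁻¹ * n₀⁻¹)
        have hu := hw v v.2
        calc (e : G) * v * n₀ * ((e : G) * v)⁻¹ * n₀⁻¹
            = ((e : G) * ((v : G) * n₀ * (v : G)⁻¹ * n₀⁻¹) * (e : G)⁻¹) * ((e : G) * n₀ * (e : G)⁻¹ * n₀⁻¹) := by
              group
          _ = ((v : G) * n₀ * (v : G)⁻¹ * n₀⁻¹) * ((e : G) * n₀ * (e : G)⁻¹ * n₀⁻¹) := by
              rw [← mem_centralizer_iff.mp (hHU e.2) _ hu, mul_inv_cancel_right]
          _ = _ := eab_commute hU hu (hw e e.2)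
      have hgenN : ∀ n ∈ N, n ∈ closure (insert n₀ (U : Set G)) := by
        have heq : closure (insert n₀ (U : Set G)) = N := by
          refine Subgroup.eq_of_le_of_card_ge ((closure_le _).mpr ?_) ?_
          · rintro x (rfl | hx)
            · exact hn₀
            · exact hUN hx
          · obtain ⟨i', hi'⟩ := hsub (H := closure (insert n₀ (U : Set G)))
            have hlt : Nat.card U < Nat.card (closure (insert n₀ (U : Set G))) := by
              by_contra h
              have e := Subgroup.eq_of_le_of_card_ge (fun x hx => subset_closure (Set.mem_insert_of_mem n₀ hx))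
                (not_lt.mp h)
              exact hn₀U (e.symm ▸ subset_closure (Set.mem_insert n₀ _))
            rw [hUc, hi', Nat.pow_lt_pow_iff_right hpp.one_lt] at hlt
            rw [hN3, hi']
            exact Nat.pow_le_pow_right hpp.pos (by omega)
        intro n hn
        rw [heq]; exact hn
      have hker : ∀ x : f.ker, (((x : H) : G)) ∈ N := fun x => by
        refine mem_of_pow_eq_one hodd hG hN hmax (mem_centralizer_iff.mpr fun n hn => ?_) (hHexp _ (x : H).2)
        have h : closure (insert n₀ (U : Set G)) ≤ centralizer ({((x : H) : G)} : Set G) := (closure_le _).mpr (by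
          rintro y (rfl | hy)
          · exact mem_centralizer_singleton_iff.mpr (mul_inv_eq_iff_eq_mul.mp
              (mul_inv_eq_one.mp (congrArg Subtype.val (MonoidHom.mem_ker.mp x.2)))).symm
          · exact mem_centralizer_singleton_iff.mpr (mem_centralizer_iff.mp (hHU (x : H).2) y hy))
        exact mem_centralizer_singleton_iff.mp (h (hgenN n hn))
      have h1 : Nat.card H = Nat.card (H ⧸ f.ker) * Nat.card f.ker := Subgroup.card_eq_card_quotient_mul_card_subgroup _
      rw [Nat.card_congr (QuotientGroup.quotientKerEquivRange f).toEquiv] at h1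
      let incl : f.ker → N := fun x => ⟨((x : H) : G), hker x⟩
      have hincl : Function.Injective incl := fun a b h =>
        Subtype.ext (Subtype.ext (congrArg (fun v : N => (v : G)) h))
      have hk := Nat.card_le_card_of_injective incl hincl
      have hr := Subgroup.card_le_card_group f.range
      refine ⟨?_, fun h5 => ?_⟩
      · rw [h1, show p ^ 5 = p ^ 2 * p ^ 3 by ring, ← hUc, ← hN3]
        exact Nat.mul_le_mul hr hk
      · intro n hn
        have hkeq : Nat.card f.ker = Nat.card N := by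
          refine le_antisymm hk ?_
          by_contra h
          have h6 := Nat.mul_lt_mul_of_le_of_lt hr (not_le.mp h) (Nat.card_pos (α := U))
          rw [← h1, h5, hUc, hN3, ← pow_add] at h6
          exact lt_irrefl _ h6
        obtain ⟨x, hx⟩ := ((Nat.bijective_iff_injective_and_card incl).mpr ⟨hincl, hkeq⟩).2 ⟨n, hn⟩
        have e : (((x : H) : G)) = n := congrArg Subtype.val hx
        exact e ▸ (x : H).2
    have hj3 : j ≤ 3 := by
      by_contra h
      refine hE'ne ?_
      have h0 : p ^ 4 ≤ Nat.card D' := by rw [hj]; exact Nat.pow_le_pow_right hpp.pos (by omega)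
      exact ((Subgroup.eq_of_le_of_card_ge (inf_le_right : D' ≤ E') (hE'c ▸ h0)).symm.trans
        (Subgroup.eq_of_le_of_card_ge (inf_le_left : D' ≤ E₀) (hE0c ▸ h0)))
    obtain ⟨l, hl⟩ := hsub (H := H)
    have hle := hHle.1
    rw [hl, hj, ← pow_add] at hHc
    rw [hl, Nat.pow_le_pow_iff_right hpp.one_lt] at hle
    have hsum := Nat.pow_right_injective hpp.two_le hHc
    have hN_le : N ≤ H := hHle.2 (by rw [hl, show l = 5 by omega])
    have hD'U : D' ≤ U := fun d hd => by
      have hdC : d ∈ centralizer (N : Set G) :=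
        mem_centralizer_iff.mpr fun n hn => (hcD d hd n (hN_le hn)).symm
      exact hE0D ▸ ⟨hd.1, mem_of_pow_eq_one hodd hG hN hmax hdC (hE₀.2 d hd.1)⟩
    have := Subgroup.card_le_of_le hD'U
    rw [hj, hUc, Nat.pow_le_pow_iff_right hpp.one_lt] at this
    omega
  exact absurd (hcon E₀ hnormal hE₀) (not_lt.mpr hE₀c)

end Cfsg.Agent.Lib.Components
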